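import Cfsg.Agent.Lib.SmallDegree.Main
import Cfsg.Agent.Lib.Blocks.PrimeDefect.Modular
import Cfsg.Agent.Lib.Blocks.BrauerFeit
import Cfsg.Agent.Lib.Char.Eigen
import Cfsg.Agent.Lib.Char.Extraspecial

/-!
# Faithful complex representations of small degree
-/

set_option autoImplicit false
set_option linter.unusedSectionVars false

namespace CfsgLib.SmallDegree

open Matrix

variable {G : Type*} [Group G] [Finite G] {p : ℕ} [hp : Fact p.Prime]

/-- A matrix of finite order prime to the residue characteristic reducing to the identity is the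
identity. -/
theorem eq_one_of_residue {V : ValuationSubring ℂ} [CharP (IsLocalRing.ResidueField V) p] {n : ℕ}
    {z : Matrix (Fin n) (Fin n) V} {q : ℕ} (hq : ¬ p ∣ q) (hz : z ^ q = 1)
    (hres : z.map (IsLocalRing.residue V) = 1) : z = 1 := by
  set S := ∑ i ∈ Finset.range q, z ^ i with hS
  have h0 : (z - 1) * S = 0 := by rw [hS, mul_geom_sum, hz, sub_self]
  have hSr : S.map (IsLocalRing.residue V) = (q : Matrix (Fin n) (Fin n) (IsLocalRing.ResidueField V)) := by
    show (IsLocalRing.residue V).mapMatrix S = _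
    rw [hS, map_sum]
    simp only [map_pow, RingHom.mapMatrix_apply, hres, one_pow, Finset.sum_const, Finset.card_range,
      nsmul_eq_mul, mul_one]
  have hunit : IsUnit S.det := by
    rw [← isUnit_map_iff (IsLocalRing.residue V), RingHom.map_det, RingHom.mapMatrix_apply, hSr,
      ← Matrix.diagonal_natCast, Matrix.det_diagonal, Finset.prod_const]
    refine (Ne.isUnit (pow_ne_zero _ ?_))
    rw [Ne, CharP.cast_eq_zero_iff _ p]
    exact hq
  have := congrArg (· * S⁻¹) h0
  simp only [mul_assoc, Matrix.mul_nonsing_inv _ hunit, mul_one, zero_mul, sub_eq_zero] at this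
  exact this

variable {W : Type} [AddCommGroup W] [Module ℂ W] [FiniteDimensional ℂ W]

/-- The orthogonal representation attached to a faithful complex representation. -/
theorem exists_orthogonal_of_complex (ρ : Representation ℂ G W) (hinj : ∀ g, ρ g = 1 → g = 1)
    {x : G} (hx : orderOf x = p) (hsq : ¬ p ^ 2 ∣ Nat.card G)
    (hnn : ∀ H : Subgroup G, H.Normal → Nat.card H ≠ p) (hp5 : 5 ≤ p)
    (hdim : 2 * Module.finrank ℂ W + 1 ≤ p) :
    ∃ (k : Type) (_ : Field k) (_ : CharP k p) (φ : G →* Matrix (Fin 3) (Fin 3) k),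
      (∀ g, (φ g)ᵀ * gramJ k * φ g = gramJ k) ∧ (∀ g, (φ g).det = 1) ∧
      φ x = adjMat (upperU 1) ∧ NN φ x := by
  classical
  obtain ⟨M, hM⟩ := Blocks.exists_isPModular hp.out
  have := Blocks.isPrime_of_isPModular hM
  obtain ⟨V, -, hI⟩ := Blocks.ValRed.exists_valuation M
  haveI := Blocks.PrimeDefect.charP_residue hM hI
  set κ' := IsLocalRing.ResidueField V
  obtain ⟨ι, hι, hι', b, hb⟩ := Blocks.ValRed.exists_integral_basis V ρ
  have hcard : Fintype.card ι = Module.finrank ℂ W := (Module.finrank_eq_card_basis b).symm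
  set n := Fintype.card ι
  let b' := b.reindex (Fintype.equivFin ι)
  have hb' : ∀ g i j, LinearMap.toMatrix b' b' (ρ g) i j ∈ V := fun g i j => by
    have := hb g ((Fintype.equivFin ι).symm i) ((Fintype.equivFin ι).symm j)
    simpa [b', LinearMap.toMatrix_apply, Module.Basis.repr_reindex_apply] using this
  let RV : G →* Matrix (Fin n) (Fin n) V :=
    { toFun := fun g => Matrix.of fun i j => ⟨_, hb' g i j⟩
      map_one' := by
        ext i j
        simp [Matrix.one_apply]
        split_ifs <;> simp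
      map_mul' := fun g h => by
        ext i j
        simp [LinearMap.toMatrix_mul, Matrix.mul_apply]
        rfl }
  have hRVinj : ∀ g, RV g = 1 → g = 1 := fun g hg => hinj g (by
    apply (LinearMap.toMatrix b' b').injective
    rw [LinearMap.toMatrix_one]
    ext i j
    have := congrArg Subtype.val (congrFun (congrFun hg i) j)
    simp [RV, Matrix.one_apply] at this
    rw [this, Matrix.one_apply]
    split_ifs <;> simp)
  let σ : G →* Module.End κ' (Fin n → κ') :=
    ((Matrix.toLinAlgEquiv' (R := κ')).toMulEquiv.toMonoidHom.comp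
      ((IsLocalRing.residue V).mapMatrix.toMonoidHom.comp RV))
  have hσ : ∀ g, σ g = 1 → (RV g).map (IsLocalRing.residue V) = 1 := fun g hg => by
    have := congrArg (Matrix.toLinAlgEquiv' (R := κ')).symm hg
    simpa [σ] using this
  set K := σ.toHomUnits.ker with hK
  have hKp : ∀ q : ℕ, q.Prime → q ≠ p → ¬ q ∣ Nat.card K := by
    intro q hq hqp hd
    haveI := Fact.mk hq
    obtain ⟨z, hz⟩ := exists_prime_orderOf_dvd_card' q hd
    have hzo : orderOf (z : G) = q := by rw [Subgroup.orderOf_coe, hz]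
    have h1 : RV z = 1 := eq_one_of_residue (p := p) (q := q)
      (fun h => hqp ((Nat.prime_dvd_prime_iff_eq hp.out hq).mp h).symm)
      (by rw [← map_pow, ← hzo, pow_orderOf_eq_one, map_one])
      (hσ _ (congrArg Units.val (MonoidHom.mem_ker.mp z.2)))
    rw [hRVinj _ h1, orderOf_one] at hzo
    exact hq.one_lt.ne hzo
  have hKbot : ∀ g, σ g = 1 → g = 1 := by
    intro g hg
    have hgK : g ∈ K := MonoidHom.mem_ker.mpr (Units.ext hg)
    by_contra h1
    have hne : Nat.card K ≠ 1 := fun hc => h1 (Subgroup.mem_bot.mp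
      ((Subgroup.card_eq_one.mp hc) ▸ hgK))
    have hpow : ∃ m, Nat.card K = p ^ m := ⟨_, Nat.eq_prime_pow_of_unique_prime_dvd
      Nat.card_pos.ne' fun {q} hq hd => by
        by_contra hqp
        exact hKp q hq hqp hd⟩
    obtain ⟨m, hm⟩ := hpow
    have hm0 : m ≠ 0 := fun h => hne (by rw [hm, h, pow_zero])
    have hm2 : m < 2 := by
      by_contra h
      exact hsq ((pow_dvd_pow p (not_lt.mp h)).trans (hm ▸ Subgroup.card_subgroup_dvd_card K))
    obtain rfl : m = 1 := by omega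
    exact hnn K inferInstance (by rw [hm, pow_one])
  have hNN : NN σ x := by
    have hPn : ¬ (Subgroup.zpowers x).Normal := fun h => hnn _ h (by rw [Nat.card_zpowers, hx])
    obtain ⟨g, hg⟩ : ∃ g, g * x * g⁻¹ ∉ Subgroup.zpowers x := by
      by_contra hall
      push_neg at hall
      refine hPn ⟨fun z hz g => ?_⟩
      obtain ⟨i, rfl⟩ := Subgroup.mem_zpowers_iff.mp hz
      rw [← conj_zpow]
      exact zpow_mem (hall g) i
    refine ⟨g, fun i hi => hg ?_⟩
    have h1 : σ (g * x * g⁻¹ * (x ^ i)⁻¹) = 1 := by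
      rw [map_mul, hi, ← map_mul, mul_inv_cancel, map_one]
    have := mul_inv_eq_one.mp (hKbot _ h1)
    exact this ▸ pow_mem (Subgroup.mem_zpowers x) i
  obtain ⟨φ, h1, h2, h3, h4⟩ := exists_orthogonal hp5 σ hx hsq
    (by rw [Module.finrank_fintype_fun_eq_card, Fintype.card_fin, hcard]; exact hdim) hNN
  exact ⟨κ', inferInstance, inferInstance, φ, h1, h2, h3, h4⟩

/-- The eigenvalues of `x` are stable under the automorphisms induced on its subgroup. -/
theorem exists_eigen (ρ : Representation ℂ G W) (hinj : ∀ g, ρ g = 1 → g = 1)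
    {x : G} (hx : orderOf x = p) :
    ∃ (b : Module.Basis (Fin (Module.finrank ℂ W)) ℂ W) (μ : Fin (Module.finrank ℂ W) → ℂ) (ζ : ℂ),
      IsPrimitiveRoot ζ p ∧ (∀ i, ρ x (b i) = μ i • b i) ∧
      ∀ (g : G) (a : ℕ), g * x * g⁻¹ = x ^ a → ∃ i, μ i = ζ ^ a := by
  obtain ⟨b, μ, hμ, hb⟩ := Char.exists_eigenBasis ρ x
  have hb1 : ∀ i, ρ x (b i) = μ i • b i := fun i => by simpa using hb i 1
  obtain ⟨i₀, hi₀⟩ : ∃ i, μ i ≠ 1 := by
    by_contra hall
    push_neg at hall
    have : ρ x = 1 := b.ext fun i => by rw [hb1, hall, one_smul]; rfl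
    exact hp.out.one_lt.ne' (by rw [← hx, hinj x this, orderOf_one])
  refine ⟨b, μ, μ i₀, (IsPrimitiveRoot.iff_orderOf).mpr
    (orderOf_eq_prime (by rw [← hx]; exact hμ i₀) hi₀), hb1, fun g a hga => ?_⟩
  set v := ρ g⁻¹ (b i₀) with hv
  have hv0 : v ≠ 0 := fun h => b.ne_zero i₀ (by
    have e : ρ g (ρ g⁻¹ (b i₀)) = b i₀ := by
      rw [← Module.End.mul_apply, ← map_mul, mul_inv_cancel, map_one, Module.End.one_apply]
    rw [← e, ← hv, h, map_zero])
  have hev : ρ x v = μ i₀ ^ a • v := by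
    have e : ρ x (ρ g⁻¹ (b i₀)) = ρ g⁻¹ (ρ (x ^ a) (b i₀)) := by
      rw [← Module.End.mul_apply, ← Module.End.mul_apply, ← map_mul, ← map_mul, ← hga]
      congr 2
      group
    rw [hv, e, hb, map_smul]
  by_contra hall
  push_neg at hall
  refine hv0 (b.ext_elem fun i => ?_)
  have h1 := congrArg (fun w => b.repr w i) hev
  conv_lhs at h1 => rw [← b.sum_repr v, map_sum]
  simp only [map_sum, map_smul, hb1, Finsupp.coe_finset_sum, Finset.sum_apply, Finsupp.smul_apply,
    Module.Basis.repr_self, Finsupp.single_apply, smul_eq_mul, mul_ite, mul_one, mul_zero,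
    Finset.sum_ite_eq', Finset.mem_univ, if_true] at h1
  rw [map_zero, Finsupp.zero_apply]
  by_contra hne
  exact hall i (mul_left_cancel₀ hne (h1.trans (mul_comm _ _)))

/-- Squares on the subgroup of order `p` force the degree to be at least `(p - 1) / 2`. -/
theorem exists_square_eigen (ρ : Representation ℂ G W) (hinj : ∀ g, ρ g = 1 → g = 1)
    {x : G} (hx : orderOf x = p)
    (hsquare : ∀ r : ℕ, ¬ p ∣ r → ∃ g : G, g * x * g⁻¹ = x ^ (r * r)) :
    ∃ (b : Module.Basis (Fin (Module.finrank ℂ W)) ℂ W) (μ : Fin (Module.finrank ℂ W) → ℂ) (ζ : ℂ)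
      (f : Fin ((p - 1) / 2) → Fin (Module.finrank ℂ W)),
      IsPrimitiveRoot ζ p ∧ (∀ i, ρ x (b i) = μ i • b i) ∧ Function.Injective f ∧
      (∀ j, μ (f j) = ζ ^ (((j : ℕ) + 1) * ((j : ℕ) + 1))) ∧
      ∀ (g : G) (a : ℕ), g * x * g⁻¹ = x ^ a → ∃ i, μ i = ζ ^ a := by
  obtain ⟨b, μ, ζ, hζ, hb, hgal⟩ := exists_eigen ρ hinj hx
  have hsel : ∀ j : Fin ((p - 1) / 2), ∃ i, μ i = ζ ^ (((j : ℕ) + 1) * ((j : ℕ) + 1)) := fun j => by
    obtain ⟨g, hg⟩ := hsquare ((j : ℕ) + 1) fun h => by
      have := Nat.le_of_dvd (Nat.succ_pos _) h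
      have := j.2
      omega
    exact hgal g _ hg
  choose f hf using hsel
  refine ⟨b, μ, ζ, f, hζ, hb, fun i j hij => ?_, hf, hgal⟩
  have h := (hf i).symm.trans (hij ▸ hf j)
  rw [pow_eq_pow_mod _ hζ.pow_eq_one,
    pow_eq_pow_mod ((((j : ℕ) + 1)) * ((j : ℕ) + 1)) hζ.pow_eq_one] at h
  replace h : ((i : ℕ) + 1) * ((i : ℕ) + 1) ≡ ((j : ℕ) + 1) * ((j : ℕ) + 1) [MOD p] :=
    hζ.pow_inj (Nat.mod_lt _ hp.out.pos) (Nat.mod_lt _ hp.out.pos) h
  have h' : ((i : ℕ) + 1 : ZMod p) * ((i : ℕ) + 1) = ((j : ℕ) + 1) * ((j : ℕ) + 1) := by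
    have := (ZMod.natCast_eq_natCast_iff _ _ _).mpr h
    push_cast at this
    exact this
  rw [mul_self_eq_mul_self_iff] at h'
  have hi := i.2
  have hj := j.2
  rcases h' with h' | h'
  · have h'' : (((i : ℕ) + 1 : ℕ) : ZMod p) = (((j : ℕ) + 1 : ℕ) : ZMod p) := by push_cast; exact h'
    rw [ZMod.natCast_eq_natCast_iff] at h''
    have := Nat.ModEq.eq_of_lt_of_lt h'' (by omega) (by omega)
    exact Fin.ext (by omega)
  · exfalso
    have h'' : (((i : ℕ) + 1 + ((j : ℕ) + 1) : ℕ) : ZMod p) = 0 := by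
      push_cast
      linear_combination h'
    rw [ZMod.natCast_eq_zero_iff] at h''
    have := Nat.le_of_dvd (by omega) h''
    omega

/-- The faithful character hypothesis as a representation. -/
theorem exists_faithful_rep {χ : G → ℂ} (hχ : Cfsg.IsCharacter G χ)
    (hfaith : ∀ g : G, χ g = χ 1 → g = 1) :
    ∃ (n : ℕ) (ρ : Representation ℂ G (Fin n → ℂ)), Cfsg.charDegree χ = n ∧
      ∀ g, ρ g = 1 → g = 1 := by
  obtain ⟨n, ρ, rfl⟩ := hχ
  refine ⟨n, ρ, Char.Extraspecial.charDegree_eq ?_, fun g hg => hfaith g ?_⟩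
  · rw [Representation.char_one, Module.finrank_fintype_fun_eq_card, Fintype.card_fin]
  · show LinearMap.trace ℂ _ (ρ g) = LinearMap.trace ℂ _ (ρ 1)
    rw [hg, MonoidHom.map_one ρ]

end CfsgLib.SmallDegree
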