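import Cfsg.Agent.Lib.SmallDegree.Reduction
import Mathlib.LinearAlgebra.Matrix.ProjectiveSpecialLinearGroup

/-!
# Faithful representations of degree `(p - 1) / 2`
-/

set_option autoImplicit false
set_option linter.unusedSectionVars false

namespace CfsgLib.SmallDegree

open Matrix

local notation "SL2" => Matrix.SpecialLinearGroup (Fin 2)

variable {G : Type*} [Group G] [Finite G] {p : ℕ} [hp : Fact p.Prime]

/-- `SL₂(p)` is generated by two unitriangular elements. -/
theorem eq_top_of_uSL_lSL {H : Subgroup (SL2 (ZMod p))} (hu : uSL 1 ∈ H) (hl : lSL (-1) ∈ H) :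
    H = ⊤ := by
  have hHu : ∀ a : ZMod p, uSL a ∈ H := fun a => by
    rw [show uSL a = uSL (1 : ZMod p) ^ a.val by rw [uSL_pow, ZMod.natCast_zmod_val, mul_one]]
    exact pow_mem hu _
  have hHl : ∀ a : ZMod p, lSL a ∈ H := fun a => by
    rw [show lSL a = lSL (-1 : ZMod p) ^ (-a).val by
      rw [lSL_pow, ZMod.natCast_zmod_val, neg_mul_neg, mul_one]]
    exact pow_mem hl _
  refine eq_top_iff.mpr fun t _ => ?_
  have hgen : ∀ t : SL2 (ZMod p), (t : Matrix (Fin 2) (Fin 2) (ZMod p)) 1 0 ≠ 0 → t ∈ H := by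
    intro t hne
    set n := (t : Matrix (Fin 2) (Fin 2) (ZMod p)) 1 0 with hn
    have hdet := t.2
    rw [Matrix.det_fin_two, ← hn] at hdet
    have e : t = uSL (((t : Matrix (Fin 2) (Fin 2) (ZMod p)) 0 0 - 1) / n) * lSL n *
        uSL (((t : Matrix (Fin 2) (Fin 2) (ZMod p)) 1 1 - 1) / n) := by
      refine Subtype.ext ?_
      ext i j
      fin_cases i <;> fin_cases j <;>
        simp [coe_uSL, coe_lSL, Matrix.mul_apply, Fin.sum_univ_two, ← hn, div_mul_cancel₀ _ hne,
          mul_div_cancel₀ _ hne, -Matrix.cons_mul]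
      field_simp
      linear_combination -hdet
    rw [e]
    exact mul_mem (mul_mem (hHu _) (hHl _)) (hHu _)
  by_cases h10 : (t : Matrix (Fin 2) (Fin 2) (ZMod p)) 1 0 = 0
  · have h11 : (t : Matrix (Fin 2) (Fin 2) (ZMod p)) 1 1 ≠ 0 := fun h => by
      have hdet := t.2
      rw [Matrix.det_fin_two, h10, h] at hdet
      simp at hdet
    have := hgen (t * lSL 1) (by
      simpa [coe_lSL, Matrix.mul_apply, Fin.sum_univ_two, h10, -Matrix.cons_mul] using h11)
    exact (mul_mem_cancel_right (hHl 1)).mp this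
  · exact hgen t h10

variable {W : Type} [AddCommGroup W] [Module ℂ W] [FiniteDimensional ℂ W]

/-- The quotient by the centre is `PSL₂(p)`. -/
theorem psl_of_half_degree (ρ : Representation ℂ G W) (hinj : ∀ g, ρ g = 1 → g = 1)
    {x : G} (hx : orderOf x = p) (hsq : ¬ p ^ 2 ∣ Nat.card G)
    (hnn : ∀ H : Subgroup G, H.Normal → Nat.card H ≠ p) (hp5 : 5 ≤ p)
    (hdim : 2 * Module.finrank ℂ W + 1 = p) :
    Nonempty ((G ⧸ Subgroup.center G) ≃* Matrix.ProjectiveSpecialLinearGroup (Fin 2) (ZMod p)) := by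
  classical
  obtain ⟨k, _, _, φ, hiso, hdet, hφx, hφn⟩ :=
    exists_orthogonal_of_complex ρ hinj hx hsq hnn hp5 hdim.le
  have h2 : (2 : k) ≠ 0 := ne_zero_two (k := k) (p := p) (by omega)
  obtain ⟨μ, hL1, hL2⟩ := exists_SL2_image hp5 φ hiso hdet hx hφx hsq hφn
  set f := ZMod.castHom (dvd_refl p) k with hf
  set Φ := φ.toHomUnits with hΦ
  let ψ : SL2 (ZMod p) →* (Matrix (Fin 3) (Fin 3) k)ˣ :=
    ((adjHom (R := k)).toHomUnits.comp (MulAut.conj (uSL μ)).toMonoidHom).comp
      (Matrix.SpecialLinearGroup.map f)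
  have hψval : ∀ t, (ψ t : Matrix (Fin 3) (Fin 3) k) =
      adjHom (uSL μ * Matrix.SpecialLinearGroup.map f t * uSL (-μ)) := fun t => by
    show adjHom (MulAut.conj (uSL μ) (Matrix.SpecialLinearGroup.map f t)) = _
    rw [MulAut.conj_apply, uSL_inv]
  have hψΦ : ∀ t, ψ t ∈ Φ.range := fun t => by
    obtain ⟨a, ha⟩ := hL1 t
    exact ⟨a, Units.ext (by rw [hψval, ← ha]; rfl)⟩
  have hψu : ψ (uSL 1) = Φ x := Units.ext (by
    rw [hψval, show Matrix.SpecialLinearGroup.map f (uSL (1 : ZMod p)) = uSL (1 : k) from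
      Subtype.ext (by ext r c; fin_cases r <;> fin_cases c <;> simp [coe_uSL]),
      uSL_mul, uSL_mul, show μ + 1 + -μ = (1 : k) by ring, adjHom_uSL, ← hφx]
    rfl)
  have hord : orderOf (Φ x) = p := by
    refine orderOf_eq_prime (by rw [← map_pow, ← hx, pow_orderOf_eq_one, map_one]) fun h => ?_
    have h' : φ x = 1 := congrArg Units.val h
    rw [hφx, adjMat_upperU] at h'
    have := congrFun (congrFun h' 1) 2
    simp at this
  -- kernel of ψ is the centre
  have hinjf : Function.Injective (Matrix.SpecialLinearGroup.map (n := Fin 2) f) := fun a b h =>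
    Subtype.ext (Matrix.ext fun i j => RingHom.injective f
      (congrFun (congrFun (congrArg Subtype.val h) i) j))
  have hker : ψ.ker = Subgroup.center (SL2 (ZMod p)) := by
    ext t
    rw [MonoidHom.mem_ker]
    constructor
    · intro h
      have h' : adjHom (uSL μ * Matrix.SpecialLinearGroup.map f t * uSL (-μ)) = 1 := by
        rw [← hψval, h]; rfl
      have h1 : Matrix.SpecialLinearGroup.map f t = 1 ∨ Matrix.SpecialLinearGroup.map f t = -1 := by
        rcases adjHom_eq_one h2 h' with e | e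
        · left
          rw [← uSL_inv, mul_inv_eq_one] at e
          exact mul_left_cancel (e.trans (mul_one _).symm)
        · right
          have := congrArg (fun z => (uSL μ)⁻¹ * z * uSL μ) e
          rw [← uSL_inv] at this
          simpa [mul_assoc] using this
      rw [Subgroup.mem_center_iff]
      intro s
      apply hinjf
      rw [map_mul, map_mul]
      rcases h1 with e | e <;> simp [e]
    · intro h
      obtain ⟨r, hr, hrt⟩ := Matrix.SpecialLinearGroup.mem_center_iff.mp h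
      rw [Fintype.card_fin] at hr
      refine Units.ext ?_
      have hfr : f r * f r = 1 := by rw [← map_mul, ← pow_two, hr, map_one]
      have hmap : (Matrix.SpecialLinearGroup.map f t : Matrix (Fin 2) (Fin 2) k) = Matrix.scalar _ (f r) := by
        show (t : Matrix (Fin 2) (Fin 2) (ZMod p)).map f = _
        rw [← hrt]
        ext i j
        fin_cases i <;> fin_cases j <;> simp
      have hc : Commute (uSL μ) (Matrix.SpecialLinearGroup.map f t) := Subtype.ext (by
        rw [Matrix.SpecialLinearGroup.coe_mul, Matrix.SpecialLinearGroup.coe_mul, hmap]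
        exact ((Matrix.scalar_commute (f r) (Commute.all _) _).symm).eq)
      rw [hψval, hc.eq, mul_assoc, uSL_mul, add_neg_cancel, uSL_zero, mul_one, Units.val_one]
      show adjMat (Matrix.SpecialLinearGroup.map f t : Matrix (Fin 2) (Fin 2) k) = 1
      rw [hmap]
      ext i j
      fin_cases i <;> fin_cases j <;> simp [adjMat, hfr]
  -- eigenvalues
  obtain ⟨b, ev, ζ, sel, hζ, hb, hsel, hselv, hgal⟩ := exists_square_eigen ρ hinj hx fun r hr =>
    exists_square hp5 φ hiso hdet hx hφx hsq hφn hr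
  have hselS : Function.Surjective sel := by
    refine (Fintype.bijective_iff_injective_and_card sel).mpr ⟨hsel, ?_⟩ |>.2
    rw [Fintype.card_fin, Fintype.card_fin]
    omega
  have hevinj : Function.Injective ev := by
    intro i i' h
    obtain ⟨j, rfl⟩ := hselS i
    obtain ⟨j', rfl⟩ := hselS i'
    rw [hselv, hselv, pow_eq_pow_mod _ hζ.pow_eq_one,
      pow_eq_pow_mod ((((j' : ℕ) + 1)) * ((j' : ℕ) + 1)) hζ.pow_eq_one] at h
    have h' := (ZMod.natCast_eq_natCast_iff _ _ p).mpr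
      (hζ.pow_inj (Nat.mod_lt _ hp.out.pos) (Nat.mod_lt _ hp.out.pos) h)
    push_cast at h'
    have hj := j.2
    have hj' := j'.2
    rcases mul_self_eq_mul_self_iff.mp h' with e | e
    · have e' : (((j : ℕ) + 1 : ℕ) : ZMod p) = (((j' : ℕ) + 1 : ℕ) : ZMod p) := by push_cast; exact e
      rw [ZMod.natCast_eq_natCast_iff] at e'
      have := Nat.ModEq.eq_of_lt_of_lt e' (by omega) (by omega)
      rw [Fin.ext (by omega : (j : ℕ) = j')]
    · exfalso
      have e' : (((j : ℕ) + 1 + ((j' : ℕ) + 1) : ℕ) : ZMod p) = 0 := by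
        push_cast
        linear_combination e
      rw [ZMod.natCast_eq_zero_iff] at e'
      have := Nat.le_of_dvd (by omega) e'
      omega
  -- elements of the range commuting with the unipotent
  haveI hfin : Finite Φ.range := Finite.of_surjective Φ.rangeRestrict Φ.rangeRestrict_surjective
  have hsqR : ¬ p ^ 2 ∣ Nat.card Φ.range := fun h => hsq (h.trans (Subgroup.card_range_dvd Φ))
  have hcent : ∀ g : G, Commute (Φ g) (Φ x) → Φ g ∈ Subgroup.zpowers (Φ x) := by
    intro g hg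
    obtain ⟨s, hs⟩ := centralizer_regular h2 (hiso g) (hdet g)
      (by rw [← hφx]; exact congrArg Units.val hg.eq)
    have hgp : Φ g ^ p = 1 := Units.ext (by
      rw [Units.val_pow_eq_pow_val]
      show φ g ^ p = 1
      rw [hs, ← adjHom_uSL, ← map_pow, uSL_pow, CharP.cast_eq_zero, zero_mul, uSL_zero, map_one])
    have hxo : orderOf (Φ.rangeRestrict x) = p := by
      rw [← Subgroup.orderOf_coe]; exact hord
    have hmem := mem_zpowers_of_normalize hsqR hxo (y := Φ.rangeRestrict g) ?_ (n := 1)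
      (Subtype.ext (by simpa using hgp))
    · obtain ⟨i, hi⟩ := Subgroup.mem_zpowers_iff.mp hmem
      exact ⟨i, congrArg Subtype.val hi⟩
    · refine Subgroup.centralizer_le_normalizer _ (Subgroup.mem_centralizer_iff.mpr fun z hz => ?_)
      obtain ⟨l, rfl⟩ := Subgroup.mem_zpowers_iff.mp hz
      have hc : Commute (Φ.rangeRestrict x) (Φ.rangeRestrict g) := Subtype.ext hg.symm.eq
      exact (hc.zpow_left l).eq
  set L := ψ.range with hL
  have hxL : Φ x ∈ L := ⟨uSL 1, hψu⟩
  have hLle : L ≤ Φ.range := fun z ⟨t, ht⟩ => ht ▸ hψΦ t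
  haveI hLfin : Finite L := Finite.of_injective _ (Subgroup.inclusion_injective hLle)
  have hsqL : ¬ p ^ 2 ∣ Nat.card L := fun h => hsqR (h.trans (Subgroup.card_dvd_of_le hLle))
  have hpreimage : ∀ g : G, Φ g ∈ Subgroup.zpowers (Φ x) → Φ g ∈ L := fun g hg =>
    (Subgroup.zpowers_le.mpr hxL) hg
  have hrange : Φ.range = L := by
    refine le_antisymm ?_ hLle
    rintro _ ⟨g, rfl⟩
    set y := g * x * g⁻¹ with hy
    obtain ⟨t, ht⟩ := hL2 g
    have hyL : Φ y ∈ L := ⟨t, Units.ext (by rw [hψval, ← ht]; rfl)⟩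
    have hyo : orderOf (Φ y) = p := by
      rw [hy, map_mul, map_mul, map_inv,
        show Φ g * Φ x * (Φ g)⁻¹ = (MulAut.conj (Φ g)).toMonoidHom (Φ x) by simp,
        orderOf_injective (MulAut.conj (Φ g)).toMonoidHom (MulAut.conj (Φ g)).injective, hord]
    obtain ⟨l, -, c, hc⟩ := exists_conj_pow hsqL ⊤ (x := ⟨Φ x, hxL⟩) (y := ⟨Φ y, hyL⟩)
      (by rw [Subgroup.orderOf_mk, hord]) (by rw [Subgroup.orderOf_mk, hyo]) trivial trivial
    have hc' : (l : (Matrix (Fin 3) (Fin 3) k)ˣ) * Φ y * (l : (Matrix (Fin 3) (Fin 3) k)ˣ)⁻¹ = Φ x ^ c := by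
      simpa using congrArg Subtype.val hc
    obtain ⟨a, ha⟩ := hLle l.2
    set g₁ := a * g with hg₁
    set H := (Subgroup.zpowers (Φ x)).comap Φ with hH
    have hxH : x ∈ H := by rw [hH, Subgroup.mem_comap]; exact Subgroup.mem_zpowers _
    have hg₁x : Φ (g₁ * x * g₁⁻¹) = Φ x ^ c := by
      rw [← hc', hg₁, show a * g * x * (a * g)⁻¹ = a * y * a⁻¹ by rw [hy]; group, map_mul, map_mul,
        map_inv, ha]
    have hg₁H : g₁ * x * g₁⁻¹ ∈ H := by
      rw [hH, Subgroup.mem_comap, hg₁x]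
      exact pow_mem (Subgroup.mem_zpowers _) _
    obtain ⟨h, hhH, d, hd⟩ := exists_conj_pow hsq H hx (y := g₁ * x * g₁⁻¹) (by
      rw [show g₁ * x * g₁⁻¹ = (MulAut.conj g₁).toMonoidHom x by simp,
        orderOf_injective (MulAut.conj g₁).toMonoidHom (MulAut.conj g₁).injective, hx]) hxH hg₁H
    have hg₂ : h * g₁ * x * (h * g₁)⁻¹ = x ^ d := by rw [← hd]; group
    obtain ⟨i, hi⟩ := hgal _ d hg₂
    obtain ⟨j, rfl⟩ := hselS i
    set r := (j : ℕ) + 1 with hr
    have hrd : r * r ≡ d [MOD p] := by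
      have e := (hselv j).symm.trans hi
      rw [← hr, pow_eq_pow_mod _ hζ.pow_eq_one, pow_eq_pow_mod d hζ.pow_eq_one] at e
      exact hζ.pow_inj (Nat.mod_lt _ hp.out.pos) (Nat.mod_lt _ hp.out.pos) e
    have hxd : x ^ d = x ^ (r * r) := by
      rw [pow_eq_pow_iff_modEq, hx]; exact hrd.symm
    have hr0 : (r : ZMod p) ≠ 0 := fun h0 => by
      rw [ZMod.natCast_eq_zero_iff] at h0
      have := Nat.le_of_dvd (Nat.succ_pos _) h0
      have := j.2
      omega
    let T : SL2 (ZMod p) := ⟨!![(r : ZMod p), 0; 0, (r : ZMod p)⁻¹], by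
      simp [Matrix.det_fin_two, hr0]⟩
    have hT : ψ T * Φ x * (ψ T)⁻¹ = Φ x ^ (r * r) := by
      rw [← hψu, ← map_inv, ← map_mul, ← map_mul, ← map_pow, uSL_pow, mul_one]
      congr 1
      rw [mul_inv_eq_iff_eq_mul]
      have hTv : (T : Matrix (Fin 2) (Fin 2) (ZMod p)) = !![(r : ZMod p), 0; 0, (r : ZMod p)⁻¹] := rfl
      clear_value T
      refine Subtype.ext ?_
      ext u v
      fin_cases u <;> fin_cases v <;>
        simp [hTv, coe_uSL, Matrix.mul_apply, Fin.sum_univ_two, -Matrix.cons_mul]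
    obtain ⟨aT, haT⟩ := hψΦ T
    have hcm : Commute (Φ (aT⁻¹ * (h * g₁))) (Φ x) := by
      have e1 : Φ (h * g₁) * Φ x * (Φ (h * g₁))⁻¹ = Φ x ^ (r * r) := by
        rw [← map_inv, ← map_mul, ← map_mul, hg₂, hxd, map_pow]
      rw [← hT, ← haT] at e1
      show Φ (aT⁻¹ * (h * g₁)) * Φ x = Φ x * Φ (aT⁻¹ * (h * g₁))
      rw [map_mul, map_inv]
      calc (Φ aT)⁻¹ * Φ (h * g₁) * Φ x = (Φ aT)⁻¹ * (Φ (h * g₁) * Φ x * (Φ (h * g₁))⁻¹) * Φ (h * g₁) := by
            group
        _ = _ := by rw [e1]; group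
    have hin := hpreimage _ (hcent _ hcm)
    have hTL : Φ aT ∈ L := haT ▸ ⟨T, rfl⟩
    have hhL : Φ h ∈ L := hpreimage _ (Subgroup.mem_comap.mp hhH)
    have haL : Φ a ∈ L := ha.symm ▸ l.2
    rw [map_mul, map_inv, L.mul_mem_cancel_left (inv_mem hTL), map_mul,
      L.mul_mem_cancel_left hhL, hg₁, map_mul, L.mul_mem_cancel_left haL] at hin
    exact hin
  -- the kernel is central
  set K := Φ.ker with hK
  have hKcomm : ∀ c ∈ K, c * x = x * c := by
    intro c hc
    set H := (Subgroup.zpowers (Φ x)).comap Φ with hH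
    have hxH : x ∈ H := by rw [hH, Subgroup.mem_comap]; exact Subgroup.mem_zpowers _
    have hcH : c ∈ H := by rw [hH, Subgroup.mem_comap, MonoidHom.mem_ker.mp hc]; exact one_mem _
    set x' : H := ⟨x, hxH⟩
    have hx' : orderOf x' = p := by rw [Subgroup.orderOf_mk, hx]
    have hsqH : ¬ p ^ 2 ∣ Nat.card H := fun h => hsq (h.trans (Subgroup.card_subgroup_dvd_card H))
    by_cases hnH : ∀ S : Subgroup H, S.Normal → Nat.card S ≠ p
    · exfalso
      obtain ⟨k', _, _, φ', a1, a2, a3, a4⟩ := exists_orthogonal_of_complex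
        (ρ.comp H.subtype) (fun g hg => Subtype.ext (hinj g hg)) hx' hsqH hnH hp5 hdim.le
      obtain ⟨g, hg⟩ := exists_square hp5 φ' a1 a2 hx' a3 hsqH a4 (r := 2)
        (fun h => absurd (Nat.le_of_dvd two_pos h) (by omega))
      obtain ⟨i, hi⟩ := Subgroup.mem_zpowers_iff.mp (Subgroup.mem_comap.mp g.2)
      have e := congrArg (fun z : H => Φ (z : G)) hg
      simp only [Subgroup.coe_mul, InvMemClass.coe_inv, SubmonoidClass.coe_pow, map_mul, map_inv,
        map_pow, x'] at e
      rw [← hi, (Commute.zpow_self (Φ x) i).eq, mul_inv_cancel_right] at e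
      have e' : Φ x ^ 1 = Φ x ^ (2 * 2) := by rw [pow_one]; exact e
      rw [pow_eq_pow_iff_modEq, hord] at e'
      have := (Nat.modEq_iff_dvd' (by norm_num)).mp e'
      exact absurd (Nat.le_of_dvd (by norm_num) this) (by omega)
    push_neg at hnH
    obtain ⟨S, hS, hSc⟩ := hnH
    have hSx : S = Subgroup.zpowers x' := by
      haveI := Fact.mk hp.out
      obtain ⟨z, hz⟩ := exists_prime_orderOf_dvd_card' p (dvd_of_eq hSc.symm)
      obtain ⟨l, -, m, hm⟩ := exists_conj_pow hsqH ⊤ (x := (z : H))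
        (by rw [Subgroup.orderOf_coe, hz]) hx' trivial trivial
      have hxS : x' ∈ S := by
        have h1 : l * x' * l⁻¹ ∈ S := hm ▸ pow_mem z.2 m
        simpa [mul_assoc] using hS.conj_mem _ h1 l⁻¹
      exact (Subgroup.eq_of_le_of_card_ge (Subgroup.zpowers_le.mpr hxS)
        (by rw [hSc, Nat.card_zpowers, hx'])).symm
    have hcx : (⟨c, hcH⟩ : H) * x' * (⟨c, hcH⟩ : H)⁻¹ ∈ Subgroup.zpowers x' :=
      hSx ▸ hS.conj_mem _ (hSx ▸ Subgroup.mem_zpowers x') _
    rw [← mem_powers_iff_mem_zpowers] at hcx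
    obtain ⟨m, hm⟩ := hcx
    have hm' : x ^ m = c * x * c⁻¹ := congrArg Subtype.val hm
    have e := congrArg Φ hm'
    rw [map_pow, map_mul, map_mul, map_inv, MonoidHom.mem_ker.mp hc, one_mul, inv_one, mul_one] at e
    have e' : Φ x ^ m = Φ x ^ 1 := by rw [pow_one]; exact e
    rw [pow_eq_pow_iff_modEq, hord, ← hx, ← pow_eq_pow_iff_modEq, pow_one, hm'] at e'
    exact mul_inv_eq_iff_eq_mul.mp e'
  have hKab : ∀ a ∈ K, ∀ c ∈ K, a * c = c * a := by
    intro a ha c hc
    have hdiag : ∀ d ∈ K, ∀ i, ∃ l : ℂ, ρ d (b i) = l • b i := by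
      intro d hd i
      refine ⟨b.repr (ρ d (b i)) i, ?_⟩
      have e : ρ x (ρ d (b i)) = ev i • ρ d (b i) := by
        rw [← Module.End.mul_apply, ← map_mul, ← hKcomm d hd, map_mul, Module.End.mul_apply, hb,
          map_smul]
      refine b.ext_elem fun i' => ?_
      rw [map_smul, Finsupp.smul_apply, Module.Basis.repr_self, Finsupp.single_apply]
      have h1 := congrArg (fun w => b.repr w i') e
      conv_lhs at h1 => rw [← b.sum_repr (ρ d (b i)), map_sum]
      simp only [map_sum, map_smul, hb, Finsupp.coe_finset_sum, Finset.sum_apply, Finsupp.smul_apply,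
        Module.Basis.repr_self, Finsupp.single_apply, smul_eq_mul, mul_ite, mul_one, mul_zero,
        Finset.sum_ite_eq', Finset.mem_univ, if_true] at h1
      by_cases hii : i = i'
      · subst hii; simp
      · rw [if_neg hii, smul_zero]
        by_contra hne
        exact hii (hevinj (mul_left_cancel₀ hne (h1.trans (mul_comm _ _))).symm)
    have : ρ (a * c) = ρ (c * a) := by
      refine b.ext fun i => ?_
      obtain ⟨l, hl⟩ := hdiag a ha i
      obtain ⟨m, hm⟩ := hdiag c hc i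
      rw [map_mul, map_mul, Module.End.mul_apply, Module.End.mul_apply, hm, map_smul, hl, map_smul,
        hm, smul_comm]
    have h1 : ρ (a * c * (c * a)⁻¹) = 1 := by
      rw [map_mul, this, ← map_mul, mul_inv_cancel, map_one]
    exact mul_inv_eq_one.mp (hinj _ h1)
  -- everything centralises the kernel
  set C := Subgroup.centralizer (K : Set G) with hCdef
  have hKC : K ≤ C := fun a ha => Subgroup.mem_centralizer_iff.mpr fun c hc => hKab c hc a ha
  have hconjC : ∀ g : G, g * x * g⁻¹ ∈ C := by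
    intro g
    refine Subgroup.mem_centralizer_iff.mpr fun c hc => ?_
    have h := hKcomm _ ((inferInstance : K.Normal).conj_mem c hc g⁻¹)
    have := congrArg (fun z => g * z * g⁻¹) h
    simpa [mul_assoc] using this
  have hCtop : ∀ g : G, g ∈ C := by
    intro g
    have hw : ∃ w : SL2 (ZMod p), w * uSL 1 * w⁻¹ = lSL (-1) := by
      obtain ⟨w, hwv⟩ : ∃ w : SL2 (ZMod p), (w : Matrix (Fin 2) (Fin 2) (ZMod p)) = !![0, 1; -1, 0] :=
        ⟨⟨!![0, 1; -1, 0], by simp [Matrix.det_fin_two]⟩, rfl⟩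
      refine ⟨w, mul_inv_eq_iff_eq_mul.mpr ?_⟩
      refine Subtype.ext ?_
      ext u v
      fin_cases u <;> fin_cases v <;>
        simp [hwv, coe_uSL, coe_lSL, Matrix.mul_apply, Fin.sum_univ_two, -Matrix.cons_mul]
    obtain ⟨w, hw⟩ := hw
    obtain ⟨aw, haw⟩ := hψΦ w
    have htop := eq_top_of_uSL_lSL (H := (C.map Φ).comap ψ)
      (Subgroup.mem_comap.mpr ⟨x, by simpa using hconjC 1, hψu.symm⟩)
      (Subgroup.mem_comap.mpr ⟨aw * x * aw⁻¹, hconjC aw, by
        rw [← hw, map_mul, map_mul, map_inv, map_mul, map_mul, map_inv, haw, hψu]⟩)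
    obtain ⟨t, ht⟩ : Φ g ∈ L := hrange ▸ ⟨g, rfl⟩
    obtain ⟨c, hc, hce⟩ := Subgroup.mem_comap.mp (htop ▸ Subgroup.mem_top t)
    have hgc : g * c⁻¹ ∈ K := by
      rw [hK, MonoidHom.mem_ker, map_mul, map_inv, hce, ht, mul_inv_cancel]
    have := mul_mem (hKC hgc) hc
    rwa [inv_mul_cancel_right] at this
  have hcenter : Subgroup.center G = K := by
    refine le_antisymm (fun c hc => ?_) fun c hc => Subgroup.mem_center_iff.mpr fun g =>
      (Subgroup.mem_centralizer_iff.mp (hCtop g) c hc).symm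
    rw [hK, MonoidHom.mem_ker]
    have hcm : ∀ g, Commute (Φ c) (Φ g) := fun g => by
      show Φ c * Φ g = Φ g * Φ c
      rw [← map_mul, ← map_mul, Subgroup.mem_center_iff.mp hc g]
    have hc1 := hcent c (hcm x)
    rw [← (orderOf_pos_iff.mp (hord.symm ▸ hp.out.pos : 0 < orderOf (Φ x))).mem_powers_iff_mem_zpowers] at hc1
    obtain ⟨i, hi⟩ := hc1
    obtain ⟨al, hal⟩ := hψΦ (lSL (-1))
    have e := hcm al
    rw [← hi, hal] at e
    have e' : ψ (uSL (1 : ZMod p) ^ i * lSL (-1) * (lSL (-1) * uSL (1 : ZMod p) ^ i)⁻¹) = 1 := by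
      rw [map_mul, map_inv, mul_inv_eq_one, map_mul, map_mul, map_pow, hψu]
      exact e.eq
    have hmem : uSL (1 : ZMod p) ^ i * lSL (-1) * (lSL (-1) * uSL (1 : ZMod p) ^ i)⁻¹ ∈
        Subgroup.center (SL2 (ZMod p)) := hker ▸ e'
    obtain ⟨r, hr, hrt⟩ := Matrix.SpecialLinearGroup.mem_center_iff.mp hmem
    set q := uSL (1 : ZMod p) ^ i * lSL (-1) * (lSL (-1) * uSL (1 : ZMod p) ^ i)⁻¹
    have e2 : ((uSL (1 : ZMod p) ^ i * lSL (-1) : SL2 (ZMod p)) : Matrix (Fin 2) (Fin 2) (ZMod p)) =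
        Matrix.scalar _ r * ((lSL (-1) * uSL (1 : ZMod p) ^ i : SL2 (ZMod p)) : Matrix (Fin 2) (Fin 2) (ZMod p)) := by
      rw [hrt, ← Matrix.SpecialLinearGroup.coe_mul]
      congr 1
      simp only [q]
      group
      rfl
    rw [uSL_pow] at e2
    have a10 := congrFun (congrFun e2 1) 0
    have a01 := congrFun (congrFun e2 0) 1
    have a00 := congrFun (congrFun e2 0) 0
    simp [coe_uSL, coe_lSL, Matrix.mul_apply, Fin.sum_univ_two, -Matrix.cons_mul] at a10 a01 a00
    have hi0 : (i : ZMod p) = 0 := by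
      linear_combination -a00 + a10
    have hdvd := (ZMod.natCast_eq_zero_iff _ _).mp hi0
    rw [← hi]
    exact orderOf_dvd_iff_pow_eq_one.mp (hord.symm ▸ hdvd)
  refine ⟨(QuotientGroup.quotientMulEquivOfEq hcenter).trans ((QuotientGroup.quotientKerEquivRange Φ).trans
    ((MulEquiv.subgroupCongr (hrange.trans hL)).trans ((QuotientGroup.quotientKerEquivRange ψ).symm.trans
      (QuotientGroup.quotientMulEquivOfEq hker))))⟩

end CfsgLib.SmallDegree
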