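import Mathlib

/-!
The subgroups of index six in the symmetric group of degree six.
-/

set_option autoImplicit false
set_option linter.style.haveILetI false

open scoped Pointwise

namespace CfsgLib.SixIndexSix

open Equiv

/-- A normal subgroup not containing the alternating group is trivial. -/
theorem normal_eq_bot {α : Type*} [Fintype α] [DecidableEq α] (h5 : 5 ≤ Fintype.card α)
    (K : Subgroup (Perm α)) [K.Normal] (hK : ¬ alternatingGroup α ≤ K) : K = ⊥ := by
  classical
  haveI : IsSimpleGroup (alternatingGroup α) :=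
    alternatingGroup.isSimpleGroup (by rwa [Nat.card_eq_fintype_card])
  have hbot : K.subgroupOf (alternatingGroup α) = ⊥ :=
    ((inferInstance : (K.subgroupOf (alternatingGroup α)).Normal).eq_bot_or_eq_top).resolve_right
      fun h => hK (Subgroup.subgroupOf_eq_top.mp h)
  rw [eq_bot_iff]
  intro k hk
  rw [Subgroup.mem_bot]
  have hcomm : ∀ x ∈ alternatingGroup α, k * x = x * k := by
    intro x hx
    have h1 : k * x * k⁻¹ * x⁻¹ ∈ K := by
      rw [show k * x * k⁻¹ * x⁻¹ = k * (x * k⁻¹ * x⁻¹) by group]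
      exact K.mul_mem hk (‹K.Normal›.conj_mem _ (K.inv_mem hk) x)
    have h2 : k * x * k⁻¹ * x⁻¹ ∈ alternatingGroup α :=
      mul_mem ((inferInstance : (alternatingGroup α).Normal).conj_mem x hx k) (inv_mem hx)
    have h3 : (⟨_, h2⟩ : alternatingGroup α) ∈ K.subgroupOf (alternatingGroup α) := h1
    rw [hbot, Subgroup.mem_bot] at h3
    have h4 : k * x * k⁻¹ * x⁻¹ = 1 := congrArg Subtype.val h3
    rwa [mul_inv_eq_one, mul_inv_eq_iff_eq_mul] at h4
  refine Equiv.ext fun a => ?_
  by_contra hne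
  rw [Perm.one_apply] at hne
  obtain ⟨c, hc, d, hd, hcd⟩ : ∃ c ∈ ({a, k a} : Finset α)ᶜ, ∃ d ∈ ({a, k a} : Finset α)ᶜ, c ≠ d :=
    Finset.one_lt_card.mp (by
      rw [Finset.card_compl]
      have := Finset.card_le_two (a := a) (b := k a)
      omega)
  simp only [Finset.mem_compl, Finset.mem_insert, Finset.mem_singleton, not_or] at hc hd
  set x : Perm α := swap (k a) c * swap (k a) d
  have hx : x ∈ alternatingGroup α := by
    rw [Perm.mem_alternatingGroup, map_mul, Perm.sign_swap (Ne.symm hc.2), Perm.sign_swap (Ne.symm hd.2)]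
    decide
  have hxa : x a = a := by
    simp only [x, Perm.mul_apply]
    rw [swap_apply_of_ne_of_ne (Ne.symm hne) (Ne.symm hd.1),
      swap_apply_of_ne_of_ne (Ne.symm hne) (Ne.symm hc.1)]
  have hxk : x (k a) = d := by
    simp only [x, Perm.mul_apply]
    rw [swap_apply_left, swap_apply_of_ne_of_ne hd.2 (Ne.symm hcd)]
  have h := congrArg (fun p : Perm α => p a) (hcomm x hx)
  simp only [Perm.mul_apply, hxa, hxk] at h
  exact hd.2 h.symm

variable {Ω : Type*} [Fintype Ω] [DecidableEq Ω]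

theorem card_perm (h6 : Fintype.card Ω = 6) : Nat.card (Perm Ω) = 720 := by
  rw [Nat.card_perm, Nat.card_eq_fintype_card, h6]; rfl

theorem card_of_index (h6 : Fintype.card Ω = 6) {H : Subgroup (Perm Ω)} (hH : H.index = 6) :
    Nat.card H = 120 := by
  have h := H.card_mul_index
  rw [hH, card_perm h6] at h
  omega

theorem core_eq_bot (h6 : Fintype.card Ω = 6) {H : Subgroup (Perm Ω)} (hH : H.index = 6) :
    H.normalCore = ⊥ := by
  refine normal_eq_bot (by omega) H.normalCore ?_
  intro hle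
  haveI : Nontrivial Ω := Fintype.one_lt_card_iff_nontrivial.mp (by omega)
  have h := Subgroup.card_le_of_le (hle.trans H.normalCore_le)
  rw [card_of_index h6 hH, nat_card_alternatingGroup, Nat.card_eq_fintype_card, h6] at h
  norm_num [Nat.factorial] at h

/-- Every subgroup of index six is a copy of the symmetric group of degree five. -/
theorem equiv_five (h6 : Fintype.card Ω = 6) {H : Subgroup (Perm Ω)} (hH : H.index = 6) :
    Nonempty (H ≃* Perm (Fin 5)) := by
  classical
  haveI : Fintype (Perm Ω ⧸ H) := Fintype.ofFinite _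
  have hker : (MulAction.toPermHom (Perm Ω) (Perm Ω ⧸ H)).ker = ⊥ := by
    rw [← Subgroup.normalCore_eq_ker, core_eq_bot h6 hH]
  set φ := MulAction.toPermHom (Perm Ω) (Perm Ω ⧸ H) with hφ
  have hinj : Function.Injective φ := (φ.ker_eq_bot_iff).mp hker
  set q : Perm Ω ⧸ H := ((1 : Perm Ω) : Perm Ω ⧸ H) with hq
  have hfix : ∀ h : H, φ h q = q := fun h => by
    show (h : Perm Ω) • q = q
    rw [hq, MulAction.Quotient.smul_mk, smul_eq_mul, mul_one, eq_comm, QuotientGroup.eq, inv_one, one_mul]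
    exact h.2
  have hmem : ∀ (h : H) (x : Perm Ω ⧸ H), φ h x ≠ q ↔ x ≠ q := fun h x =>
    not_congr ⟨fun e => (φ (h : Perm Ω)).injective (e.trans (hfix h).symm), fun e => by rw [e, hfix]⟩
  let ψ : H →* Perm {x : Perm Ω ⧸ H // x ≠ q} := MonoidHom.mk'
    (fun h => (φ h).subtypePerm (hmem h)) fun h h' => by
      ext x
      simp
      rfl
  have hψ : Function.Injective ψ := fun h h' e => Subtype.ext (hinj (Equiv.ext fun x => by
    by_cases hx : x = q
    · rw [hx, hfix, hfix]
    · exact congrArg Subtype.val (congrArg (fun p : Perm _ => p ⟨x, hx⟩) e)))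
  have h5 : Fintype.card {x : Perm Ω ⧸ H // x ≠ q} = 5 := by
    rw [Fintype.card_subtype_compl, Fintype.card_subtype_eq, ← Nat.card_eq_fintype_card,
      ← Subgroup.index_eq_card, hH]
  have hbij : Function.Bijective ψ := (Nat.bijective_iff_injective_and_card ψ).mpr ⟨hψ, by
    rw [card_of_index h6 hH, Nat.card_perm, Nat.card_eq_fintype_card, h5]; rfl⟩
  exact ⟨(MulEquiv.ofBijective ψ hbij).trans (Fintype.equivFinOfCardEq h5).permCongrHom⟩

/-- A point is fixed, or the action is transitive. -/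
theorem fixed_or_transitive (h6 : Fintype.card Ω = 6) {H : Subgroup (Perm Ω)} (hH : H.index = 6) :
    (∃ a : Ω, H = MulAction.stabilizer (Perm Ω) a) ∨ ∀ a b : Ω, ∃ h ∈ H, (h : Perm Ω) a = b := by
  classical
  by_cases ht : ∀ a b : Ω, ∃ h ∈ H, (h : Perm Ω) a = b
  · exact Or.inr ht
  push Not at ht
  obtain ⟨a, b, hab⟩ := ht
  set O : Finset Ω := Finset.univ.filter fun x => ∃ h ∈ H, (h : Perm Ω) a = x with hO
  have hmemO : ∀ x, x ∈ O ↔ ∃ h ∈ H, (h : Perm Ω) a = x := fun x => by simp [hO]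
  have hinv : ∀ (h : H) (x : Ω), (h : Perm Ω) x ∈ O ↔ x ∈ O := by
    intro h x
    rw [hmemO, hmemO]
    constructor
    · rintro ⟨g, hg, e⟩
      exact ⟨(h : Perm Ω)⁻¹ * g, H.mul_mem (H.inv_mem h.2) hg, by rw [Perm.mul_apply, e]; simp⟩
    · rintro ⟨g, hg, rfl⟩
      exact ⟨h * g, H.mul_mem h.2 hg, by rw [Perm.mul_apply]⟩
  let res : H →* Perm {x // x ∈ O} × Perm {x // x ∉ O} := MonoidHom.mk'
    (fun h => ((h : Perm Ω).subtypePerm (hinv h), (h : Perm Ω).subtypePerm fun x => not_congr (hinv h x)))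
    fun h h' => by ext x <;> simp <;> rfl
  have hres : Function.Injective res := fun h h' e => Subtype.ext (Equiv.ext fun x => by
    by_cases hx : x ∈ O
    · exact congrArg Subtype.val (congrArg (fun p : Perm {x // x ∈ O} => p ⟨x, hx⟩) (congrArg Prod.fst e))
    · exact congrArg Subtype.val (congrArg (fun p : Perm {x // x ∉ O} => p ⟨x, hx⟩) (congrArg Prod.snd e)))
  have hd := Subgroup.card_dvd_of_injective res hres
  rw [card_of_index h6 hH, Nat.card_prod, Nat.card_perm, Nat.card_perm, Nat.card_eq_fintype_card,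
    Nat.card_eq_fintype_card, Fintype.card_subtype_compl, Fintype.card_coe, h6] at hd
  have hapos : 0 < O.card := Finset.card_pos.mpr ⟨a, (hmemO a).mpr ⟨1, H.one_mem, rfl⟩⟩
  have hlt : O.card < 6 := by
    rw [← h6]
    refine Finset.card_lt_iff_ne_univ _ |>.mpr fun e => ?_
    obtain ⟨g, hg, hgb⟩ := (hmemO b).mp (e ▸ Finset.mem_univ b)
    exact hab g hg hgb
  have hk : O.card = 1 ∨ O.card = 5 := by
    interval_cases O.card <;> first | omega | (norm_num [Nat.factorial] at hd)
  obtain ⟨c, hc⟩ : ∃ c, ∀ h : H, (h : Perm Ω) c = c := by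
    rcases hk with h | h
    · obtain ⟨c, hc⟩ := Finset.card_eq_one.mp h
      refine ⟨c, fun g => ?_⟩
      have := (hinv g c).mpr (hc ▸ Finset.mem_singleton_self c)
      rwa [hc, Finset.mem_singleton] at this
    · obtain ⟨c, hc⟩ := Finset.card_eq_one.mp (by rw [Finset.card_compl, h6, h] : Oᶜ.card = 1)
      refine ⟨c, fun g => ?_⟩
      have hcO : c ∉ O := Finset.mem_compl.mp (hc ▸ Finset.mem_singleton_self c)
      have : (g : Perm Ω) c ∈ Oᶜ := Finset.mem_compl.mpr fun e => hcO ((hinv g c).mp e)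
      rwa [hc, Finset.mem_singleton] at this
  left
  refine ⟨c, Subgroup.eq_of_le_of_card_ge (fun g hg => hc ⟨g, hg⟩) ?_⟩
  have h := (MulAction.stabilizer (Perm Ω) c).card_mul_index
  rw [MulAction.index_stabilizer, MulAction.orbit_eq_univ, Set.ncard_univ, Nat.card_eq_fintype_card (α := Ω), h6,
    card_perm h6] at h
  rw [card_of_index h6 hH]
  omega

theorem fact_five : Fact (Nat.Prime 5) := ⟨Nat.prime_five⟩

theorem five_cycle_facts :
    (finRotate 5 : Perm (Fin 5)) ^ 5 = 1 ∧ (finRotate 5 : Perm (Fin 5)) ≠ 1 ∧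
      (swap 1 2 * finRotate 5 * swap 1 2 : Perm (Fin 5)) ^ 5 = 1 ∧
      (swap 1 2 * finRotate 5 * swap 1 2 : Perm (Fin 5)) ≠ 1 ∧
      ∀ i : Fin 5, (finRotate 5 : Perm (Fin 5)) ^ (i : ℕ) ≠ swap 1 2 * finRotate 5 * swap 1 2 := by
  decide

theorem card_sylow (P : Sylow 5 (Perm (Fin 5))) : Nat.card P = 5 := by
  haveI := fact_five
  obtain ⟨k, hk⟩ := IsPGroup.iff_card.mp P.isPGroup'
  have h1 := P.pow_dvd_card_of_pow_dvd_card (n := 1) (by rw [Nat.card_perm, Nat.card_fin]; decide)
  have h2 := (P : Subgroup (Perm (Fin 5))).card_subgroup_dvd_card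
  rw [hk, Nat.card_perm, Nat.card_fin] at h2
  rw [hk] at h1 ⊢
  rcases k with _ | _ | k
  · norm_num at h1
  · rfl
  · have : 5 ^ 2 ∣ Nat.factorial 5 := (pow_dvd_pow 5 (by omega)).trans h2
    norm_num [Nat.factorial] at this

theorem not_unique_sylow : ¬ ∀ P Q : Sylow 5 (Perm (Fin 5)), P = Q := by
  intro h
  haveI := fact_five
  obtain ⟨a1, a2, b1, b2, h3⟩ := five_cycle_facts
  have h1 := orderOf_eq_prime a1 a2
  have h2 := orderOf_eq_prime b1 b2
  have hp : ∀ g : Perm (Fin 5), orderOf g = 5 → ∃ P : Sylow 5 (Perm (Fin 5)), g ∈ P ∧ Nat.card P = 5 := by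
    intro g hg
    have hP : IsPGroup 5 (Subgroup.zpowers g) := IsPGroup.of_card (n := 1) (by rw [Nat.card_zpowers, hg, pow_one])
    obtain ⟨P, hP'⟩ := hP.exists_le_sylow
    refine ⟨P, hP' (Subgroup.mem_zpowers g), ?_⟩
    exact card_sylow P
  obtain ⟨P, hP, hPc⟩ := hp _ h1
  obtain ⟨Q, hQ, -⟩ := hp _ h2
  rw [← h P Q] at hQ
  have heq : Subgroup.zpowers (finRotate 5 : Perm (Fin 5)) = P :=
    Subgroup.eq_of_le_of_card_ge (Subgroup.zpowers_le.mpr hP) (by rw [Nat.card_zpowers, h1, hPc])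
  have hmem : (swap 1 2 * finRotate 5 * swap 1 2 : Perm (Fin 5)) ∈ Subgroup.zpowers (finRotate 5 : Perm (Fin 5)) := heq ▸ hQ
  rw [mem_zpowers_iff_mem_range_orderOf, h1, Finset.mem_image] at hmem
  obtain ⟨i, hi, hi'⟩ := hmem
  exact h3 ⟨i, Finset.mem_range.mp hi⟩ hi'

/-- A transitive action of degree six matches the action on the Sylow five-subgroups. -/
theorem exists_sylow_equiv (h6 : Fintype.card Ω = 6) (f : Perm (Fin 5) →* Perm Ω)
    (ht : ∀ a b : Ω, ∃ s, f s a = b) :
    ∃ F : Ω ≃ Sylow 5 (Perm (Fin 5)), ∀ s a, F (f s a) = s • F a := by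
  classical
  haveI := fact_five
  let K : Ω → Subgroup (Perm (Fin 5)) := fun a => (MulAction.stabilizer (Perm Ω) a).comap f
  have hKmem : ∀ s a, s ∈ K a ↔ f s a = a := fun s a => Iff.rfl
  have hK : ∀ a, Nat.card (K a) = 20 := by
    intro a
    have hidx : (K a).index = 6 := by
      let e : Perm (Fin 5) ⧸ K a → Ω := Quotient.lift (fun s => f s a) fun s t hst => by
        have h : f (s⁻¹ * t) a = a := (hKmem _ _).mp (QuotientGroup.leftRel_apply.mp hst)
        rw [map_mul, Perm.mul_apply, map_inv] at h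
        exact ((Perm.inv_eq_iff_eq).mp h).symm
      have he : Function.Bijective e := by
        refine ⟨?_, fun b => ?_⟩
        · intro s t
          induction s using QuotientGroup.induction_on with
          | H s =>
            induction t using QuotientGroup.induction_on with
            | H t =>
              intro h
              have h' : f s a = f t a := h
              rw [QuotientGroup.eq, hKmem, map_mul, Perm.mul_apply, map_inv, ← h']
              simp
        · obtain ⟨s, hs⟩ := ht a b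
          exact ⟨(s : Perm (Fin 5) ⧸ K a), hs⟩
      rw [Subgroup.index_eq_card, Nat.card_congr (Equiv.ofBijective e he), Nat.card_eq_fintype_card, h6]
    have h := (K a).card_mul_index
    rw [hidx, Nat.card_perm, Nat.card_fin, show Nat.factorial 5 = 120 from rfl] at h
    omega
  have hSyl5 := card_sylow
  have huniq : ∀ a, ∀ P Q : Sylow 5 (Perm (Fin 5)), (P : Subgroup _) ≤ K a → (Q : Subgroup _) ≤ K a → P = Q := by
    intro a P Q hP hQ
    have hn : Nat.card (Sylow 5 (K a)) = 1 := by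
      obtain ⟨R⟩ := (inferInstance : Nonempty (Sylow 5 (K a)))
      have h1 := Sylow.card_dvd_index R
      have h2 := card_sylow_modEq_one 5 (K a)
      have hc : Nat.card R = 5 := by
        obtain ⟨k, hk⟩ := IsPGroup.iff_card.mp R.isPGroup'
        have h1 := R.pow_dvd_card_of_pow_dvd_card (n := 1) (by rw [hK]; norm_num)
        have h2 := (R : Subgroup (K a)).card_subgroup_dvd_card
        rw [hk, hK] at h2
        rw [hk] at h1 ⊢
        rcases k with _ | _ | k
        · norm_num at h1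
        · rfl
        · have : 5 ^ 2 ∣ 20 := (pow_dvd_pow 5 (by omega)).trans h2
          norm_num at this
      have h3 := (R : Subgroup (K a)).card_mul_index
      rw [hK, hc] at h3
      have h4 : (R : Subgroup (K a)).index = 4 := by omega
      rw [h4] at h1
      have := Nat.le_of_dvd (by norm_num) h1
      unfold Nat.ModEq at h2
      omega
    haveI := (Nat.card_eq_one_iff_unique.mp hn).1
    have h := congrArg (fun R : Sylow 5 (K a) => (R : Subgroup (K a)).map (K a).subtype)
      (Subsingleton.elim (P.subtype hP) (Q.subtype hQ))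
    simp only [Sylow.coe_subtype, Subgroup.subgroupOf_map_subtype, inf_eq_left.mpr hP, inf_eq_left.mpr hQ] at h
    exact Sylow.ext h
  have hex : ∀ a, ∃ P : Sylow 5 (Perm (Fin 5)), (P : Subgroup _) ≤ K a := by
    intro a
    obtain ⟨g, hg⟩ := exists_prime_orderOf_dvd_card' (G := K a) 5 (by rw [hK]; norm_num)
    have hP : IsPGroup 5 (Subgroup.zpowers (g : Perm (Fin 5))) :=
      IsPGroup.of_card (n := 1) (by rw [Nat.card_zpowers, Subgroup.orderOf_coe, hg, pow_one])
    obtain ⟨P, hPle⟩ := hP.exists_le_sylow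
    refine ⟨P, ?_⟩
    rw [← Subgroup.eq_of_le_of_card_ge hPle (by rw [hSyl5, Nat.card_zpowers, Subgroup.orderOf_coe, hg])]
    exact Subgroup.zpowers_le.mpr g.2
  choose F hF using hex
  have hequiv : ∀ s a, F (f s a) = s • F a := by
    intro s a
    refine huniq (f s a) _ _ (hF _) ?_
    intro x hx
    rw [Sylow.coe_subgroup_smul] at hx
    obtain ⟨y, hy, rfl⟩ := hx
    show f (s * y * s⁻¹) (f s a) = f s a
    rw [map_mul, map_mul, map_inv, Perm.mul_apply, Perm.mul_apply]
    simp [(hKmem y a).mp (hF a hy)]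
  haveI : Nonempty Ω := Fintype.card_pos_iff.mp (by omega)
  have hsur : Function.Surjective F := fun Q => by
    obtain ⟨a⟩ := (inferInstance : Nonempty Ω)
    obtain ⟨s, hs⟩ := MulAction.exists_smul_eq (Perm (Fin 5)) (F a) Q
    exact ⟨f s a, by rw [hequiv, hs]⟩
  have hcard : Nat.card (Sylow 5 (Perm (Fin 5))) = 6 := by
    have h1 := Nat.card_le_card_of_surjective F hsur
    rw [Nat.card_eq_fintype_card (α := Ω), h6] at h1
    have h2 := card_sylow_modEq_one 5 (Perm (Fin 5))
    have h3 : Nat.card (Sylow 5 (Perm (Fin 5))) ≠ 1 := fun h =>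
      not_unique_sylow fun P Q => (Nat.card_eq_one_iff_unique.mp h).1.elim P Q
    have h4 : 0 < Nat.card (Sylow 5 (Perm (Fin 5))) := Nat.card_pos
    unfold Nat.ModEq at h2
    omega
  refine ⟨Equiv.ofBijective F ?_, hequiv⟩
  exact (Nat.bijective_iff_surjective_and_card F).mpr ⟨hsur, by rw [hcard, Nat.card_eq_fintype_card, h6]⟩

/-- Transitive subgroups of index six are conjugate. -/
theorem transitive_conj (h6 : Fintype.card Ω = 6) {H₁ H₂ : Subgroup (Perm Ω)} (h1 : H₁.index = 6)
    (h2 : H₂.index = 6) (t1 : ∀ a b : Ω, ∃ h ∈ H₁, (h : Perm Ω) a = b)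
    (t2 : ∀ a b : Ω, ∃ h ∈ H₂, (h : Perm Ω) a = b) :
    ∃ g : Perm Ω, H₁.map (MulAut.conj g).toMonoidHom = H₂ := by
  obtain ⟨e1⟩ := equiv_five h6 h1
  obtain ⟨e2⟩ := equiv_five h6 h2
  have ht : ∀ (H : Subgroup (Perm Ω)) (e : H ≃* Perm (Fin 5)), (∀ a b : Ω, ∃ h ∈ H, (h : Perm Ω) a = b) →
      ∀ a b, ∃ s, (H.subtype.comp e.symm.toMonoidHom) s a = b := by
    intro H e t a b
    obtain ⟨h, hh, hab⟩ := t a b
    exact ⟨e ⟨h, hh⟩, by simpa using hab⟩
  obtain ⟨F1, hF1⟩ := exists_sylow_equiv h6 _ (ht H₁ e1 t1)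
  obtain ⟨F2, hF2⟩ := exists_sylow_equiv h6 _ (ht H₂ e2 t2)
  refine ⟨F1.trans F2.symm, Subgroup.eq_of_le_of_card_ge ?_ ?_⟩
  · rintro _ ⟨h, hh, rfl⟩
    have key : (F1.trans F2.symm : Perm Ω) * h * (F1.trans F2.symm : Perm Ω)⁻¹
        = (e2.symm (e1 ⟨h, hh⟩) : Perm Ω) := by
      rw [mul_inv_eq_iff_eq_mul]
      refine Equiv.ext fun a => F2.injective ?_
      have k1 := hF1 (e1 ⟨h, hh⟩) a
      have k2 := hF2 (e1 ⟨h, hh⟩) (F2.symm (F1 a))
      simp at k1 k2 ⊢
      rw [k1, k2]
    show (F1.trans F2.symm : Perm Ω) * h * (F1.trans F2.symm : Perm Ω)⁻¹ ∈ H₂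
    rw [key]
    exact SetLike.coe_mem _
  · rw [Subgroup.card_map_of_injective (MulAut.conj _).injective, card_of_index h6 h1, card_of_index h6 h2]

/-- A transitive subgroup of index six exists. -/
theorem exists_transitive (h6 : Fintype.card Ω = 6) :
    ∃ H : Subgroup (Perm Ω), H.index = 6 ∧ ∀ a b : Ω, ∃ h ∈ H, (h : Perm Ω) a = b := by
  classical
  haveI := fact_five
  haveI : Fintype (Sylow 5 (Perm (Fin 5))) := Fintype.ofFinite _
  set n := Fintype.card (Sylow 5 (Perm (Fin 5))) with hn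
  have hn6 : n = 6 := by
    obtain ⟨P⟩ := (inferInstance : Nonempty (Sylow 5 (Perm (Fin 5))))
    have h2 := card_sylow_modEq_one 5 (Perm (Fin 5))
    have h3 : n ≠ 1 := fun h => not_unique_sylow fun P Q => (Fintype.card_le_one_iff.mp h.le) P Q
    have hd := P.card_dvd_index
    have hmul := (P : Subgroup (Perm (Fin 5))).card_mul_index
    rw [Nat.card_perm, Nat.card_fin, show Nat.factorial 5 = 120 from rfl,
      show Nat.card (P : Subgroup (Perm (Fin 5))) = 5 from card_sylow P] at hmul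
    have hd' : n ∣ 24 := by
      rw [← Nat.card_eq_fintype_card] at hn
      rw [← hn] at hd
      rwa [show (P : Subgroup (Perm (Fin 5))).index = 24 by omega] at hd
    rw [Nat.card_eq_fintype_card, ← hn] at h2
    have hle := Nat.le_of_dvd (by norm_num) hd'
    unfold Nat.ModEq at h2
    interval_cases n <;> omega
  let k : Ω ≃ Sylow 5 (Perm (Fin 5)) := (Fintype.equivFinOfCardEq h6).trans (Fintype.equivFinOfCardEq hn6).symm
  let f : Perm (Fin 5) →* Perm Ω := k.symm.permCongrHom.toMonoidHom.comp (MulAction.toPermHom _ _)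
  have hf : ∀ s a, f s a = k.symm (s • k a) := fun s a => rfl
  have ht : ∀ a b : Ω, ∃ s, f s a = b := fun a b => by
    obtain ⟨s, hs⟩ := MulAction.exists_smul_eq (Perm (Fin 5)) (k a) (k b)
    exact ⟨s, by rw [hf, hs, Equiv.symm_apply_apply]⟩
  have hker : f.ker = ⊥ := by
    refine normal_eq_bot (by simp) f.ker fun hle => ?_
    haveI : Nonempty Ω := Fintype.card_pos_iff.mp (by omega)
    obtain ⟨a⟩ := (inferInstance : Nonempty Ω)
    have h1 : 6 ≤ Nat.card f.range := by
      have := Nat.card_le_card_of_surjective (fun x : f.range => (x : Perm Ω) a) fun b => by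
        obtain ⟨s, hs⟩ := ht a b
        exact ⟨⟨f s, s, rfl⟩, hs⟩
      rwa [Nat.card_eq_fintype_card (α := Ω), h6] at this
    have h2 := Subgroup.index_antitone hle
    rw [alternatingGroup.index_eq_two, Subgroup.index_ker] at h2
    omega
  refine ⟨f.range, ?_, fun a b => ?_⟩
  · have h := f.range.card_mul_index
    rw [← Nat.card_congr (MonoidHom.ofInjective ((f.ker_eq_bot_iff).mp hker)).toEquiv, card_perm h6,
      Nat.card_perm, Nat.card_fin] at h
    norm_num [Nat.factorial] at h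
    omega
  · obtain ⟨s, hs⟩ := ht a b
    exact ⟨f s, ⟨s, rfl⟩, hs⟩

theorem stabilizer_not_transitive (h6 : Fintype.card Ω = 6) (c : Ω) :
    ¬ ∀ a b : Ω, ∃ h ∈ MulAction.stabilizer (Perm Ω) c, (h : Perm Ω) a = b := by
  intro h
  haveI : Nontrivial Ω := Fintype.one_lt_card_iff_nontrivial.mp (by omega)
  obtain ⟨d, hd⟩ := exists_ne c
  obtain ⟨g, hg, hgd⟩ := h c d
  exact hd (hgd.symm.trans hg)

theorem index_stabilizer (h6 : Fintype.card Ω = 6) (c : Ω) :
    (MulAction.stabilizer (Perm Ω) c).index = 6 := by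
  rw [MulAction.index_stabilizer, MulAction.orbit_eq_univ, Set.ncard_univ, Nat.card_eq_fintype_card, h6]

theorem stabilizer_conj (a b : Ω) :
    (MulAction.stabilizer (Perm Ω) a).map (MulAut.conj (swap a b)).toMonoidHom
      = MulAction.stabilizer (Perm Ω) b := by
  conv_rhs => rw [show b = swap a b • a from (swap_apply_left a b).symm,
    MulAction.stabilizer_smul_eq_stabilizer_map_conj]

/-- The class of a transitive subgroup of index six has six members. -/
theorem card_transitive (h6 : Fintype.card Ω = 6) {H₀ : Subgroup (Perm Ω)} (h0 : H₀.index = 6)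
    (t0 : ∀ a b : Ω, ∃ h ∈ H₀, (h : Perm Ω) a = b) :
    Nat.card {H : Subgroup (Perm Ω) // H.index = 6 ∧ ∀ a b : Ω, ∃ h ∈ H, (h : Perm Ω) a = b} = 6 := by
  classical
  let P : Subgroup (Perm Ω) → Prop := fun H => H.index = 6 ∧ ∀ a b : Ω, ∃ h ∈ H, (h : Perm Ω) a = b
  let N := Subgroup.normalizer (H₀ : Set (Perm Ω))
  have hP : ∀ g : Perm Ω, P (H₀.map (MulAut.conj g).toMonoidHom) := by
    intro g
    refine ⟨by rw [Subgroup.index_map_of_bijective (f := (MulAut.conj g).toMonoidHom) (MulAut.conj g).bijective, h0], fun a b => ?_⟩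
    obtain ⟨h, hh, hab⟩ := t0 (g⁻¹ a) (g⁻¹ b)
    refine ⟨g * h * g⁻¹, ⟨h, hh, rfl⟩, ?_⟩
    rw [Perm.mul_apply, Perm.mul_apply, hab]
    simp
  have hmapeq : ∀ g g' : Perm Ω, H₀.map (MulAut.conj g).toMonoidHom = H₀.map (MulAut.conj g').toMonoidHom ↔
      g⁻¹ * g' ∈ N := by
    intro g g'
    rw [Subgroup.mem_normalizer_iff]
    constructor
    · intro e x
      constructor <;> intro hx
      · have : g' * x * g'⁻¹ ∈ H₀.map (MulAut.conj g).toMonoidHom := e.symm ▸ ⟨x, hx, rfl⟩
        obtain ⟨y, hy, hy'⟩ := this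
        have hy'' : g * y * g⁻¹ = g' * x * g'⁻¹ := hy'
        rw [show g⁻¹ * g' * x * (g⁻¹ * g')⁻¹ = g⁻¹ * (g' * x * g'⁻¹) * g by group, ← hy'']
        simpa [mul_assoc] using hy
      · have : g * (g⁻¹ * g' * x * (g⁻¹ * g')⁻¹) * g⁻¹ ∈ H₀.map (MulAut.conj g').toMonoidHom := e ▸ ⟨_, hx, rfl⟩
        obtain ⟨y, hy, hy'⟩ := this
        have hy'' : g' * y * g'⁻¹ = g * (g⁻¹ * g' * x * (g⁻¹ * g')⁻¹) * g⁻¹ := hy'
        have : y = x := by
          rw [show g * (g⁻¹ * g' * x * (g⁻¹ * g')⁻¹) * g⁻¹ = g' * x * g'⁻¹ by group] at hy''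
          exact mul_left_cancel (mul_right_cancel hy'')
        exact this ▸ hy
    · intro h
      ext y
      constructor
      · rintro ⟨x, hx, rfl⟩
        refine ⟨(g⁻¹ * g')⁻¹ * x * (g⁻¹ * g'), (h _).mpr (by simpa [mul_assoc] using hx), ?_⟩
        show g' * ((g⁻¹ * g')⁻¹ * x * (g⁻¹ * g')) * g'⁻¹ = g * x * g⁻¹
        group
      · rintro ⟨x, hx, rfl⟩
        refine ⟨_, (h x).mp hx, ?_⟩
        show g * (g⁻¹ * g' * x * (g⁻¹ * g')⁻¹) * g⁻¹ = g' * x * g'⁻¹
        group
  let e : Perm Ω ⧸ N → {H // P H} := Quotient.lift (fun g => ⟨_, hP g⟩) fun g g' hgg' =>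
    Subtype.ext ((hmapeq g g').mpr (QuotientGroup.leftRel_apply.mp hgg'))
  have he : Function.Bijective e := by
    refine ⟨?_, fun H => ?_⟩
    · intro s t
      induction s using QuotientGroup.induction_on with
      | H s =>
        induction t using QuotientGroup.induction_on with
        | H t =>
          intro h
          rw [QuotientGroup.eq]
          exact (hmapeq s t).mp (congrArg Subtype.val h)
    · obtain ⟨g, hg⟩ := transitive_conj h6 h0 H.2.1 t0 H.2.2
      exact ⟨(g : Perm Ω ⧸ N), Subtype.ext hg⟩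
  rw [← Nat.card_congr (Equiv.ofBijective e he), ← Subgroup.index_eq_card]
  have hd : N.index ∣ 6 := h0 ▸ Subgroup.index_dvd_of_le Subgroup.le_normalizer
  by_contra hne
  have hle : N.index ≤ 3 := by
    have := Nat.le_of_dvd (by norm_num) hd
    interval_cases hN : N.index <;> omega
  -- few conjugates give a large core
  haveI : Fintype (Perm Ω ⧸ N) := Fintype.ofFinite _
  have hcore : (⨅ q : Perm Ω ⧸ N, (e q).1) ≤ H₀.normalCore := by
    rw [Subgroup.normalCore_eq_iInf_map_conj]
    exact le_iInf fun g => iInf_le_of_le (g : Perm Ω ⧸ N) le_rfl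
  have hidx : (⨅ q : Perm Ω ⧸ N, (e q).1).index ≤ 216 := by
    refine (Subgroup.index_iInf_le _).trans ?_
    rw [Finset.prod_congr rfl fun q _ => (e q).2.1, Finset.prod_const, Finset.card_univ,
      ← Nat.card_eq_fintype_card, ← Subgroup.index_eq_card]
    calc 6 ^ N.index ≤ 6 ^ 3 := Nat.pow_le_pow_right (by norm_num) hle
      _ = 216 := by norm_num
  rw [core_eq_bot h6 h0] at hcore
  rw [le_bot_iff.mp hcore, Subgroup.index_bot, card_perm h6] at hidx
  omega

/-- There are twelve subgroups of index six. -/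
theorem card_all (h6 : Fintype.card Ω = 6) :
    Nat.card {H : Subgroup (Perm Ω) // H.index = 6} = 12 := by
  classical
  obtain ⟨H₀, h0, t0⟩ := exists_transitive h6
  let T := {H : Subgroup (Perm Ω) // H.index = 6 ∧ ∀ a b : Ω, ∃ h ∈ H, (h : Perm Ω) a = b}
  let m : Ω ⊕ T → {H : Subgroup (Perm Ω) // H.index = 6} := Sum.elim
    (fun c => ⟨_, index_stabilizer h6 c⟩) fun H => ⟨H.1, H.2.1⟩
  have hm : Function.Bijective m := by
    refine ⟨?_, fun H => ?_⟩
    · rintro (c | H) (c' | H') e <;> have e' := congrArg Subtype.val e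
      · refine congrArg Sum.inl ?_
        by_contra hne
        obtain ⟨d, hd⟩ : ∃ d, d ∈ ({c, c'} : Finset Ω)ᶜ := Finset.card_pos.mp (by
          rw [Finset.card_compl, Finset.card_pair hne, h6]; omega)
        simp only [Finset.mem_compl, Finset.mem_insert, Finset.mem_singleton, not_or] at hd
        have hs : swap c' d ∈ MulAction.stabilizer (Perm Ω) c :=
          swap_apply_of_ne_of_ne hne (Ne.symm hd.1)
        rw [show MulAction.stabilizer (Perm Ω) c = MulAction.stabilizer (Perm Ω) c' from e'] at hs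
        exact hd.2 ((swap_apply_left c' d).symm.trans hs)
      · exact absurd H'.2.2 ((show MulAction.stabilizer (Perm Ω) c = H'.1 from e') ▸ stabilizer_not_transitive h6 c)
      · exact absurd H.2.2 ((show MulAction.stabilizer (Perm Ω) c' = H.1 from e'.symm) ▸ stabilizer_not_transitive h6 c')
      · exact congrArg Sum.inr (Subtype.ext e')
    · rcases fixed_or_transitive h6 H.2 with ⟨c, hc⟩ | ht
      · exact ⟨Sum.inl c, Subtype.ext hc.symm⟩
      · exact ⟨Sum.inr ⟨H.1, H.2, ht⟩, rfl⟩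
  rw [← Nat.card_congr (Equiv.ofBijective m hm), Nat.card_sum, card_transitive h6 h0 t0,
    Nat.card_eq_fintype_card, h6]

end CfsgLib.SixIndexSix
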