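import Cfsg.Agent.Lib.SmallDegree.Triple
import Mathlib.LinearAlgebra.Matrix.Determinant.Basic
import Mathlib.LinearAlgebra.Eigenspace.Zero

/-!
# The three-dimensional orthogonal representation attached to a small modular representation
-/

set_option autoImplicit false
set_option linter.unusedSectionVars false

namespace CfsgLib.SmallDegree

open Matrix

/-- The adjoint matrix of a two by two matrix on traceless matrices in the basis
`E₁₂, H, E₂₁`. -/
def adjMat {R : Type*} [CommRing R] (g : Matrix (Fin 2) (Fin 2) R) : Matrix (Fin 3) (Fin 3) R :=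
  !![g 0 0 * g 0 0, -(2 * (g 0 0 * g 0 1)), -(g 0 1 * g 0 1);
     -(g 0 0 * g 1 0), g 0 0 * g 1 1 + g 0 1 * g 1 0, g 0 1 * g 1 1;
     -(g 1 0 * g 1 0), 2 * (g 1 0 * g 1 1), g 1 1 * g 1 1]

theorem adjMat_mul {R : Type*} [CommRing R] (g h : Matrix (Fin 2) (Fin 2) R) :
    adjMat (g * h) = adjMat g * adjMat h := by
  ext i j
  fin_cases i <;> fin_cases j <;>
    simp [adjMat, Matrix.mul_apply, Fin.sum_univ_two, Fin.sum_univ_three] <;> ring

theorem adjMat_one {R : Type*} [CommRing R] : adjMat (1 : Matrix (Fin 2) (Fin 2) R) = 1 := by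
  ext i j
  fin_cases i <;> fin_cases j <;> simp [adjMat]

/-- The upper unitriangular matrix. -/
def upperU {R : Type*} [CommRing R] (s : R) : Matrix (Fin 2) (Fin 2) R := !![1, s; 0, 1]

theorem adjMat_upperU {R : Type*} [CommRing R] (s : R) :
    adjMat (upperU s) = !![1, -(2 * s), -(s * s); 0, 1, s; 0, 0, 1] := by
  ext i j
  fin_cases i <;> fin_cases j <;> simp [adjMat, upperU]

/-- The Gram matrix of the trace form. -/
def gramJ (R : Type*) [CommRing R] : Matrix (Fin 3) (Fin 3) R := !![0, 0, 1; 0, 2, 0; 1, 0, 0]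

variable {k : Type*} [Field k] {p : ℕ} [CharP k p] [hp : Fact p.Prime]
variable {G : Type*} [Group G] [Finite G]
variable {V : Type*} [AddCommGroup V] [Module k V] [FiniteDimensional k V]

/-- The adjoint action. -/
noncomputable def adRep (ρ : G →* Module.End k V) : G →* Module.End k (Module.End k V) where
  toFun g := LinearMap.mulLeft k (ρ g) * LinearMap.mulRight k (ρ g⁻¹)
  map_one' := by ext Z; simp
  map_mul' g h := by ext Z; simp [mul_assoc]

theorem adRep_apply (ρ : G →* Module.End k V) (g : G) (Z : Module.End k V) :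
    adRep ρ g Z = ρ g * Z * ρ g⁻¹ := by
  show ρ g * (Z * ρ g⁻¹) = _
  rw [mul_assoc]

theorem ne_zero_two (hp2 : 2 < p) : (2 : k) ≠ 0 := by
  rw [show (2 : k) = ((2 : ℕ) : k) by norm_num, Ne, CharP.cast_eq_zero_iff k p]
  exact fun h => absurd (Nat.le_of_dvd (by norm_num) h) (not_le.mpr hp2)

/-- The orthogonal representation. -/
theorem exists_adjoint (ρ : G →* Module.End k V)
    (hirr : ∀ U : Submodule k V, (∀ g, ∀ v ∈ U, ρ g v ∈ U) → U = ⊥ ∨ U = ⊤)
    {x : G} (hx : orderOf x = p) (hsq : ¬ p ^ 2 ∣ Nat.card G) (hρ : ρ x ≠ 1)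
    (hdim : 2 * Module.finrank k V + 1 ≤ p) (hp5 : 5 ≤ p) :
    ∃ φ : G →* Matrix (Fin 3) (Fin 3) k,
      (∀ g, (φ g)ᵀ * gramJ k * φ g = gramJ k) ∧ (∀ g, (φ g).det = 1) ∧
      φ x = adjMat (upperU 1) ∧
      ∃ Z : Module.End k V, Z ≠ 0 ∧ LinearMap.trace k V (Z * Z) = 0 ∧
        ∀ g (s : k), φ g = adjMat (upperU s) →
          ∃ ε : k, ε * ε = 1 ∧ ρ g * Z = ε • (Z * ρ g) := by
  classical
  have h2 : (2 : k) ≠ 0 := ne_zero_two (k := k) (p := p) (by omega)
  obtain ⟨Q, X, Y, m, hQN, hQdec, hQ, hXe, hXm, hm, hHX, hc⟩ :=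
    exists_triple ρ hirr hx hsq hρ hdim
  set H := X * Y - Y * X with hH
  set c := LinearMap.trace k V (X * Y) with hcdef
  set τ : Module.End k V →ₗ[k] Module.End k V →ₗ[k] k :=
    (LinearMap.mul k (Module.End k V)).compr₂ (LinearMap.trace k V) with hτ
  have hτa : ∀ a b, τ a b = LinearMap.trace k V (a * b) := fun a b => rfl
  have hτs : ∀ a b, τ a b = τ b a := fun a b => by rw [hτa, hτa, LinearMap.trace_mul_comm]
  have hinv : ∀ g : G, ρ g⁻¹ * ρ g = 1 := fun g => by rw [← map_mul, inv_mul_cancel, map_one]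
  have hinv' : ∀ g : G, ρ g * ρ g⁻¹ = 1 := fun g => by rw [← map_mul, mul_inv_cancel, map_one]
  set σ := adRep ρ with hσ
  have hiso : ∀ g a b, τ (σ g a) (σ g b) = τ a b := fun g a b => by
    rw [hτa, hτa, hσ, adRep_apply, adRep_apply]
    have e : ρ g * a * ρ g⁻¹ * (ρ g * b * ρ g⁻¹) = ρ g * (a * b) * ρ g⁻¹ := by
      simp only [← mul_assoc]
      rw [mul_assoc (ρ g * a) (ρ g⁻¹) (ρ g), hinv, mul_one]
    rw [e, LinearMap.trace_mul_comm, ← mul_assoc, hinv, one_mul]
  -- the action of `x` on the triple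
  have hXH : X * H - H * X = -((2 : k) • X) := by rw [← hHX]; abel
  have hxinv : texp p k (-X) = ρ x⁻¹ := by
    have hXp : X ^ p = 0 := pow_eq_zero_of_le (by omega) hXm
    have h1 : texp p k X * texp p k (-X) = 1 := by
      rw [← texp_add (Commute.refl X).neg_right fun i j hij => by
        rw [neg_pow, ← mul_assoc, ((Commute.neg_one_right (X ^ i)).pow_right j).eq, mul_assoc,
          ← pow_add, pow_eq_zero_of_le hij hXp, mul_zero], add_neg_cancel, texp_zero]
    rw [hXe] at h1
    calc texp p k (-X) = ρ x⁻¹ * (ρ x * texp p k (-X)) := by rw [← mul_assoc, hinv, one_mul]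
      _ = ρ x⁻¹ := by rw [h1, mul_one]
  have hxX : σ x X = X := by
    rw [hσ, adRep_apply, ← hXe, (commute_texp (Commute.refl X)).eq, hXe, mul_assoc, hinv', mul_one]
  have hxY : σ x Y = Y + H - X := by
    rw [hσ, adRep_apply, ← hxinv, ← hXe, texp_conj_eq (by omega) hXm (by omega)
      (by rw [← hH, hXH]; simp), ← hH, hXH, smul_neg, smul_smul, inv_mul_cancel₀ h2, one_smul]
    abel
  have hxH : σ x H = H - (2 : k) • X := by
    rw [hσ, adRep_apply, ← hxinv, ← hXe, texp_conj_eq (by omega) hXm (by omega)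
      (by rw [hXH]; simp), hXH]
    simp only [mul_neg, neg_mul, mul_smul_comm, smul_mul_assoc, sub_self, smul_zero, add_zero]
    abel
  -- the Gram matrix of the triple
  have hXX : τ X X = 0 := by
    rw [hτa]
    exact (LinearMap.isNilpotent_trace_of_isNilpotent
      ⟨m, by rw [(Commute.refl X).mul_pow, hXm, zero_mul]⟩).eq_zero
  have hXHτ : τ X H = 0 := by
    rw [hτa, hH, mul_sub, map_sub, ← mul_assoc, ← mul_assoc, sub_eq_zero,
      LinearMap.trace_mul_comm k (X * Y) X, ← mul_assoc]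
  have hHYτ : τ H Y = 0 := by
    rw [hτa, hH, sub_mul, map_sub, sub_eq_zero, LinearMap.trace_mul_comm k (X * Y) Y, ← mul_assoc]
  have hHH : τ H H = 2 * c := by
    have h : τ H (X * Y - Y * X) = 2 * c := by
      rw [map_sub, hτa, hτa, ← mul_assoc, ← mul_assoc, LinearMap.trace_mul_comm k (H * Y) X,
        ← mul_assoc, ← map_sub, ← sub_mul, hHX, smul_mul_assoc, map_smul, smul_eq_mul]
    exact h
  have hXYτ : τ X Y = c := rfl
  set q₀ := τ Y Y with hq₀
  -- the orthogonal projection
  set W₀ : Submodule k (Module.End k V) := Submodule.span k {X, H, Y} with hW₀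
  have hXW : X ∈ W₀ := Submodule.subset_span (by simp)
  have hHW : H ∈ W₀ := Submodule.subset_span (by simp)
  have hYW : Y ∈ W₀ := Submodule.subset_span (by simp)
  set e : Module.End k (Module.End k V) :=
    (τ Y - (q₀ / c) • τ X).smulRight (c⁻¹ • X) + (τ H).smulRight ((2 * c)⁻¹ • H) +
      (τ X).smulRight (c⁻¹ • Y) with he
  have heW : ∀ Z, e Z ∈ W₀ := fun Z =>
    W₀.add_mem (W₀.add_mem (W₀.smul_mem _ (W₀.smul_mem _ hXW))
      (W₀.smul_mem _ (W₀.smul_mem _ hHW))) (W₀.smul_mem _ (W₀.smul_mem _ hYW))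
  have heapp : ∀ Z, e Z = (τ Y Z - q₀ / c * τ X Z) • c⁻¹ • X + τ H Z • (2 * c)⁻¹ • H +
      τ X Z • c⁻¹ • Y := fun Z => by
    simp [he]
  have heX : e X = X := by
    rw [heapp, hXX, hτs Y X, hXYτ, hτs H X, hXHτ]
    simp [smul_smul, hc]
  have heH : e H = H := by
    rw [heapp, hXHτ, hτs Y H, hHYτ, hHH]
    simp [smul_smul, hc, h2, show (2 * c * (c⁻¹ * 2⁻¹) : k) = 1 by field_simp]
  have heY : e Y = Y := by
    rw [heapp, hXYτ, hHYτ, ← hq₀]
    simp [smul_smul, hc]
  have hefix : ∀ w ∈ W₀, e w = w := by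
    have : W₀ ≤ LinearMap.eqLocus e (LinearMap.id : Module.End k V →ₗ[k] Module.End k V) := by
      rw [hW₀, Submodule.span_le]
      rintro w (rfl | rfl | rfl)
      exacts [heX, heH, heY]
    exact fun w hw => this hw
  have hesym : ∀ a b, τ (e a) b = τ a (e b) := fun a b => by
    rw [heapp, heapp]
    simp only [map_add, map_smul, LinearMap.add_apply, LinearMap.smul_apply, smul_eq_mul,
      hτs a X, hτs a H, hτs a Y]
    ring
  have hei : IsIdempotentElem e := LinearMap.ext fun Z => hefix _ (heW Z)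
  -- the normalizer fixes the triple
  have hxW : ∀ w ∈ W₀, σ x w ∈ W₀ := by
    have : W₀ ≤ W₀.comap (σ x) := by
      rw [hW₀, Submodule.span_le]
      rintro w (rfl | rfl | rfl) <;> rw [SetLike.mem_coe, Submodule.mem_comap, ← hW₀]
      · rw [hxX]; exact hXW
      · rw [hxH]; exact W₀.sub_mem hHW (W₀.smul_mem _ hXW)
      · rw [hxY]; exact W₀.sub_mem (W₀.add_mem hYW hHW) hXW
    exact fun w hw => this hw
  have hqW : ∀ q ∈ Q, ∀ w ∈ W₀, σ q w ∈ W₀ := by
    intro q hq
    obtain ⟨a, ha, haX, haY⟩ := hQ q hq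
    have hX' : σ q X = a • X := by
      rw [hσ, adRep_apply, haX, smul_mul_assoc, mul_assoc, hinv', mul_one]
    have hY' : σ q Y = a⁻¹ • Y := by
      rw [hσ, adRep_apply, haY, smul_mul_assoc, mul_assoc, hinv', mul_one]
    have hH' : σ q H = H := by
      have hmul : ∀ A B, σ q (A * B) = σ q A * σ q B := fun A B => by
        rw [hσ, adRep_apply, adRep_apply, adRep_apply]
        simp only [← mul_assoc]
        rw [mul_assoc (ρ q * A) (ρ q⁻¹) (ρ q), hinv, mul_one]
      rw [hH, map_sub, hmul, hmul, hX', hY', smul_mul_smul_comm, smul_mul_smul_comm,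
        mul_inv_cancel₀ ha, inv_mul_cancel₀ ha, one_smul, one_smul]
    have : W₀ ≤ W₀.comap (σ q) := by
      rw [hW₀, Submodule.span_le]
      rintro w (rfl | rfl | rfl) <;> rw [SetLike.mem_coe, Submodule.mem_comap, ← hW₀]
      · rw [hX']; exact W₀.smul_mem _ hXW
      · rw [hH']; exact hHW
      · rw [hY']; exact W₀.smul_mem _ hYW
    exact fun w hw => this hw
  have hNW : ∀ n ∈ Subgroup.normalizer (Subgroup.zpowers x : Set G), ∀ w ∈ W₀, σ n w ∈ W₀ := by
    intro n hn w hw
    obtain ⟨i, q, hq, rfl⟩ := hQdec n hn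
    rw [map_mul, map_pow, Module.End.mul_apply]
    have : ∀ i : ℕ, ∀ w ∈ W₀, (σ x ^ i) w ∈ W₀ := fun i => by
      induction i with
      | zero => intro w hw; simpa using hw
      | succ i ih => intro w hw; rw [pow_succ, Module.End.mul_apply]; exact ih _ (hxW w hw)
    exact this i _ (hqW q hq w hw)
  have hNe : ∀ n ∈ Subgroup.normalizer (Subgroup.zpowers x : Set G), Commute (σ n) e := by
    intro n hn
    refine LinearMap.ext fun Z => ?_
    rw [Module.End.mul_apply, Module.End.mul_apply]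
    have horth : ∀ w ∈ W₀, τ (σ n (e Z)) w = τ (σ n Z) w := fun w hw => by
      have hb : σ n (σ n⁻¹ w) = w := by
        rw [← Module.End.mul_apply, ← map_mul, mul_inv_cancel, map_one, Module.End.one_apply]
      rw [← hb, hiso, hiso, hesym, hefix _ (hNW _ (inv_mem hn) w hw)]
    have hin := hNW n hn _ (heW Z)
    rw [← hefix _ hin, heapp (σ n (e Z)), heapp (σ n Z)]
    simp only [hτs Y, hτs H, hτs X, horth X hXW, horth H hHW, horth Y hYW]
  -- lifting
  have hidx : (σ x - 1) ^ (p - 1) = 0 := by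
    set d := Module.finrank k V
    have hN0 : IsNilpotent (ρ x - 1) := by
      obtain ⟨v, -, hv, hvc⟩ := exists_unit_texp_sub_one (k := k)
        (pow_eq_zero_of_le (show m ≤ p by omega) hXm)
      refine ⟨m, ?_⟩
      rw [← hXe, hv, (hvc X (Commute.refl X)).symm.mul_pow, hXm, zero_mul]
    have hN1 : IsNilpotent (ρ x⁻¹ - 1) := by
      have e : ρ x⁻¹ - 1 = -ρ x⁻¹ * (ρ x - 1) := by rw [mul_sub, neg_mul, hinv, mul_one]; abel
      rw [e]
      refine Commute.isNilpotent_mul_left ?_ hN0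
      refine (Commute.neg_left ?_).sub_right (Commute.one_right _)
      show ρ x⁻¹ * ρ x = ρ x * ρ x⁻¹
      rw [hinv, hinv']
    have ha : (LinearMap.mulLeft k (ρ x - 1) * LinearMap.mulRight k (ρ x⁻¹)) ^ d = 0 := by
      rw [(LinearMap.commute_mulLeft_right _ _).mul_pow, LinearMap.pow_mulLeft,
        pow_finrank_eq_zero hN0, LinearMap.mulLeft_zero_eq_zero, zero_mul]
    have hb : LinearMap.mulRight k (ρ x⁻¹ - 1) ^ d = 0 := by
      rw [LinearMap.pow_mulRight, pow_finrank_eq_zero hN1, LinearMap.mulRight_zero_eq_zero]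
    have e : σ x - 1 = LinearMap.mulLeft k (ρ x - 1) * LinearMap.mulRight k (ρ x⁻¹) +
        LinearMap.mulRight k (ρ x⁻¹ - 1) := by
      ext1 Z
      rw [LinearMap.sub_apply, hσ, adRep_apply, Module.End.one_apply, LinearMap.add_apply,
        Module.End.mul_apply, LinearMap.mulRight_apply, LinearMap.mulLeft_apply,
        LinearMap.mulRight_apply, sub_mul, mul_sub, one_mul, mul_one, mul_assoc]
      abel
    rw [e]
    refine Commute.add_pow_eq_zero_of_add_le_succ_of_pow_eq_zero ?_ ha hb (by omega)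
    refine (LinearMap.commute_mulLeft_right _ _).mul_left ?_
    show LinearMap.mulRight k _ * LinearMap.mulRight k _ = LinearMap.mulRight k _ * LinearMap.mulRight k _
    ext1 Z
    simp [mul_sub, sub_mul, mul_assoc, hinv, hinv']
  obtain ⟨E, u, hEi, hEc, hux, hEu, hEs⟩ := exists_lift σ hx hsq hidx hei hNe
  have hEτ := hEs τ hiso hesym
  -- the transported basis
  set U := (u : Module.End k (Module.End k V)) with hU
  have huinv : ∀ Z, (↑u⁻¹ : Module.End k (Module.End k V)) (U Z) = Z := fun Z =>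
    LinearMap.congr_fun u.inv_mul Z
  have huinv' : ∀ Z, U ((↑u⁻¹ : Module.End k (Module.End k V)) Z) = Z := fun Z =>
    LinearMap.congr_fun u.mul_inv Z
  have hEU : ∀ w ∈ W₀, E (U w) = U w := fun w hw => by
    rw [← Module.End.mul_apply, hEu, Module.End.mul_apply, hefix w hw]
  have hxU : ∀ Z, σ x (U Z) = U (σ x Z) := fun Z => (LinearMap.congr_fun hux.eq Z).symm
  set b0 := U X with hb0
  set b1 := U H with hb1
  set b2' := U Y with hb2'
  have hT0 : σ x b0 = b0 := by rw [hb0, hxU, hxX]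
  have hT1 : σ x b1 = b1 - (2 : k) • b0 := by rw [hb1, hxU, hxH, map_sub, map_smul]
  have hT2 : σ x b2' = b2' + b1 - b0 := by rw [hb2', hxU, hxY, map_sub, map_add]
  have hB : ∀ a b, τ (σ x a) (σ x b) = τ a b := hiso x
  set C := τ b0 b2' with hC
  have e02 := hB b0 b2'
  rw [hT0, hT2, map_sub, map_add, ← hC] at e02
  have e01 := hB b0 b1
  rw [hT0, hT1, map_sub, map_smul, smul_eq_mul] at e01
  have B00 : τ b0 b0 = 0 := by
    refine (mul_eq_zero.mp (?_ : (2 : k) * τ b0 b0 = 0)).resolve_left h2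
    linear_combination -e01
  have B01 : τ b0 b1 = 0 := by linear_combination e02 + B00
  have B10 : τ b1 b0 = 0 := by rw [hτs]; exact B01
  have e12 := hB b1 b2'
  rw [hT1, hT2] at e12
  simp only [map_sub, map_add, map_smul, LinearMap.sub_apply, LinearMap.smul_apply, smul_eq_mul,
    B00, B01, B10, ← hC] at e12
  have B11 : τ b1 b1 = 2 * C := by linear_combination e12
  have e22 := hB b2' b2'
  rw [hT2] at e22
  simp only [map_sub, map_add, LinearMap.sub_apply, LinearMap.add_apply, hτs b1 b2', hτs b0 b2',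
    B00, B01, B10, B11] at e22
  rw [hτs b2' b0, ← hC] at e22
  have B21 : τ b2' b1 = 0 := by
    refine (mul_eq_zero.mp (?_ : (2 : k) * τ b2' b1 = 0)).resolve_left h2
    linear_combination e22
  -- range of E is the transported span
  have hspan : ∀ Z, E Z ∈ W₀.map U := fun Z => by
    refine ⟨e ((↑u⁻¹ : Module.End k (Module.End k V)) Z), heW _, ?_⟩
    rw [← Module.End.mul_apply, ← hEu, Module.End.mul_apply, huinv']
  have hmem3 : ∀ Z ∈ W₀.map U, ∃ r0 r1 r2 : k, Z = r0 • b0 + r1 • b1 + r2 • b2' := by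
    rintro Z ⟨w, hw, rfl⟩
    obtain ⟨r0, r1, r2, rfl⟩ := Submodule.mem_span_triple.mp hw
    exact ⟨r0, r1, r2, by simp [hb0, hb1, hb2']⟩
  have hb0ne : b0 ≠ 0 := fun h => hc (by
    have h1 := huinv X
    rw [← hb0, h, map_zero] at h1
    rw [hcdef, ← h1, zero_mul, map_zero])
  have hCne : C ≠ 0 := by
    intro hC0
    refine hb0ne ?_
    have h0 : ∀ Z, τ b0 Z = 0 := fun Z => by
      rw [hb0, ← hEU X hXW, hEτ]
      obtain ⟨r0, r1, r2, hr⟩ := hmem3 _ (hspan Z)
      rw [hr, ← hb0]
      simp [B00, B01, ← hC, hC0]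
    refine LinearMap.ext fun v => ?_
    by_contra hv
    obtain ⟨f, hf⟩ : ∃ f : Module.Dual k V, f (b0 v) ≠ 0 := by
      by_contra hall
      push_neg at hall
      exact hv ((Module.forall_dual_apply_eq_zero_iff k _).mp hall)
    have h := h0 (f.smulRight v)
    rw [hτa, show b0 * f.smulRight v = f.smulRight (b0 v) from LinearMap.ext fun w => by simp,
      LinearMap.trace_smulRight] at h
    exact hf h
  -- correct the last vector
  set t := -(τ b2' b2') / (2 * C) with ht
  set b2 := b2' + t • b0 with hb2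
  let a : Fin 3 → Module.End k V := ![b0, b1, b2]
  have hG : ∀ i j, τ (a i) (a j) = C * gramJ k i j := by
    have B20 : τ b2' b0 = C := hτs _ _
    have B12 : τ b1 b2' = 0 := by rw [hτs]; exact B21
    intro i j
    fin_cases i <;> fin_cases j <;>
      simp [a, gramJ, hb2, B00, B01, B10, B11, B12, B21, B20, ← hC] <;> try ring
    rw [ht]
    field_simp
    ring
  have hT : ∀ j, σ x (a j) = ∑ i, adjMat (upperU (1 : k)) i j • a i := by
    intro j
    fin_cases j <;>
      simp [a, adjMat_upperU, Fin.sum_univ_three, hb2, hT0, hT1, hT2, map_add, map_smul] <;>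
      module
  have hgen : ∀ Z, ∃ r : Fin 3 → k, E Z = ∑ i, r i • a i := fun Z => by
    obtain ⟨r0, r1, r2, hr⟩ := hmem3 _ (hspan Z)
    refine ⟨![r0 - r2 * t, r1, r2], ?_⟩
    rw [hr, Fin.sum_univ_three]
    simp [a, hb2]
    module
  have haE : ∀ j, E (a j) = a j := fun j => by
    have h0 := hEU X hXW
    have h1 := hEU H hHW
    have h2' := hEU Y hYW
    fin_cases j <;> simp [a, hb2, hb0, hb1, hb2', h0, h1, h2', map_add, map_smul]
  let κ : Fin 3 → (Module.End k V →ₗ[k] k) :=
    ![C⁻¹ • τ (a 2), (2 * C)⁻¹ • τ (a 1), C⁻¹ • τ (a 0)]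
  have hκ : ∀ i j, κ i (a j) = if i = j then 1 else 0 := fun i j => by
    fin_cases i <;> fin_cases j <;> simp [κ, hG, gramJ, hCne, h2] <;> field_simp
  let M0 : G → Matrix (Fin 3) (Fin 3) k := fun g => Matrix.of fun i j => κ i (σ g (a j))
  have hexp : ∀ g j, σ g (a j) = ∑ i, M0 g i j • a i := fun g j => by
    obtain ⟨r, hr⟩ := hgen (σ g (a j))
    have hEg : E (σ g (a j)) = σ g (a j) := by
      rw [← Module.End.mul_apply, ← (hEc g).eq, Module.End.mul_apply, haE]
    rw [hEg] at hr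
    rw [hr]
    refine Finset.sum_congr rfl fun i _ => ?_
    congr 1
    simp [M0, hr, map_sum, map_smul, hκ]
  have hM1 : M0 1 = 1 := by ext i j; simp [M0, hκ, Matrix.one_apply]
  have hMmul : ∀ g h, M0 (g * h) = M0 g * M0 h := fun g h => by
    ext i j
    show κ i (σ (g * h) (a j)) = _
    rw [map_mul, Module.End.mul_apply, hexp h j, map_sum, map_sum, Matrix.mul_apply]
    refine Finset.sum_congr rfl fun l _ => ?_
    rw [map_smul, map_smul, smul_eq_mul, mul_comm]
    rfl
  have hMiso : ∀ g, (M0 g)ᵀ * gramJ k * M0 g = gramJ k := fun g => by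
    ext i j
    apply mul_left_cancel₀ hCne
    rw [← hG i j, ← hiso g (a i) (a j), hexp g i, hexp g j]
    simp only [Fin.sum_univ_three, map_add, map_smul, LinearMap.add_apply, LinearMap.smul_apply, hG, smul_eq_mul,
      Matrix.mul_apply, Matrix.transpose_apply]
    ring
  have hdet : ∀ g, (M0 g).det * (M0 g).det = 1 := fun g => by
    have h := congrArg Matrix.det (hMiso g)
    rw [Matrix.det_mul, Matrix.det_mul, Matrix.det_transpose] at h
    have hJ : (gramJ k).det ≠ 0 := by simp [gramJ, Matrix.det_fin_three, h2]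
    refine mul_right_cancel₀ hJ ?_
    rw [one_mul]
    linear_combination h
  let φ : G →* Matrix (Fin 3) (Fin 3) k :=
    { toFun := fun g => (M0 g).det • M0 g
      map_one' := by rw [hM1, Matrix.det_one, one_smul]
      map_mul' := fun g h => by rw [hMmul, Matrix.det_mul, smul_mul_smul_comm] }
  refine ⟨φ, fun g => ?_, fun g => ?_, ?_, b0, hb0ne, B00, fun g s hs => ⟨(M0 g).det, hdet g, ?_⟩⟩
  · show ((M0 g).det • M0 g)ᵀ * gramJ k * ((M0 g).det • M0 g) = gramJ k
    rw [Matrix.transpose_smul, smul_mul_assoc, smul_mul_smul_comm, hdet, one_smul, hMiso]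
  · show ((M0 g).det • M0 g).det = 1
    rw [Matrix.det_smul, Fintype.card_fin]
    linear_combination ((M0 g).det * (M0 g).det + 1) * hdet g
  · show (M0 x).det • M0 x = _
    have e : M0 x = adjMat (upperU 1) := by
      ext i j
      show κ i (σ x (a j)) = _
      rw [hT j, map_sum]
      simp [map_smul, hκ]
    rw [e, adjMat_upperU, Matrix.det_fin_three]
    simp
  · have hs' : (M0 g).det • M0 g = adjMat (upperU s) := hs
    have hM : M0 g = (M0 g).det • adjMat (upperU s) := by rw [← hs', smul_smul, hdet, one_smul]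
    have h0 : σ g b0 = (M0 g).det • b0 := by
      have h := hexp g 0
      rw [Fin.sum_univ_three] at h
      have e00 : M0 g 0 0 = (M0 g).det := by rw [congrFun (congrFun hM 0) 0]; simp [adjMat_upperU]
      have e10 : M0 g 1 0 = 0 := by rw [congrFun (congrFun hM 1) 0]; simp [adjMat_upperU]
      have e20 : M0 g 2 0 = 0 := by rw [congrFun (congrFun hM 2) 0]; simp [adjMat_upperU]
      rw [e00, e10, e20, zero_smul, zero_smul, add_zero, add_zero] at h
      exact h
    rw [hσ, adRep_apply] at h0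
    calc ρ g * b0 = ρ g * b0 * ρ g⁻¹ * ρ g := by rw [mul_assoc _ (ρ g⁻¹), hinv, mul_one]
      _ = _ := by rw [h0, smul_mul_assoc]

end CfsgLib.SmallDegree
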