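import Cfsg.Agent.Lib.SmallDegree.Twist
import Mathlib.GroupTheory.Sylow
import Mathlib.LinearAlgebra.Eigenspace.Triangularizable

/-!
# Small modular representations of groups whose Sylow subgroup has order `p`
-/

set_option autoImplicit false
set_option linter.unusedSectionVars false

namespace CfsgLib.SmallDegree

open Matrix

local notation "SL2" => Matrix.SpecialLinearGroup (Fin 2)

section Sylow

variable {G : Type*} [Group G] [Finite G] {p : ℕ} [hp : Fact p.Prime]

/-- Two elements of order `p` in a subgroup generate conjugate subgroups there. -/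
theorem exists_conj_pow (hsq : ¬ p ^ 2 ∣ Nat.card G) (H : Subgroup G) {x y : G}
    (hx : orderOf x = p) (hy : orderOf y = p) (hxH : x ∈ H) (hyH : y ∈ H) :
    ∃ h ∈ H, ∃ b : ℕ, h * y * h⁻¹ = x ^ b := by
  have hfac : (Nat.card H).factorization p = 1 := by
    refine le_antisymm (Nat.lt_succ_iff.mp ?_) (hp.out.factorization_pos_of_dvd Nat.card_pos.ne' ?_)
    · by_contra h
      exact hsq (((pow_dvd_pow p (not_lt.mp h)).trans (Nat.ordProj_dvd _ _)).trans
        (Subgroup.card_subgroup_dvd_card H))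
    · rw [← hx, ← Subgroup.orderOf_mk x hxH]; exact orderOf_dvd_natCard _
  have hc : ∀ z : H, orderOf z = p → Nat.card (Subgroup.zpowers z) = p ^ (Nat.card H).factorization p :=
    fun z hz => by rw [Nat.card_zpowers, hz, hfac, pow_one]
  have hxo : orderOf (⟨x, hxH⟩ : H) = p := by rw [Subgroup.orderOf_mk, hx]
  have hyo : orderOf (⟨y, hyH⟩ : H) = p := by rw [Subgroup.orderOf_mk, hy]
  obtain ⟨h, hh⟩ := MulAction.exists_smul_eq H (Sylow.ofCard _ (hc _ hyo)) (Sylow.ofCard _ (hc _ hxo))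
  refine ⟨h, h.2, ?_⟩
  have hmem : h * ⟨y, hyH⟩ * h⁻¹ ∈ Subgroup.zpowers (⟨x, hxH⟩ : H) := by
    have e := congrArg (fun S : Sylow p H => (S : Subgroup H)) hh
    simp only [Sylow.coe_subgroup_smul, Sylow.coe_ofCard] at e
    rw [← e]
    exact ⟨⟨y, hyH⟩, Subgroup.mem_zpowers _, rfl⟩
  rw [← mem_powers_iff_mem_zpowers] at hmem
  obtain ⟨b, hb⟩ := hmem
  exact ⟨b, (congrArg Subtype.val hb).symm⟩

end Sylow

section Model

variable {R : Type*} [CommRing R]

/-- The adjoint matrices as a homomorphism. -/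
def adjHom : SL2 R →* Matrix (Fin 3) (Fin 3) R where
  toFun g := adjMat (g : Matrix (Fin 2) (Fin 2) R)
  map_one' := by simp [adjMat_one]
  map_mul' g h := by simp [adjMat_mul]

theorem adjHom_uSL (s : R) : adjHom (uSL s) = adjMat (upperU s) := rfl

theorem adjHom_inv_mul (g : SL2 R) : adjHom g⁻¹ * adjHom g = 1 := by
  rw [← map_mul, inv_mul_cancel, map_one]

theorem adjHom_mul_inv (g : SL2 R) : adjHom g * adjHom g⁻¹ = 1 := by
  rw [← map_mul, mul_inv_cancel, map_one]

theorem adjMat_gram (g : SL2 R) : (adjHom g)ᵀ * gramJ R * adjHom g = gramJ R := by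
  have hd := g.2
  rw [Matrix.det_fin_two] at hd
  show (adjMat (g : Matrix (Fin 2) (Fin 2) R))ᵀ * gramJ R * adjMat _ = _
  ext i j
  fin_cases i <;> fin_cases j <;>
    simp [adjMat, gramJ, Matrix.mul_apply, Fin.sum_univ_three, -Matrix.cons_mul] <;>
    first
      | ring1
      | linear_combination
          ((g : Matrix (Fin 2) (Fin 2) R) 0 0 * (g : Matrix (Fin 2) (Fin 2) R) 1 1 -
            (g : Matrix (Fin 2) (Fin 2) R) 0 1 * (g : Matrix (Fin 2) (Fin 2) R) 1 0 + 1) * hd
      | linear_combination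
          2 * ((g : Matrix (Fin 2) (Fin 2) R) 0 0 * (g : Matrix (Fin 2) (Fin 2) R) 1 1 -
            (g : Matrix (Fin 2) (Fin 2) R) 0 1 * (g : Matrix (Fin 2) (Fin 2) R) 1 0 + 1) * hd

theorem adjMat_det (g : SL2 R) : (adjHom g).det = 1 := by
  have hd := g.2
  rw [Matrix.det_fin_two] at hd
  show (adjMat (g : Matrix (Fin 2) (Fin 2) R)).det = 1
  set a := (g : Matrix (Fin 2) (Fin 2) R) 0 0
  set b := (g : Matrix (Fin 2) (Fin 2) R) 0 1
  set c := (g : Matrix (Fin 2) (Fin 2) R) 1 0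
  set d := (g : Matrix (Fin 2) (Fin 2) R) 1 1
  simp [adjMat, Matrix.det_fin_three]
  linear_combination ((a * d - b * c) ^ 2 + (a * d - b * c) + 1) * hd

variable {k : Type*} [Field k]

/-- The kernel of the adjoint homomorphism is the centre. -/
theorem adjHom_eq_one {g : SL2 k} (h2 : (2 : k) ≠ 0) (hg : adjHom g = 1) : g = 1 ∨ g = -1 := by
  have hd := g.2
  rw [Matrix.det_fin_two] at hd
  set a := (g : Matrix (Fin 2) (Fin 2) k) 0 0 with ha
  set b := (g : Matrix (Fin 2) (Fin 2) k) 0 1 with hb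
  set c := (g : Matrix (Fin 2) (Fin 2) k) 1 0 with hc
  set d := (g : Matrix (Fin 2) (Fin 2) k) 1 1 with hd'
  have hg' : adjMat (g : Matrix (Fin 2) (Fin 2) k) = 1 := hg
  have e00 := congrFun (congrFun hg' 0) 0
  have e02 := congrFun (congrFun hg' 0) 2
  have e20 := congrFun (congrFun hg' 2) 0
  simp [adjMat, ← ha, ← hb, ← hc] at e00 e02 e20
  rw [e02, e20, mul_zero, sub_zero] at hd
  have hda : d = a := by linear_combination a * hd - d * e00
  rcases mul_self_eq_one_iff.mp e00 with h | h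
  · left
    refine Subtype.ext ?_
    ext i j
    fin_cases i <;> fin_cases j <;>
      simp [← ha, ← hb, ← hc, ← hd', h, hda, e02, e20]
  · right
    refine Subtype.ext ?_
    ext i j
    fin_cases i <;> fin_cases j <;>
      simp [← ha, ← hb, ← hc, ← hd', h, hda, e02, e20]

/-- An orientation preserving isometry commuting with a regular unipotent is unipotent. -/
theorem centralizer_regular (h2 : (2 : k) ≠ 0) {M : Matrix (Fin 3) (Fin 3) k}
    (hM : Mᵀ * gramJ k * M = gramJ k) (hdet : M.det = 1)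
    (hc : Commute M (adjMat (upperU 1))) : ∃ s : k, M = adjMat (upperU s) := by
  have e := hc.eq
  rw [adjMat_upperU] at e
  have e00 := congrFun (congrFun e 0) 0
  have e10 := congrFun (congrFun e 1) 0
  have e11 := congrFun (congrFun e 1) 1
  have e01 := congrFun (congrFun e 0) 1
  have e12 := congrFun (congrFun e 1) 2
  have e02 := congrFun (congrFun e 0) 2
  simp [Matrix.mul_apply, Fin.sum_univ_three, -Matrix.cons_mul] at e00 e10 e11 e01 e12 e02
  have g0 : M 2 0 = 0 := by linear_combination e10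
  have d0 : M 1 0 = 0 := by
    refine (mul_eq_zero.mp (?_ : (2 : k) * M 1 0 = 0)).resolve_left h2
    linear_combination e00 - g0
  have hh0 : M 2 1 = 0 := by linear_combination -e11 - 2 * d0
  have he : M 1 1 = M 0 0 := by
    refine sub_eq_zero.mp ((mul_eq_zero.mp (?_ : (2 : k) * (M 1 1 - M 0 0) = 0)).resolve_left h2)
    linear_combination e01 - hh0
  have hi : M 2 2 = M 0 0 := by linear_combination -e12 - d0 + he
  have hb : M 0 1 = -(2 * M 1 2) := by linear_combination e02 - hi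
  have hJ := congrFun (congrFun hM 0) 2
  have hJ2 := congrFun (congrFun hM 2) 2
  simp [gramJ, Matrix.mul_apply, Fin.sum_univ_three, g0, d0, hh0, hi, -Matrix.cons_mul] at hJ hJ2
  rw [Matrix.det_fin_three, g0, d0, hh0, he, hi] at hdet
  have ha : M 0 0 = 1 := by linear_combination hdet - M 0 0 * hJ
  refine ⟨M 1 2, ?_⟩
  rw [adjMat_upperU]
  ext i j
  fin_cases i <;> fin_cases j <;> simp [g0, d0, hh0, he, hi, hb, ha]
  rw [ha] at hJ2
  refine sub_eq_zero.mp ((mul_eq_zero.mp (?_ : (2 : k) * (M 0 2 - -(M 1 2 * M 1 2)) = 0)).resolve_left h2)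
  linear_combination hJ2

/-- Conjugates of the regular unipotent by isometries come from `SL₂`. -/
theorem exists_conj_lift (h2 : (2 : k) ≠ 0) {g g' : Matrix (Fin 3) (Fin 3) k} (hgg : g * g' = 1)
    (hg : gᵀ * gramJ k * g = gramJ k) (hdet : g.det = 1) :
    ∃ (h : SL2 k) (μ : k), μ ≠ 0 ∧ g * adjMat (upperU 1) * g' = adjHom (h * uSL μ * h⁻¹) := by
  have hiso0 := congrFun (congrFun hg 0) 0
  simp [gramJ, Matrix.mul_apply, Fin.sum_univ_three, -Matrix.cons_mul] at hiso0
  obtain ⟨h, hh⟩ : ∃ h : SL2 k,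
      (adjHom h⁻¹ * g) 1 0 = 0 ∧ (adjHom h⁻¹ * g) 2 0 = 0 := by
    by_cases hγ : g 2 0 = 0
    · refine ⟨1, ?_, ?_⟩
      · rw [inv_one, map_one, one_mul]
        rw [hγ] at hiso0
        have h3 : g 1 0 * g 1 0 = 0 :=
          (mul_eq_zero.mp (show (2 : k) * (g 1 0 * g 1 0) = 0 by linear_combination hiso0)).resolve_left h2
        exact mul_self_eq_zero.mp h3
      · rw [inv_one, map_one, one_mul, hγ]
    · have hγ2 : g 1 0 * g 1 0 + g 0 0 * g 2 0 = 0 :=
        (mul_eq_zero.mp (show (2 : k) * (g 1 0 * g 1 0 + g 0 0 * g 2 0) = 0 by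
          linear_combination hiso0)).resolve_left h2
      let h' : SL2 k := ⟨!![g 1 0 / g 2 0, -1; 1, 0], by simp [Matrix.det_fin_two]⟩
      have hinv : ((h'⁻¹ : SL2 k) : Matrix (Fin 2) (Fin 2) k) = !![0, 1; -1, g 1 0 / g 2 0] := by
        rw [Matrix.SpecialLinearGroup.coe_inv]
        simp [h', Matrix.adjugate_fin_two]
      refine ⟨h', ?_, ?_⟩
      · simp [adjHom, adjMat, hinv,
          Matrix.mul_apply, Fin.sum_univ_three, -Matrix.cons_mul]
        field_simp
        ring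
      · simp [adjHom, adjMat, hinv,
          Matrix.mul_apply, Fin.sum_univ_three, -Matrix.cons_mul]
        field_simp
        first | linear_combination -hγ2 | linear_combination hγ2
  set M := adjHom h⁻¹ * g with hMdef
  have hM : Mᵀ * gramJ k * M = gramJ k := by
    rw [hMdef, Matrix.transpose_mul]
    calc gᵀ * (adjHom h⁻¹)ᵀ * gramJ k * (adjHom h⁻¹ * g)
        = gᵀ * ((adjHom h⁻¹)ᵀ * gramJ k * adjHom h⁻¹) * g := by simp only [mul_assoc]
      _ = gramJ k := by rw [adjMat_gram, hg]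
  have hMdet : M.det = 1 := by rw [hMdef, Matrix.det_mul, adjMat_det, hdet, one_mul]
  obtain ⟨h10, h20⟩ := hh
  have j01 := congrFun (congrFun hM 0) 1
  have j02 := congrFun (congrFun hM 0) 2
  have j11 := congrFun (congrFun hM 1) 1
  have j12 := congrFun (congrFun hM 1) 2
  simp [gramJ, Matrix.mul_apply, Fin.sum_univ_three, h10, h20, -Matrix.cons_mul] at j01 j02 j11 j12
  have hμ : M 0 0 ≠ 0 := fun h0 => by rw [h0, zero_mul] at j02; exact zero_ne_one j02
  have h21 : M 2 1 = 0 := j01.resolve_left hμ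
  simp [h21] at j11 j12
  rw [Matrix.det_fin_three, h10, h20, h21] at hMdet
  have h11 : M 1 1 = 1 := by linear_combination hMdet - M 1 1 * j02
  simp [h11] at j12
  refine ⟨h, M 0 0, hμ, ?_⟩
  have hkey : M * adjMat (upperU 1) = adjHom (uSL (M 0 0)) * M := by
    rw [adjHom_uSL, adjMat_upperU, adjMat_upperU]
    ext i j
    fin_cases i <;> fin_cases j <;>
      simp [Matrix.mul_apply, Fin.sum_univ_three, h10, h20, h21, h11, -Matrix.cons_mul]
    all_goals first
      | ring1
      | linear_combination j02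
      | linear_combination -j02
      | linear_combination (M 0 0) * j12
      | linear_combination -(M 0 0) * j12
      | linear_combination (M 0 0) * j12 + (M 0 0 - M 0 1) * j02
      | linear_combination -((M 0 0) * j12) + (M 0 1 - M 0 0) * j02
  calc g * adjMat (upperU 1) * g'
      = adjHom h * (M * adjMat (upperU 1)) * g' := by
        rw [hMdef, ← mul_assoc, ← mul_assoc, adjHom_mul_inv, one_mul]
    _ = adjHom h * adjHom (uSL (M 0 0)) * (M * g') := by rw [hkey]; simp only [mul_assoc]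
    _ = _ := by rw [hMdef, mul_assoc (adjHom h⁻¹), hgg, mul_one, map_mul, map_mul]

end Model

variable {k : Type*} [Field k] {p : ℕ} [CharP k p] [hp : Fact p.Prime]
variable {G : Type*} [Group G] [Finite G]

/-- The image of the group under an orthogonal representation with conjugate unipotents
contains `SL₂(p)`. -/
theorem exists_SL2_image (hp5 : 5 ≤ p) (φ : G →* Matrix (Fin 3) (Fin 3) k)
    (hiso : ∀ g, (φ g)ᵀ * gramJ k * φ g = gramJ k) (hdet : ∀ g, (φ g).det = 1)
    {x : G} (hx : orderOf x = p) (hφx : φ x = adjMat (upperU 1)) (hsq : ¬ p ^ 2 ∣ Nat.card G)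
    (hnn : ∃ g, ∀ i : ℕ, φ (g * x * g⁻¹) ≠ φ (x ^ i)) :
    ∃ μ : k,
      (∀ t : SL2 (ZMod p), ∃ a : G,
        φ a = adjHom (uSL μ * Matrix.SpecialLinearGroup.map (ZMod.castHom dvd_rfl k) t * uSL (-μ))) ∧
      ∀ g : G, ∃ t : SL2 (ZMod p), φ (g * x * g⁻¹) =
        adjHom (uSL μ * Matrix.SpecialLinearGroup.map (ZMod.castHom dvd_rfl k) t * uSL (-μ)) := by
  classical
  have h2 : (2 : k) ≠ 0 := ne_zero_two (k := k) (p := p) (by omega)
  set Φ := φ.toHomUnits with hΦ
  set Ψ := (adjHom (R := k)).toHomUnits with hΨ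
  set Γ : Subgroup (SL2 k) := Φ.range.comap Ψ with hΓ
  have hmemΓ : ∀ g : SL2 k, g ∈ Γ ↔ ∃ a, φ a = adjHom g := fun g => by
    rw [hΓ, Subgroup.mem_comap]
    exact exists_congr fun a => Units.ext_iff
  let ι : Γ →* Φ.range := (Ψ.comp Γ.subtype).codRestrict _ fun g => g.2
  have hker : ∀ g : Γ, g ∈ ι.ker → (g : SL2 k) ∈ ({1, -1} : Finset (SL2 k)) := fun g hg => by
    have h : adjHom (g : SL2 k) = 1 := congrArg (fun u : Φ.range => ((u : (Matrix (Fin 3) (Fin 3) k)ˣ) :
      Matrix (Fin 3) (Fin 3) k)) hg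
    rcases adjHom_eq_one h2 h with h' | h' <;> simp [h']
  haveI hKfin : Finite ι.ker := Finite.of_injective
    (fun g : ι.ker => (⟨(g.1 : SL2 k), hker g.1 g.2⟩ : ({1, -1} : Finset (SL2 k)))) fun a b h => by
      have := congrArg Subtype.val h
      exact Subtype.ext (Subtype.ext this)
  haveI : Finite Φ.range := Finite.of_surjective Φ.rangeRestrict Φ.rangeRestrict_surjective
  haveI hΓfin : Finite Γ := by
    haveI : Finite (Γ ⧸ ι.ker) := Finite.of_injective _ (QuotientGroup.kerLift_injective ι)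
    exact Finite.of_equiv _ (Subgroup.groupEquivQuotientProdSubgroup (s := ι.ker)).symm
  have hkc : Nat.card ι.ker ≤ 2 := by
    refine (Nat.card_le_card_of_injective
      (fun g : ι.ker => (⟨(g.1 : SL2 k), hker g.1 g.2⟩ : ({1, -1} : Finset (SL2 k)))) fun a b h => by
        have := congrArg Subtype.val h
        exact Subtype.ext (Subtype.ext this)).trans ?_
    rw [Nat.card_eq_fintype_card, Fintype.card_coe]
    exact Finset.card_le_two
  have hsqΓ : ¬ p ^ 2 ∣ Nat.card Γ := by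
    intro h
    rw [← Subgroup.card_mul_index ι.ker, Subgroup.index_ker] at h
    have hcop : Nat.Coprime (p ^ 2) (Nat.card ι.ker) := by
      refine Nat.Coprime.pow_left _ (hp.out.coprime_iff_not_dvd.mpr fun hd => ?_)
      have := Nat.le_of_dvd Nat.card_pos hd
      omega
    exact hsq ((hcop.dvd_of_dvd_mul_left h).trans
      ((Subgroup.card_subgroup_dvd_card ι.range).trans (Subgroup.card_range_dvd Φ)))
  have hu : uSL (1 : k) ∈ Γ := (hmemΓ _).mpr ⟨x, by rw [hφx, adjHom_uSL]⟩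
  have hlift : ∀ g : G, ∃ y ∈ Γ, y ^ p = 1 ∧ φ (g * x * g⁻¹) = adjHom y := by
    intro g
    obtain ⟨h, μ, -, he⟩ := exists_conj_lift h2 (g' := φ g⁻¹)
      (show φ g * φ g⁻¹ = 1 by rw [← map_mul, mul_inv_cancel, map_one]) (hiso g) (hdet g)
    have he' : φ (g * x * g⁻¹) = adjHom (h * uSL μ * h⁻¹) := by rw [map_mul, map_mul, hφx, he]
    refine ⟨h * uSL μ * h⁻¹, (hmemΓ _).mpr ⟨_, he'⟩, ?_, he'⟩
    rw [conj_pow, uSL_pow, CharP.cast_eq_zero, zero_mul, uSL_zero, mul_one, mul_inv_cancel]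
  obtain ⟨g₀, hg₀⟩ := hnn
  obtain ⟨y, hyΓ, hyp, hye⟩ := hlift g₀
  have hy10 : (y : Matrix (Fin 2) (Fin 2) k) 1 0 ≠ 0 := fun h0 => by
    obtain ⟨i, hi⟩ := mem_zpowers_of_upper hu hsqΓ hyΓ hyp h0
    refine hg₀ i ?_
    rw [hye, hi, map_pow, hφx, ← adjHom_uSL, ← map_pow, uSL_pow, mul_one]
  obtain ⟨μ, hμ1, hμ2⟩ := exists_frame hp5 hu hsqΓ ⟨y, hyΓ, hyp, hy10⟩
  refine ⟨μ, fun t => (hmemΓ _).mp (hμ1 t), fun g => ?_⟩
  obtain ⟨z, hzΓ, hzp, hze⟩ := hlift g
  obtain ⟨t, ht⟩ := hμ2 z hzΓ hzp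
  exact ⟨t, by rw [hze, ht]⟩

/-- Squares act on the subgroup of order `p`. -/
theorem exists_square (hp5 : 5 ≤ p) (φ : G →* Matrix (Fin 3) (Fin 3) k)
    (hiso : ∀ g, (φ g)ᵀ * gramJ k * φ g = gramJ k) (hdet : ∀ g, (φ g).det = 1)
    {x : G} (hx : orderOf x = p) (hφx : φ x = adjMat (upperU 1)) (hsq : ¬ p ^ 2 ∣ Nat.card G)
    (hnn : ∃ g, ∀ i : ℕ, φ (g * x * g⁻¹) ≠ φ (x ^ i)) {r : ℕ} (hr : ¬ p ∣ r) :
    ∃ g : G, g * x * g⁻¹ = x ^ (r * r) := by
  classical
  obtain ⟨μ, hμ, -⟩ := exists_SL2_image hp5 φ hiso hdet hx hφx hsq hnn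
  set f := ZMod.castHom (dvd_refl p) k
  have hr0 : (r : ZMod p) ≠ 0 := fun h => hr ((ZMod.natCast_eq_zero_iff r p).mp h)
  let t : SL2 (ZMod p) := ⟨!![(r : ZMod p), 0; 0, (r : ZMod p)⁻¹], by
    simp [Matrix.det_fin_two, hr0]⟩
  obtain ⟨a, ha⟩ := hμ t
  set T := uSL μ * Matrix.SpecialLinearGroup.map f t * uSL (-μ) with hT
  have hkey : T * uSL 1 = uSL ((r * r : ℕ) : k) * T := by
    have h1 : Matrix.SpecialLinearGroup.map f t * uSL 1 =
        uSL ((r * r : ℕ) : k) * Matrix.SpecialLinearGroup.map f t := by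
      have hrk : (f (r : ZMod p)) * (f ((r : ZMod p)⁻¹)) = 1 := by
        rw [← map_mul, mul_inv_cancel₀ hr0, map_one]
      rw [map_natCast] at hrk
      have hmt : ∀ i j, (Matrix.SpecialLinearGroup.map f t : Matrix (Fin 2) (Fin 2) k) i j =
          f ((t : Matrix (Fin 2) (Fin 2) (ZMod p)) i j) := fun _ _ => rfl
      refine Subtype.ext ?_
      ext i j
      fin_cases i <;> fin_cases j <;>
        simp [hmt, coe_uSL, Matrix.mul_apply, Fin.sum_univ_two, t, -Matrix.cons_mul]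
    calc T * uSL 1 = uSL μ * (Matrix.SpecialLinearGroup.map f t * uSL 1) * uSL (-μ) := by
          rw [hT, mul_assoc _ (uSL (-μ)), uSL_mul, add_comm (-μ) 1, ← uSL_mul]; group
      _ = uSL μ * uSL ((r * r : ℕ) : k) * Matrix.SpecialLinearGroup.map f t * uSL (-μ) := by
          rw [h1]; group
      _ = _ := by rw [uSL_mul, add_comm μ, ← uSL_mul, hT]; group
  set y := a * x * a⁻¹ with hy
  have hφy : φ y = φ (x ^ (r * r)) := by
    have ha' : φ a⁻¹ = adjHom T⁻¹ :=
      left_inv_eq_right_inv (a := φ a) (by rw [← map_mul, inv_mul_cancel, map_one])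
        (by rw [ha, adjHom_mul_inv])
    rw [hy, map_mul, map_mul, ha, ha', hφx, ← adjHom_uSL, ← map_mul, ← map_mul, hkey,
      mul_inv_cancel_right, map_pow, hφx, ← adjHom_uSL, ← map_pow, uSL_pow, mul_one]
  set H := (Subgroup.zpowers (φ.toHomUnits x)).comap φ.toHomUnits with hH
  have hxH : x ∈ H := by rw [hH, Subgroup.mem_comap]; exact Subgroup.mem_zpowers _
  have hyH : y ∈ H := by
    rw [hH, Subgroup.mem_comap, show φ.toHomUnits y = φ.toHomUnits (x ^ (r * r)) from Units.ext hφy,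
      map_pow]
    exact pow_mem (Subgroup.mem_zpowers _) _
  have hyo : orderOf y = p := by
    rw [hy, show a * x * a⁻¹ = (MulAut.conj a).toMonoidHom x by simp,
      orderOf_injective (MulAut.conj a).toMonoidHom (MulAut.conj a).injective, hx]
  obtain ⟨h, hhH, b, hb⟩ := exists_conj_pow hsq H hx hyo hxH hyH
  refine ⟨h * a, ?_⟩
  have e : h * a * x * (h * a)⁻¹ = h * y * h⁻¹ := by rw [hy]; group
  rw [e, hb]
  have hcomm : Commute (φ h) (φ x) := by
    obtain ⟨i, hi⟩ := Subgroup.mem_zpowers_iff.mp (Subgroup.mem_comap.mp hhH)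
    have h' : Commute (φ.toHomUnits h) (φ.toHomUnits x) := hi ▸ Commute.zpow_self _ i
    exact congrArg Units.val h'.eq
  have hφb : φ x ^ b = φ x ^ (r * r) := by
    rw [← map_pow φ x b, ← hb, map_mul, map_mul, hφy, map_pow, (hcomm.pow_right _).eq, mul_assoc,
      ← map_mul, mul_inv_cancel, map_one, mul_one]
  have hord : orderOf (φ x) = p := by
    refine orderOf_eq_prime (by rw [← map_pow, ← hx, pow_orderOf_eq_one, map_one]) ?_
    rw [hφx, adjMat_upperU]
    intro h1
    have := congrFun (congrFun h1 1) 2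
    simp at this
  rw [pow_eq_pow_iff_modEq, hx]
  have := congrArg (fun z => z) hφb
  have hu : φ.toHomUnits x ^ b = φ.toHomUnits x ^ (r * r) := Units.ext (by simpa using hφb)
  rw [pow_eq_pow_iff_modEq, ← orderOf_units, show ((φ.toHomUnits x : _) : Matrix _ _ k) = φ x from rfl,
    hord] at hu
  exact hu

variable {V : Type*} [AddCommGroup V] [Module k V] [FiniteDimensional k V]

/-- Invariant eigenvectors of endomorphisms commuting with an irreducible representation. -/
theorem eq_smul_one [IsAlgClosed k] [Nontrivial V] (ρ : G →* Module.End k V)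
    (hirr : ∀ U : Submodule k V, (∀ g, ∀ v ∈ U, ρ g v ∈ U) → U = ⊥ ∨ U = ⊤)
    {f : Module.End k V} (hf : ∀ g, Commute (ρ g) f) : ∃ c : k, f = c • 1 := by
  obtain ⟨c, hc⟩ := Module.End.exists_eigenvalue f
  refine ⟨c, ?_⟩
  rcases hirr (f.eigenspace c) (fun g v hv => by
      rw [Module.End.mem_eigenspace_iff] at hv ⊢
      rw [← Module.End.mul_apply, ← (hf g).eq, Module.End.mul_apply, hv, map_smul]) with h | h
  · exact absurd h hc
  · refine LinearMap.ext fun v => ?_
    have hv : v ∈ f.eigenspace c := h ▸ Submodule.mem_top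
    simpa using Module.End.mem_eigenspace_iff.mp hv

/-- The `p`-nilpotent case does not occur. -/
theorem false_of_pNilpotent [IsAlgClosed k] (hp5 : 5 ≤ p) (ρ : G →* Module.End k V)
    (hirr : ∀ U : Submodule k V, (∀ g, ∀ v ∈ U, ρ g v ∈ U) → U = ⊥ ∨ U = ⊤)
    {x : G} (hx : orderOf x = p) (hsq : ¬ p ^ 2 ∣ Nat.card G) (hρ : ρ x ≠ 1)
    (hdim : 2 * Module.finrank k V + 1 ≤ p) (K : Subgroup G) [K.Normal]
    (hK : ¬ p ∣ Nat.card K) (hdec : ∀ g : G, ∃ (c : G) (i : ℕ), c ∈ K ∧ g = c * x ^ i) : False := by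
  classical
  have h2 : (2 : k) ≠ 0 := ne_zero_two (k := k) (p := p) (by omega)
  obtain ⟨φ, hiso, hdet, hφx, Z, hZ0, hZtr, hZ⟩ := exists_adjoint ρ hirr hx hsq hρ hdim hp5
  have hKP : ∀ j : ℕ, x ^ j ∈ K → x ^ j = 1 := fun j hj => by
    rw [← orderOf_eq_one_iff]
    have h1 : orderOf (x ^ j) ∣ p := orderOf_dvd_of_pow_eq_one (by
      rw [← pow_mul, mul_comm, pow_mul, ← hx, pow_orderOf_eq_one, one_pow])
    have h2 : orderOf (x ^ j) ∣ Nat.card K := by
      rw [← Subgroup.orderOf_mk (x ^ j) hj]; exact orderOf_dvd_natCard _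
    exact Nat.eq_one_of_dvd_coprimes (hp.out.coprime_iff_not_dvd.mpr hK) h1 h2
  have hcomm : ∀ c ∈ K, Commute (φ c) (φ x) := by
    intro c hc
    by_cases hnn : ∃ g, ∀ i : ℕ, φ (g * x * g⁻¹) ≠ φ (x ^ i)
    · exfalso
      obtain ⟨g, hg⟩ := exists_square hp5 φ hiso hdet hx hφx hsq hnn (r := 2)
        (fun h => absurd (Nat.le_of_dvd two_pos h) (by omega))
      obtain ⟨d, i, hd, rfl⟩ := hdec g
      have h1 : d * x * d⁻¹ = x ^ 4 := by rw [← hg]; group
      have h3 : x ^ 3 ∈ K := by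
        have e : x ^ 3 = x⁻¹ * (d * x * d⁻¹) := by rw [h1, pow_succ' x 3]; group
        rw [e, show x⁻¹ * (d * x * d⁻¹) = (x⁻¹ * d * x) * d⁻¹ by group]
        refine mul_mem ?_ (inv_mem hd)
        simpa using ‹K.Normal›.conj_mem d hd x⁻¹
      have := hKP 3 h3
      rw [← orderOf_dvd_iff_pow_eq_one, hx] at this
      exact absurd (Nat.le_of_dvd (by norm_num) this) (by omega)
    push_neg at hnn
    obtain ⟨i, hi⟩ := hnn c
    set e := c * x * c⁻¹ * x⁻¹ with he
    have heK : e ∈ K := by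
      rw [he, show c * x * c⁻¹ * x⁻¹ = c * (x * c⁻¹ * x⁻¹) by group]
      exact mul_mem hc (‹K.Normal›.conj_mem _ (inv_mem hc) x)
    set Φ := φ.toHomUnits
    have hinv : Φ e = Φ x ^ ((i : ℤ) - 1) := by
      rw [he, map_mul, map_inv, show Φ (c * x * c⁻¹) = Φ (x ^ i) from Units.ext hi, map_pow,
        zpow_sub_one, zpow_natCast]
    have h1 : orderOf (Φ e) ∣ p := orderOf_dvd_of_pow_eq_one (by
      rw [hinv, ← zpow_natCast, ← zpow_mul, mul_comm, zpow_mul, zpow_natCast, ← map_pow, ← hx,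
        pow_orderOf_eq_one, map_one, one_zpow])
    have h2' : orderOf (Φ e) ∣ Nat.card K :=
      (orderOf_map_dvd Φ e).trans (by rw [← Subgroup.orderOf_mk e heK]; exact orderOf_dvd_natCard _)
    have h3 : Φ e = 1 := orderOf_eq_one_iff.mp
      (Nat.eq_one_of_dvd_coprimes (hp.out.coprime_iff_not_dvd.mpr hK) h1 h2')
    have h4 : Φ c * Φ x = Φ x * Φ c := by
      rw [he, map_mul, map_mul, map_mul, map_inv, map_inv, mul_inv_eq_one, mul_inv_eq_iff_eq_mul] at h3
      exact h3
    exact congrArg Units.val h4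
  have huni : ∀ g : G, ∃ s, φ g = adjMat (upperU s) := by
    intro g
    refine centralizer_regular h2 (hiso g) (hdet g) ?_
    obtain ⟨c, i, hc, rfl⟩ := hdec g
    rw [← hφx, map_mul, map_pow]
    exact (hcomm c hc).mul_left ((Commute.refl _).pow_left i)
  have hzr : ∀ g, ∃ ε : k, ε * ε = 1 ∧ ρ g * Z = ε • (Z * ρ g) := fun g => by
    obtain ⟨s, hs⟩ := huni g
    exact hZ g s hs
  haveI : Nontrivial V := by
    by_contra h
    rw [not_nontrivial_iff_subsingleton] at h
    exact hρ (LinearMap.ext fun v => Subsingleton.elim _ _)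
  have hinj : LinearMap.ker Z = ⊥ := by
    refine (hirr _ fun g v hv => ?_).resolve_right fun h => hZ0 (LinearMap.ker_eq_top.mp h)
    obtain ⟨ε, hε, he⟩ := hzr g
    rw [LinearMap.mem_ker] at hv ⊢
    have := LinearMap.congr_fun he v
    rw [Module.End.mul_apply, LinearMap.smul_apply, Module.End.mul_apply, hv, map_zero] at this
    exact (smul_eq_zero.mp this.symm).resolve_left (fun h => by rw [h, zero_mul] at hε; exact zero_ne_one hε)
  have hcomm2 : ∀ g, Commute (ρ g) (Z * Z) := fun g => by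
    obtain ⟨ε, hε, he⟩ := hzr g
    show ρ g * (Z * Z) = Z * Z * ρ g
    rw [← mul_assoc, he, smul_mul_assoc, mul_assoc, he, mul_smul_comm, smul_smul, hε, one_smul,
      ← mul_assoc]
  obtain ⟨c, hc⟩ := eq_smul_one ρ hirr hcomm2
  have hc0 : c ≠ 0 := fun h => by
    rw [h, zero_smul] at hc
    have hZi := LinearMap.ker_eq_bot.mp hinj
    obtain ⟨v, hv⟩ := exists_ne (0 : V)
    refine hv (hZi (hZi ?_))
    have := LinearMap.congr_fun hc v
    rw [Module.End.mul_apply] at this
    simpa using this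
  rw [hc, map_smul, LinearMap.trace_one, smul_eq_mul, mul_eq_zero, or_iff_right hc0,
    CharP.cast_eq_zero_iff k p] at hZtr
  exact absurd (Nat.le_of_dvd Module.finrank_pos hZtr) (by omega)

end CfsgLib.SmallDegree
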