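import Mathlib.Algebra.CharP.Lemmas
import Mathlib.Algebra.Polynomial.AlgebraMap
import Mathlib.Algebra.Ring.GeomSum
import Mathlib.Data.Nat.Prime.Factorial
import Mathlib.RingTheory.Nilpotent.Basic
import Mathlib.Tactic

/-!
# The truncated exponential in characteristic `p`
-/

set_option autoImplicit false

namespace CfsgLib.SmallDegree

open Finset Polynomial

variable (p : ℕ) (k : Type*) [Field k]

/-- The truncated exponential series. -/
noncomputable def texp {A : Type*} [Ring A] [Algebra k A] (a : A) : A :=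
  ∑ i ∈ range p, ((i.factorial : k)⁻¹) • a ^ i

variable {p k} {A : Type*} [Ring A] [Algebra k A]

theorem map_texp {B : Type*} [Ring B] [Algebra k B] (f : A →ₐ[k] B) (a : A) :
    f (texp p k a) = texp p k (f a) := by
  simp [texp]

theorem commute_texp {a b : A} (h : Commute a b) : Commute (texp p k a) b :=
  Commute.sum_left _ _ _ fun _ _ => (h.pow_left _).smul_left _

theorem texp_conj (u : Aˣ) (a : A) :
    texp p k ((u : A) * a * (↑u⁻¹ : A)) = (u : A) * texp p k a * (↑u⁻¹ : A) := by
  rw [texp, texp, Finset.mul_sum, Finset.sum_mul]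
  refine Finset.sum_congr rfl fun i _ => ?_
  rw [mul_smul_comm, smul_mul_assoc, Units.conj_pow]

variable [CharP k p] [hp : Fact p.Prime]

theorem factorial_ne_zero {i : ℕ} (hi : i < p) : (i.factorial : k) ≠ 0 := by
  rw [Ne, CharP.cast_eq_zero_iff k p]
  exact fun h => absurd ((Nat.Prime.dvd_factorial hp.out).mp h) (not_le.mpr hi)

theorem texp_zero : texp p k (0 : A) = 1 := by
  rw [texp, Finset.sum_eq_single 0]
  · simp
  · intro i _ hi; rw [zero_pow hi, smul_zero]
  · exact fun h => absurd (mem_range.mpr hp.out.pos) h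

theorem texp_add {a b : A} (h : Commute a b) (hz : ∀ i j, p ≤ i + j → a ^ i * b ^ j = 0) :
    texp p k (a + b) = texp p k a * texp p k b := by
  have h1 : texp p k (a + b) = ∑ m ∈ range p, ∑ i ∈ range (m + 1),
      ((i.factorial : k)⁻¹ * ((m - i).factorial : k)⁻¹) • (a ^ i * b ^ (m - i)) := by
    refine Finset.sum_congr rfl fun m hm => ?_
    rw [h.add_pow, Finset.smul_sum]
    refine Finset.sum_congr rfl fun i hi => ?_
    have him : i ≤ m := Nat.lt_succ_iff.mp (mem_range.mp hi)
    rw [← (Nat.cast_commute (m.choose i) (a ^ i * b ^ (m - i))).eq, ← nsmul_eq_mul,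
      ← Nat.cast_smul_eq_nsmul k, smul_smul]
    congr 1
    have e : (m.choose i : k) * (i.factorial : k) * ((m - i).factorial : k) = (m.factorial : k) := by
      rw [← Nat.cast_mul, ← Nat.cast_mul, Nat.choose_mul_factorial_mul_factorial him]
    have hm0 := factorial_ne_zero (k := k) (mem_range.mp hm)
    have hi0 := factorial_ne_zero (k := k) (i := i) (lt_of_le_of_lt him (mem_range.mp hm))
    have hmi0 := factorial_ne_zero (k := k) (i := m - i)
      (lt_of_le_of_lt (Nat.sub_le _ _) (mem_range.mp hm))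
    field_simp
    linear_combination e
  rw [h1, Finset.sum_range_diag_flip p fun i j =>
    ((i.factorial : k)⁻¹ * (j.factorial : k)⁻¹) • (a ^ i * b ^ j), texp, texp, Finset.sum_mul]
  refine Finset.sum_congr rfl fun i _ => ?_
  rw [Finset.mul_sum, Finset.sum_subset (Finset.range_mono (Nat.sub_le p i)) fun j _ hj => by
    rw [hz i j (by have := mem_range.not.mp hj; omega), smul_zero]]
  exact Finset.sum_congr rfl fun j _ => by rw [smul_mul_smul_comm]

theorem texp_nsmul {a : A} (ha : a ^ p = 0) (n : ℕ) : texp p k (n • a) = texp p k a ^ n := by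
  induction n with
  | zero => rw [zero_nsmul, texp_zero, pow_zero]
  | succ n ih =>
    rw [succ_nsmul, pow_succ, texp_add ((Commute.refl a).smul_left n) fun i j hij => ?_, ih]
    rw [smul_pow, smul_mul_assoc, ← pow_add, pow_eq_zero_of_le hij ha, smul_zero]

theorem exists_unit_texp_sub_one {a : A} (ha : a ^ p = 0) :
    ∃ u : A, IsUnit u ∧ texp p k a - 1 = a * u ∧ ∀ b, Commute a b → Commute u b := by
  obtain ⟨r, hr⟩ : ∃ r, p = r + 2 := ⟨p - 2, by have := hp.out.two_le; omega⟩
  set c : A := ∑ i ∈ range r, ((i + 2).factorial : k)⁻¹ • a ^ i with hc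
  have hcomm : ∀ b, Commute a b → Commute c b := fun b hb =>
    Commute.sum_left _ _ _ fun _ _ => (hb.pow_left _).smul_left _
  refine ⟨1 + a * c, IsNilpotent.isUnit_one_add ⟨p, ?_⟩, ?_, fun b hb =>
    (Commute.one_left b).add_left (hb.mul_left (hcomm b hb))⟩
  · rw [(hcomm a (Commute.refl a)).symm.mul_pow, ha, zero_mul]
  · rw [texp]
    conv_lhs => rw [show range p = range (r + 2) by rw [← hr]]
    rw [Finset.sum_range_succ', Finset.sum_range_succ', hc, mul_add, mul_one, Finset.mul_sum,
      Finset.mul_sum]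
    simp only [pow_zero, Nat.factorial_zero, zero_add, Nat.factorial_one, Nat.cast_one, inv_one,
      one_smul, pow_one, add_sub_cancel_right]
    rw [add_comm a]
    congr 1
    refine Finset.sum_congr rfl fun i _ => ?_
    rw [mul_smul_comm, mul_smul_comm, pow_succ', pow_succ']

theorem eq_zero_of_texp_eq_one {a : A} (ha : a ^ p = 0) (h : texp p k a = 1) : a = 0 := by
  obtain ⟨u, hu, he, -⟩ := exists_unit_texp_sub_one (k := k) ha
  rw [h, sub_self] at he
  exact hu.mul_left_eq_zero.mp he.symm

theorem texp_injective {a b : A} (h : Commute a b) (hz : ∀ i j, p ≤ i + j → a ^ i * b ^ j = 0)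
    (he : texp p k a = texp p k b) : a = b := by
  have hb : b ^ p = 0 := by simpa using hz 0 p (by omega)
  have hz' : ∀ i j, p ≤ i + j → a ^ i * (-b) ^ j = 0 := fun i j hij => by
    rw [neg_pow, ← mul_assoc, ((Commute.neg_one_right (a ^ i)).pow_right j).eq, mul_assoc,
      hz i j hij, mul_zero]
  have h1 : texp p k b * texp p k (-b) = 1 := by
    rw [← texp_add (Commute.refl b).neg_right fun i j hij => by
      rw [neg_pow, ← mul_assoc, ((Commute.neg_one_right (b ^ i)).pow_right j).eq, mul_assoc,
        ← pow_add, pow_eq_zero_of_le hij hb, mul_zero], add_neg_cancel, texp_zero]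
  have hab : (a + -b) ^ p = 0 := by
    rw [h.neg_right.add_pow]
    refine Finset.sum_eq_zero fun i hi => ?_
    rw [hz' i (p - i) (by have := mem_range.mp hi; omega), zero_mul]
  have h2 := eq_zero_of_texp_eq_one (k := k) hab (by rw [texp_add h.neg_right hz', he, h1])
  rwa [← sub_eq_add_neg, sub_eq_zero] at h2

/-- The logarithm, as a polynomial. -/
theorem exists_log_poly (n : ℕ) :
    ∃ P : k[X], X ∣ P ∧ X ^ (n + 1) ∣ 1 + X - texp p k P := by
  induction n with
  | zero =>
    refine ⟨0, dvd_zero _, ?_⟩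
    rw [texp_zero]; simp
  | succ n ih =>
    obtain ⟨P, hP, hD⟩ := ih
    set D := 1 + X - texp p k P with hDdef
    have hXD : X ∣ D := (dvd_pow_self X (Nat.succ_ne_zero n)).trans hD
    refine ⟨P + D, dvd_add hP hXD, ?_⟩
    have e : 1 + X - texp p k (P + D) =
        -(∑ i ∈ range p, (((i.factorial : k)⁻¹) • ((P + D) ^ i - P ^ i)) - D) := by
      rw [hDdef, texp, texp]
      simp only [smul_sub, Finset.sum_sub_distrib]
      ring
    rw [e, dvd_neg]
    obtain ⟨r, hr⟩ : ∃ r, p = r + 2 := ⟨p - 2, by have := hp.out.two_le; omega⟩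
    rw [show range p = range (r + 2) by rw [← hr], Finset.sum_range_succ', Finset.sum_range_succ']
    simp only [pow_zero, sub_self, smul_zero, zero_add, pow_one, Nat.factorial_one, Nat.cast_one,
      inv_one, one_smul, add_zero, add_sub_cancel_left, add_sub_cancel_right]
    refine Finset.dvd_sum fun i _ => ?_
    rw [smul_eq_C_mul]
    refine Dvd.dvd.mul_left ?_ _
    rw [← geom_sum₂_mul, add_sub_cancel_left, pow_succ' X (n + 1)]
    refine mul_dvd_mul (Finset.dvd_sum fun l hl => ?_) hD
    have hl' := mem_range.mp hl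
    by_cases h0 : l = 0
    · rw [h0]
      exact (dvd_pow hP (by omega)).mul_left _
    · exact (dvd_pow (dvd_add hP hXD) h0).mul_right _

/-- Logarithms of unipotent elements. -/
theorem exists_log {N : A} (hN : N ^ p = 0) :
    ∃ P : k[X], texp p k (N * aeval N P) = 1 + N := by
  obtain ⟨P, ⟨Q, rfl⟩, hD⟩ := exists_log_poly (k := k) (p := p) p
  refine ⟨Q, ?_⟩
  obtain ⟨R, hR⟩ := hD
  have h := congrArg (aeval N) hR
  rw [map_sub, map_add, map_one, aeval_X, map_texp, map_mul, aeval_X, map_mul, map_pow, aeval_X,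
    pow_succ, hN, zero_mul, zero_mul, sub_eq_zero] at h
  exact h.symm

/-- Conjugation by an exponential. -/
theorem texp_conj_eq (hp2 : 3 ≤ p) {X Y : A} {m : ℕ} (hX : X ^ m = 0) (hm : 2 * m ≤ p + 1)
    (h3 : X * (X * (X * Y - Y * X) - (X * Y - Y * X) * X) -
      (X * (X * Y - Y * X) - (X * Y - Y * X) * X) * X = 0) :
    texp p k X * Y * texp p k (-X) = Y + (X * Y - Y * X) +
      (2 : k)⁻¹ • (X * (X * Y - Y * X) - (X * Y - Y * X) * X) := by
  set L : Module.End k A := LinearMap.mulLeft k X with hL
  set R : Module.End k A := LinearMap.mulRight k (-X) with hR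
  have hLR : Commute L R := LinearMap.commute_mulLeft_right X (-X)
  have hz : ∀ i j, p ≤ i + j → L ^ i * R ^ j = 0 := fun i j hij => by
    rw [hL, hR, LinearMap.pow_mulLeft, LinearMap.pow_mulRight]
    rcases (show m ≤ i ∨ m ≤ j by omega) with h | h
    · rw [pow_eq_zero_of_le h hX, LinearMap.mulLeft_zero_eq_zero, zero_mul]
    · rw [neg_pow, pow_eq_zero_of_le h hX, mul_zero, LinearMap.mulRight_zero_eq_zero, mul_zero]
  have h := texp_add (k := k) hLR hz
  have happ := LinearMap.congr_fun h Y
  have hLe : ∀ Z, texp p k L Z = texp p k X * Z := fun Z => by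
    simp [texp, hL, LinearMap.pow_mulLeft, Finset.sum_mul]
  have hRe : ∀ Z, texp p k R Z = Z * texp p k (-X) := fun Z => by
    simp [texp, hR, LinearMap.pow_mulRight, Finset.mul_sum]
  rw [Module.End.mul_apply, hRe, hLe, ← mul_assoc] at happ
  rw [← happ]
  have hs : ∀ Z, (L + R) Z = X * Z - Z * X := fun Z => by simp [hL, hR, sub_eq_add_neg]
  obtain ⟨r, hr⟩ : ∃ r, p = r + 3 := ⟨p - 3, by omega⟩
  rw [texp, LinearMap.sum_apply]
  conv_lhs => rw [show range p = range (r + 3) by rw [← hr]]
  rw [Finset.sum_range_succ', Finset.sum_range_succ', Finset.sum_range_succ']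
  rw [Finset.sum_eq_zero fun i _ => ?_]
  · simp only [zero_add, LinearMap.smul_apply, pow_succ, pow_zero, Module.End.one_apply,
      Module.End.mul_apply, one_mul, hs, Nat.factorial_zero, Nat.factorial_one, Nat.cast_one,
      inv_one, one_smul, show (0 + 1 + 1 : ℕ) = 2 from rfl, show (1 + 1 : ℕ) = 2 from rfl,
      Nat.factorial_two, Nat.cast_ofNat]
    abel
  · rw [LinearMap.smul_apply, pow_succ, pow_succ, pow_succ]
    simp only [Module.End.mul_apply, hs, h3, map_zero, smul_zero]

end CfsgLib.SmallDegree
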