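import Mathlib.Algebra.CharP.Lemmas
import Mathlib.Algebra.Polynomial.AlgebraMap
import Mathlib.Algebra.Ring.GeomSum
import Mathlib.GroupTheory.Sylow
import Mathlib.LinearAlgebra.BilinearMap
import Mathlib.GroupTheory.GroupAction.Quotient
import Mathlib.Tactic

/-!
# Lifting idempotents from the normalizer of a Sylow subgroup of prime order
-/

set_option autoImplicit false

namespace CfsgLib.SmallDegree

section Sylow

variable {G : Type*} [Group G] [Finite G] {p : ℕ} [hp : Fact p.Prime]

/-- A `p`-element normalizing a subgroup of order `p` lies in it, if `p²` does not divide the group order. -/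
theorem mem_zpowers_of_normalize (hsq : ¬ p ^ 2 ∣ Nat.card G) {x y : G} (hx : orderOf x = p)
    (hy : y ∈ Subgroup.normalizer (Subgroup.zpowers x : Set G)) {n : ℕ} (hyp : y ^ p ^ n = 1) :
    y ∈ Subgroup.zpowers x := by
  set P := Subgroup.zpowers x with hP
  have hle : Subgroup.zpowers y ≤ Subgroup.normalizer (P : Set G) := Subgroup.zpowers_le.mpr hy
  have hPp : IsPGroup p P := IsPGroup.of_card (n := 1) (by rw [hP, Nat.card_zpowers, hx, pow_one])
  obtain ⟨m, -, hm⟩ := (Nat.dvd_prime_pow hp.out).mp (orderOf_dvd_of_pow_eq_one hyp)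
  have hQp : IsPGroup p (Subgroup.zpowers y) :=
    IsPGroup.of_card (n := m) (by rw [Nat.card_zpowers, hm])
  obtain ⟨k, hk⟩ := (IsPGroup.iff_card).mp (hQp.to_sup_of_normal_right' hPp hle)
  have hk1 : k ≤ 1 := by
    by_contra hk'
    exact hsq ((pow_dvd_pow p (Nat.succ_le_of_lt (not_le.mp hk'))).trans
      (hk ▸ Subgroup.card_subgroup_dvd_card _))
  have he : Subgroup.zpowers y ⊔ P = P := (Subgroup.eq_of_le_of_card_ge le_sup_right (by
    rw [hk, hP, Nat.card_zpowers, hx]
    exact (Nat.pow_le_pow_right hp.out.pos hk1).trans_eq (pow_one p))).symm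
  exact he ▸ Subgroup.mem_sup_left (Subgroup.mem_zpowers y)

theorem mem_normalizer_of_conj (hsq : ¬ p ^ 2 ∣ Nat.card G) {x g : G} (hx : orderOf x = p)
    (hg : g⁻¹ * x * g ∈ Subgroup.normalizer (Subgroup.zpowers x : Set G)) :
    g ∈ Subgroup.normalizer (Subgroup.zpowers x : Set G) := by
  have hord : orderOf (g⁻¹ * x * g) = p := by
    rw [show g⁻¹ * x * g = (MulAut.conj g⁻¹).toMonoidHom x by simp,
      orderOf_injective (MulAut.conj g⁻¹).toMonoidHom (MulAut.conj g⁻¹).injective, hx]
  have h := mem_zpowers_of_normalize hsq hx hg (n := 1) (by rw [pow_one, ← hord, pow_orderOf_eq_one])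
  have hinv : g⁻¹ ∈ Subgroup.normalizer (Subgroup.zpowers x : Set G) := by
    have heq : Subgroup.zpowers (g⁻¹ * x * g) = Subgroup.zpowers x :=
      Subgroup.eq_of_le_of_card_ge (Subgroup.zpowers_le.mpr h)
        (by rw [Nat.card_zpowers, Nat.card_zpowers, hord, hx])
    have hmap : (Subgroup.zpowers x).map (MulAut.conj g⁻¹).toMonoidHom = Subgroup.zpowers x := by
      rw [MonoidHom.map_zpowers]
      simpa using heq
    refine Subgroup.mem_normalizer_iff.mpr fun z => ?_
    conv_rhs => rw [← hmap]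
    constructor
    · exact fun hz => ⟨z, hz, by simp⟩
    · rintro ⟨z', hz', he⟩
      have : z' = z := by simpa using he
      exact this ▸ hz'
  simpa using inv_mem hinv

end Sylow

variable {k : Type*} [Field k] {p : ℕ} [CharP k p] [hp : Fact p.Prime]

/-- The sum of the powers of `y` is the top power of `y - 1`. -/
theorem sum_pow_eq_sub_one_pow {R : Type*} [Ring R] [Algebra k R] (y : R) :
    ∑ i ∈ Finset.range p, y ^ i = (y - 1) ^ (p - 1) := by
  have h : (∑ i ∈ Finset.range p, (Polynomial.X : Polynomial k) ^ i) =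
      (Polynomial.X - 1) ^ (p - 1) := by
    refine mul_right_cancel₀ (b := (Polynomial.X - 1 : Polynomial k)) ?_ ?_
    · simpa using Polynomial.X_sub_C_ne_zero (1 : k)
    · rw [geom_sum_mul, ← pow_succ, Nat.sub_add_cancel hp.out.one_le, sub_pow_char, one_pow]
  have := congrArg (Polynomial.aeval y) h
  simpa using this

variable {R : Type*} [Ring R]

/-- The elements commuting with `y` which are multiples of `y - 1`. -/
def InJ (y f : R) : Prop := Commute f y ∧ ∃ g, f = (y - 1) * g

namespace InJ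

variable {y f g a : R}

theorem add (hf : InJ y f) (hg : InJ y g) : InJ y (f + g) := by
  obtain ⟨hf1, a, ha⟩ := hf
  obtain ⟨hg1, b, hb⟩ := hg
  exact ⟨hf1.add_left hg1, a + b, by rw [ha, hb, mul_add]⟩

theorem neg (hf : InJ y f) : InJ y (-f) := by
  obtain ⟨hf1, a, ha⟩ := hf
  exact ⟨hf1.neg_left, -a, by rw [ha, mul_neg]⟩

theorem sub (hf : InJ y f) (hg : InJ y g) : InJ y (f - g) := by
  rw [sub_eq_add_neg]; exact hf.add hg.neg

theorem zero : InJ y 0 := ⟨Commute.zero_left _, 0, (mul_zero _).symm⟩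

theorem mul_left (ha : Commute a y) (hf : InJ y f) : InJ y (a * f) := by
  obtain ⟨hf1, g, hg⟩ := hf
  refine ⟨ha.mul_left hf1, a * g, ?_⟩
  rw [hg, ← mul_assoc, ← mul_assoc, (ha.sub_right (Commute.one_right a)).eq]

theorem mul_right (ha : Commute a y) (hf : InJ y f) : InJ y (f * a) := by
  obtain ⟨hf1, g, hg⟩ := hf
  exact ⟨hf1.mul_left ha, g * a, by rw [hg, mul_assoc]⟩

theorem isNilpotent {m : ℕ} (hy : (y - 1) ^ m = 0) (hf : InJ y f) : IsNilpotent f := by
  obtain ⟨hf1, g, hg⟩ := hf
  have key : ∀ n : ℕ, ∃ a, f ^ n = (y - 1) ^ n * a := fun n => by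
    induction n with
    | zero => exact ⟨1, by simp⟩
    | succ n ih =>
      obtain ⟨a, ha⟩ := ih
      refine ⟨a * g, ?_⟩
      have hc : Commute (f ^ n) (y - 1) := (hf1.pow_left n).sub_right (Commute.one_right _)
      calc f ^ (n + 1) = f ^ n * ((y - 1) * g) := by rw [pow_succ, ← hg]
        _ = (y - 1) * f ^ n * g := by rw [← mul_assoc, hc.eq]
        _ = (y - 1) ^ (n + 1) * (a * g) := by rw [ha, pow_succ']; simp only [mul_assoc]
  obtain ⟨a, ha⟩ := key m
  exact ⟨m, by rw [ha, hy, zero_mul]⟩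

end InJ

variable {G : Type*} [Group G] [Finite G]
variable {A : Type*} [AddCommGroup A] [Module k A]

/-- The trace over a cyclic group of order `p`. -/
theorem inJ_trace (σ : G →* Module.End k A) {x : G} (hx : orderOf x = p)
    (hidx : (σ x - 1) ^ (p - 1) = 0) (f : Module.End k A) :
    InJ (σ x) (∑ i ∈ Finset.range p, σ (x ^ i) * f * σ ((x ^ i)⁻¹)) := by
  have hinv : σ x * σ x⁻¹ = 1 := by rw [← map_mul, mul_inv_cancel, map_one]
  have hinv' : σ x⁻¹ * σ x = 1 := by rw [← map_mul, inv_mul_cancel, map_one]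
  constructor
  · have hs : ∑ i ∈ Finset.range p, σ (x ^ (i + 1)) * f * σ ((x ^ (i + 1))⁻¹) =
        ∑ i ∈ Finset.range p, σ (x ^ i) * f * σ ((x ^ i)⁻¹) := by
      have h1 := Finset.sum_range_succ' (fun i => σ (x ^ i) * f * σ ((x ^ i)⁻¹)) p
      have h2 := Finset.sum_range_succ (fun i => σ (x ^ i) * f * σ ((x ^ i)⁻¹)) p
      rw [h2, show x ^ p = 1 by rw [← hx, pow_orderOf_eq_one], pow_zero] at h1
      exact (add_right_cancel h1).symm
    show _ * σ x = σ x * _
    conv_lhs => rw [← hs]
    rw [Finset.sum_mul, Finset.mul_sum]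
    refine Finset.sum_congr rfl fun i _ => ?_
    rw [mul_assoc, ← map_mul, ← mul_assoc, ← mul_assoc, ← map_mul, ← pow_succ']
    congr 2
    group
  · refine ⟨∑ i ∈ Finset.range p, (∑ l ∈ Finset.range i, σ x ^ l) * (f * σ ((x ^ i)⁻¹)), ?_⟩
    have hz : ∑ i ∈ Finset.range p, σ ((x ^ i)⁻¹) = 0 := by
      simp only [← inv_pow, map_pow]
      rw [sum_pow_eq_sub_one_pow (k := k)]
      have e : σ x⁻¹ - 1 = -σ x⁻¹ * (σ x - 1) := by
        rw [mul_sub, neg_mul, hinv', mul_one]; abel
      have hc : Commute (-σ x⁻¹) (σ x - 1) := by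
        refine (Commute.neg_left ?_).sub_right (Commute.one_right _)
        show σ x⁻¹ * σ x = σ x * σ x⁻¹
        rw [hinv, hinv']
      rw [e, hc.mul_pow, hidx, mul_zero]
    rw [Finset.mul_sum]
    have : ∀ i, (σ x - 1) * ((∑ l ∈ Finset.range i, σ x ^ l) * (f * σ ((x ^ i)⁻¹))) =
        σ (x ^ i) * f * σ ((x ^ i)⁻¹) - f * σ ((x ^ i)⁻¹) := fun i => by
      rw [← mul_assoc, mul_geom_sum, ← map_pow, sub_mul, one_mul, mul_assoc]
    rw [Finset.sum_congr rfl fun i _ => this i, Finset.sum_sub_distrib, ← Finset.mul_sum, hz,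
      mul_zero, sub_zero]

/-- An idempotent commuting with the normalizer is conjugate, by an element commuting with the
Sylow subgroup, to one commuting with the whole group; symmetry for invariant forms is kept. -/
theorem exists_lift (σ : G →* Module.End k A) {x : G} (hx : orderOf x = p)
    (hsq : ¬ p ^ 2 ∣ Nat.card G) (hidx : (σ x - 1) ^ (p - 1) = 0) {e : Module.End k A}
    (he : IsIdempotentElem e)
    (hN : ∀ g ∈ Subgroup.normalizer (Subgroup.zpowers x : Set G), Commute (σ g) e) :
    ∃ (E : Module.End k A) (u : (Module.End k A)ˣ), IsIdempotentElem E ∧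
      (∀ g, Commute (σ g) E) ∧ Commute (u : Module.End k A) (σ x) ∧
      E * (u : Module.End k A) = (u : Module.End k A) * e ∧
      ∀ B : A →ₗ[k] A →ₗ[k] k, (∀ g a b, B (σ g a) (σ g b) = B a b) →
        (∀ a b, B (e a) b = B a (e b)) → ∀ a b, B (E a) b = B a (E b) := by
  classical
  set N := Subgroup.normalizer (Subgroup.zpowers x : Set G) with hNdef
  haveI : Fintype (G ⧸ N) := Fintype.ofFinite _
  haveI : Fintype G := Fintype.ofFinite _
  let F : G ⧸ N → Module.End k A := Quotient.lift (fun g => σ g * e * σ g⁻¹) fun a b hab => by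
    have h : a⁻¹ * b ∈ N := QuotientGroup.leftRel_apply.mp hab
    show σ a * e * σ a⁻¹ = σ b * e * σ b⁻¹
    obtain ⟨c, hc, rfl⟩ : ∃ c ∈ N, b = a * c := ⟨a⁻¹ * b, h, by group⟩
    rw [mul_inv_rev, map_mul, map_mul, mul_assoc (σ a) _ e,
      (hN _ hc).eq, mul_assoc, mul_assoc, mul_assoc, ← mul_assoc (σ c), ← map_mul,
      mul_inv_cancel, map_one, one_mul]
  have hF : ∀ (g : G) (q : G ⧸ N), F (g • q) = σ g * F q * σ g⁻¹ := fun g q => by
    induction q using QuotientGroup.induction_on with | _ a => ?_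
    show σ (g * a) * e * σ (g * a)⁻¹ = σ g * (σ a * e * σ a⁻¹) * σ g⁻¹
    rw [mul_inv_rev, map_mul, map_mul]
    simp only [mul_assoc]
  set t := ∑ q, F q with ht
  have hσ : ∀ g, σ g * σ g⁻¹ = 1 := fun g => by rw [← map_mul, mul_inv_cancel, map_one]
  have hσ' : ∀ g, σ g⁻¹ * σ g = 1 := fun g => by rw [← map_mul, inv_mul_cancel, map_one]
  have htc : ∀ g, Commute (σ g) t := fun g => by
    show σ g * t = t * σ g
    conv_rhs => rw [ht, ← Equiv.sum_comp (MulAction.toPerm g : Equiv.Perm (G ⧸ N))]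
    rw [ht, Finset.mul_sum, Finset.sum_mul]
    refine Finset.sum_congr rfl fun q _ => ?_
    rw [show (MulAction.toPerm g : Equiv.Perm (G ⧸ N)) q = g • q from rfl, hF, mul_assoc _ (σ g⁻¹),
      hσ', mul_one]
  -- free orbits
  set q₀ : G ⧸ N := QuotientGroup.mk 1 with hq₀
  have hxN : x ∈ N := Subgroup.le_normalizer (Subgroup.mem_zpowers x)
  have hfix₀ : ∀ i : ℕ, x ^ i • q₀ = q₀ := fun i => by
    show QuotientGroup.mk (x ^ i * 1) = QuotientGroup.mk 1
    rw [QuotientGroup.eq, mul_one, mul_one]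
    exact inv_mem (pow_mem hxN i)
  have hfree : ∀ q : G ⧸ N, q ≠ q₀ → ∀ i, i < p → x ^ i • q = q → i = 0 := by
    intro q hq i hi he'
    by_contra h0
    have h1 : x • q = q := by
      obtain ⟨j, hj⟩ : ∃ j : ℕ, (x ^ i) ^ j = x := by
        have hc : Nat.Coprime i (orderOf x) := by
          rw [hx]
          exact (Nat.coprime_of_lt_prime (Nat.pos_of_ne_zero h0).ne' hi hp.out).symm
        exact exists_pow_eq_self_of_coprime hc
      rw [← hj]
      have : ∀ j : ℕ, (x ^ i) ^ j • q = q := fun j => by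
        induction j with
        | zero => rw [pow_zero, one_smul]
        | succ j ih => rw [pow_succ, mul_smul, he', ih]
      exact this j
    induction q using QuotientGroup.induction_on with | _ a => ?_
    refine hq ?_
    have h2 : a⁻¹ * x * a ∈ N := by
      have h3 : QuotientGroup.mk (x * a) = (QuotientGroup.mk a : G ⧸ N) := h1
      rw [QuotientGroup.eq] at h3
      have h4 := inv_mem h3
      rwa [mul_inv_rev, inv_inv, ← mul_assoc] at h4
    rw [hq₀, QuotientGroup.eq, mul_one]
    exact inv_mem (mem_normalizer_of_conj hsq hx h2)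
  let rel : Setoid (G ⧸ N) := MulAction.orbitRel (Subgroup.zpowers x) (G ⧸ N)
  let rep : G ⧸ N → G ⧸ N := fun q => (Quotient.mk rel q).out
  set T := Finset.univ.filter fun q => q ≠ q₀ ∧ rep q = q with hT
  have hmem : ∀ q : G ⧸ N, ∃ i, i < p ∧ x ^ i • rep q = q := fun q => by
    obtain ⟨⟨z, hz⟩, hz'⟩ : rel q (rep q) := Quotient.exact (Quotient.out_eq (Quotient.mk rel q)).symm
    obtain ⟨j, rfl⟩ := Subgroup.mem_zpowers_iff.mp hz
    refine ⟨(j % (p : ℤ)).toNat, ?_, ?_⟩
    · rw [Int.toNat_lt (Int.emod_nonneg _ (by exact_mod_cast hp.out.ne_zero))]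
      exact Int.emod_lt_of_pos _ (by exact_mod_cast hp.out.pos)
    · rw [← zpow_natCast, Int.toNat_of_nonneg (Int.emod_nonneg _ (by exact_mod_cast hp.out.ne_zero)),
        ← hx, zpow_mod_orderOf]
      exact hz'
  have hrep : ∀ (q : G ⧸ N) (i : ℕ), rep (x ^ i • q) = rep q := fun q i => by
    show (Quotient.mk rel (x ^ i • q)).out = (Quotient.mk rel q).out
    rw [Quotient.sound (show rel (x ^ i • q) q from ⟨⟨x ^ i, pow_mem (Subgroup.mem_zpowers x) i⟩, rfl⟩)]
  have hsum : t = e + ∑ i ∈ Finset.range p, σ (x ^ i) * (∑ q ∈ T, F q) * σ ((x ^ i)⁻¹) := by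
    rw [ht, ← Finset.add_sum_erase _ _ (Finset.mem_univ q₀)]
    congr 1
    · show σ 1 * e * σ 1⁻¹ = e
      rw [inv_one, map_one, one_mul, mul_one]
    · simp only [Finset.mul_sum, Finset.sum_mul, ← hF]
      rw [← Finset.sum_product']
      refine (Finset.sum_bij (fun a _ => x ^ a.1 • a.2) ?_ ?_ ?_ fun a _ => rfl).symm
      · intro a ha
        simp only [Finset.mem_product, hT, Finset.mem_filter] at ha
        refine Finset.mem_erase.mpr ⟨fun h => ha.2.2.1 ?_, Finset.mem_univ _⟩
        have h' := congrArg ((x ^ a.1)⁻¹ • ·) h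
        simp only [inv_smul_smul] at h'
        rw [h', inv_smul_eq_iff, hfix₀]
      · intro a ha b hb h
        simp only [Finset.mem_product, hT, Finset.mem_filter, Finset.mem_range] at ha hb
        have h2 : a.2 = b.2 := by
          rw [← ha.2.2.2, ← hb.2.2.2, ← hrep a.2 a.1, h, hrep]
        have key : ∀ (q : G ⧸ N) (i j : ℕ), q ≠ q₀ → j < p → i ≤ j → x ^ i • q = x ^ j • q →
            i = j := fun q i j hq hjp hij he' => by
          have := hfree q hq (j - i) (by omega) (by
            apply MulAction.injective (x ^ i)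
            show x ^ i • x ^ (j - i) • q = x ^ i • q
            rw [← mul_smul, ← pow_add, Nat.add_sub_cancel' hij, he'])
          omega
        refine Prod.ext ?_ h2
        rw [← h2] at h
        rcases le_total a.1 b.1 with hab | hab
        · exact key _ _ _ ha.2.2.1 hb.1 hab h
        · exact (key _ _ _ ha.2.2.1 ha.1 hab h.symm).symm
      · intro q hq
        have hq' := (Finset.mem_erase.mp hq).1
        obtain ⟨i, hi, hqi⟩ := hmem q
        refine ⟨(i, rep q), Finset.mem_product.mpr ⟨Finset.mem_range.mpr hi, ?_⟩, hqi⟩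
        refine Finset.mem_filter.mpr ⟨Finset.mem_univ _, fun h => hq' ?_, ?_⟩
        · simp only at h
          rw [← hqi, h, hfix₀]
        · show rep (rep q) = rep q
          conv_rhs => rw [← hqi, hrep]
  have hj : InJ (σ x) (t - e) := by
    rw [hsum, add_sub_cancel_left]; exact inJ_trace σ hx hidx _
  have hex : Commute e (σ x) := (hN x hxN).symm
  -- the condition preserved by the iteration
  let Good : Module.End k A → Prop := fun f => (∀ g, Commute (σ g) f) ∧
    ∀ B : A →ₗ[k] A →ₗ[k] k, (∀ g a b, B (σ g a) (σ g b) = B a b) →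
        (∀ a b, B (e a) b = B a (e b)) → ∀ a b, B (f a) b = B a (f b)
  have hgood : Good t := by
    refine ⟨htc, fun B hB hBe a b => ?_⟩
    have key : ∀ q a b, B (F q a) b = B a (F q b) := fun q a b => by
      induction q using QuotientGroup.induction_on with | _ g => ?_
      show B (σ g (e (σ g⁻¹ a))) b = B a (σ g (e (σ g⁻¹ b)))
      have h1 : ∀ c, σ g (σ g⁻¹ c) = c := fun c => LinearMap.congr_fun (hσ g) c
      conv_lhs => rw [← h1 b, hB, hBe]
      conv_rhs => rw [← h1 a, hB]
    simp only [ht, LinearMap.sum_apply, map_sum]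
    exact Finset.sum_congr rfl fun q _ => key q a b
  have hiter : ∀ (r : ℕ) (f : Module.End k A), Good f → InJ (σ x) (f - e) → (f ^ 2 - f) ^ r = 0 →
      ∃ E, Good E ∧ InJ (σ x) (E - e) ∧ IsIdempotentElem E := by
    intro r
    induction r using Nat.strong_induction_on with | _ r ih => ?_
    intro f hf hfj hr
    by_cases hr1 : r ≤ 1
    · refine ⟨f, hf, hfj, ?_⟩
      have h1 : (f ^ 2 - f) ^ 1 = 0 := pow_eq_zero_of_le hr1 hr
      rw [pow_one, sub_eq_zero, pow_two] at h1
      exact h1
    set f' := 3 * f ^ 2 - 2 * f ^ 3 with hf'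
    have hfx : Commute f (σ x) := (hf.1 x).symm
    have hq : InJ (σ x) (f ^ 2 - f) := by
      have e1 : f ^ 2 - f = (f - e) * f + e * (f - e) - (f - e) := by
        rw [pow_two, sub_mul, mul_sub, he.eq]; abel
      rw [e1]
      exact ((hfj.mul_right hfx).add (hfj.mul_left hex)).sub hfj
    refine ih ((r + 1) / 2) (by omega) f' ⟨fun g => ?_, fun B hB hBe a b => ?_⟩ ?_ ?_
    · exact ((Commute.ofNat_right _ _).mul_right ((hf.1 g).pow_right _)).sub_right
        ((Commute.ofNat_right _ _).mul_right ((hf.1 g).pow_right _))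
    · have h1 := hf.2 B hB hBe
      simp only [hf', pow_succ, pow_zero, one_mul, LinearMap.sub_apply, Module.End.mul_apply,
        map_sub]
      rw [show (3 : Module.End k A) = ((3 : ℕ) : Module.End k A) from by norm_num,
        show (2 : Module.End k A) = ((2 : ℕ) : Module.End k A) from by norm_num,
        Module.End.natCast_apply, Module.End.natCast_apply, Module.End.natCast_apply,
        Module.End.natCast_apply]
      simp only [map_nsmul, LinearMap.smul_apply, h1]
    · rw [show f' - e = (f - e) + (1 - 2 * f) * (f ^ 2 - f) by rw [hf']; noncomm_ring]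
      exact hfj.add (hq.mul_left ((Commute.one_left _).sub_left
        ((Commute.ofNat_left _ _).mul_left hfx)))
    · have e2 : f' ^ 2 - f' = (4 * (f ^ 2 - f) - 3) * (f ^ 2 - f) ^ 2 := by
        rw [hf']; noncomm_ring
      have hc : Commute (4 * (f ^ 2 - f) - 3) ((f ^ 2 - f) ^ 2) :=
        (((Commute.ofNat_left _ _).mul_left (Commute.refl _)).sub_left
          (Commute.ofNat_left _ _)).pow_right 2
      rw [e2, hc.mul_pow, ← pow_mul, pow_eq_zero_of_le (by omega) hr, mul_zero]
  have hq : InJ (σ x) (t ^ 2 - t) := by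
    have e1 : t ^ 2 - t = (t - e) * t + e * (t - e) - (t - e) := by
      rw [pow_two, sub_mul, mul_sub, he.eq]; abel
    rw [e1]
    exact ((hj.mul_right (htc x).symm).add (hj.mul_left hex)).sub hj
  obtain ⟨r, hr⟩ := hq.isNilpotent hidx
  obtain ⟨E, hE, hEj, hEi⟩ := hiter r t hgood hj hr
  have hu : InJ (σ x) (E * e + (1 - E) * (1 - e) - 1) := by
    have e1 : E * e + (1 - E) * (1 - e) - 1 = 2 * ((E - e) * e) - (E - e) := by
      simp only [sub_mul, mul_sub, he.eq, one_mul, mul_one]
      noncomm_ring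
    rw [e1]
    exact ((hEj.mul_right hex).mul_left (Commute.ofNat_left _ _)).sub hEj
  have hunit : IsUnit (E * e + (1 - E) * (1 - e)) := by
    have := IsNilpotent.isUnit_one_add (hu.isNilpotent hidx)
    rwa [add_sub_cancel] at this
  refine ⟨E, hunit.unit, hEi, hE.1, ?_, ?_, hE.2⟩
  · rw [IsUnit.unit_spec]
    have hEx : Commute E (σ x) := (hE.1 x).symm
    exact (hEx.mul_left hex).add_left
      (((Commute.one_left _).sub_left hEx).mul_left ((Commute.one_left _).sub_left hex))
  · rw [IsUnit.unit_spec]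
    simp only [mul_add, add_mul, sub_mul, mul_sub, one_mul, mul_one, ← mul_assoc, hEi.eq]
    simp only [mul_assoc, he.eq]
    abel

end CfsgLib.SmallDegree
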