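import Cfsg.Agent.Lib.SmallDegree.Core
import Mathlib.LinearAlgebra.Quotient.Basic
import Mathlib.LinearAlgebra.FiniteDimensional.Basic

/-!
# The structure theorem for small modular representations
-/

set_option autoImplicit false
set_option linter.unusedSectionVars false

namespace CfsgLib.SmallDegree

open Matrix

universe u v w

variable {k : Type u} [Field k] {p : ℕ} [CharP k p] [hp : Fact p.Prime]

/-- The image of the subgroup generated by `x` is not normal. -/
def NN {G : Type v} [Group G] {M : Type*} [Monoid M] (ρ : G →* M) (x : G) : Prop :=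
  ∃ g, ∀ i : ℕ, ρ (g * x * g⁻¹) ≠ ρ (x ^ i)

theorem NN.map_ne_one {G : Type v} [Group G] {M : Type*} [Monoid M] {ρ : G →* M} {x : G}
    (h : NN ρ x) : ρ x ≠ 1 := by
  obtain ⟨g, hg⟩ := h
  intro h1
  refine hg 0 ?_
  rw [map_mul, map_mul, h1, mul_one, ← map_mul, mul_inv_cancel, pow_zero]

/-- Passing to an irreducible constituent. -/
theorem exists_irreducible {G : Type v} [Group G] [Finite G] {x : G} (hx : orderOf x = p)
    (hsq : ¬ p ^ 2 ∣ Nat.card G) :
    ∀ (n : ℕ) (V : Type w) [AddCommGroup V] [Module k V] [FiniteDimensional k V]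
      (ρ : G →* Module.End k V), Module.finrank k V = n → NN ρ x →
      ∃ (U : Type w) (_ : AddCommGroup U) (_ : Module k U) (_ : FiniteDimensional k U)
        (σ : G →* Module.End k U),
        (∀ W : Submodule k U, (∀ g, ∀ v ∈ W, σ g v ∈ W) → W = ⊥ ∨ W = ⊤) ∧
        Module.finrank k U ≤ n ∧ NN σ x := by
  classical
  intro n
  induction n using Nat.strong_induction_on with | _ n ih => ?_
  intro V _ _ _ ρ hn hρ
  by_cases hirr : ∀ W : Submodule k V, (∀ g, ∀ v ∈ W, ρ g v ∈ W) → W = ⊥ ∨ W = ⊤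
  · exact ⟨V, inferInstance, inferInstance, inferInstance, ρ, hirr, hn.le, hρ⟩
  push_neg at hirr
  obtain ⟨W, hW, hW0, hW1⟩ := hirr
  have hW0' : 0 < Module.finrank k W := Nat.pos_of_ne_zero fun h => hW0 (Submodule.finrank_eq_zero.mp h)
  have hWlt : Module.finrank k W < Module.finrank k V :=
    Submodule.finrank_lt hW1
  have hsum := W.finrank_quotient_add_finrank
  let ρW : G →* Module.End k W :=
    { toFun := fun g => (ρ g).restrict (hW g)
      map_one' := LinearMap.ext fun v => Subtype.ext (by simp)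
      map_mul' := fun g h => LinearMap.ext fun v => Subtype.ext (by simp) }
  let ρQ : G →* Module.End k (V ⧸ W) :=
    { toFun := fun g => W.mapQ W (ρ g) (hW g)
      map_one' := Submodule.linearMap_qext _ (LinearMap.ext fun v => by simp)
      map_mul' := fun g h => Submodule.linearMap_qext _ (LinearMap.ext fun v => by simp) }
  by_cases h1 : NN ρW x
  · obtain ⟨U, a, b, c, σ, hσ, hd, hnn⟩ := ih _ (hn ▸ hWlt) W ρW rfl h1
    exact ⟨U, a, b, c, σ, hσ, hd.trans (hn ▸ hWlt.le), hnn⟩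
  by_cases h2 : NN ρQ x
  · obtain ⟨U, a, b, c, σ, hσ, hd, hnn⟩ := ih _ (by omega) (V ⧸ W) ρQ rfl h2
    exact ⟨U, a, b, c, σ, hσ, hd.trans (by omega), hnn⟩
  exfalso
  obtain ⟨g, hg⟩ := hρ
  unfold NN at h1 h2
  push_neg at h1 h2
  set Φ := ρ.toHomUnits with hΦ
  set R := ρW.toHomUnits.ker ⊓ ρQ.toHomUnits.ker with hR
  have hRu : ∀ r ∈ R, Φ r ^ p = 1 := by
    intro r hr
    have hr1 : ρW r = 1 := congrArg Units.val (MonoidHom.mem_ker.mp hr.1)
    have hr2 : ρQ r = 1 := congrArg Units.val (MonoidHom.mem_ker.mp hr.2)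
    have hsq0 : (ρ r - 1) ^ 2 = 0 := by
      refine LinearMap.ext fun v => ?_
      have hv : ρ r v - v ∈ W := by
        rw [← Submodule.Quotient.eq]
        exact LinearMap.congr_fun hr2 (Submodule.Quotient.mk v)
      rw [pow_two, Module.End.mul_apply]
      show ρ r (ρ r v - v) - (ρ r v - v) = 0
      rw [sub_eq_zero]
      exact congrArg Subtype.val (LinearMap.congr_fun hr1 ⟨_, hv⟩)
    have hpow : ((Polynomial.X : Polynomial k) - 1) ^ p = Polynomial.X ^ p - 1 := by
      rw [sub_pow_char, one_pow]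
    have h' := congrArg (Polynomial.aeval (ρ r)) hpow
    simp only [map_pow, map_sub, map_one, Polynomial.aeval_X] at h'
    rw [pow_eq_zero_of_le hp.out.two_le hsq0, eq_comm, sub_eq_zero] at h'
    exact Units.ext (by simpa [hΦ] using h')
  -- the image group
  set Gb := Φ.range
  haveI : Finite Gb := Finite.of_surjective Φ.rangeRestrict Φ.rangeRestrict_surjective
  have hsqb : ¬ p ^ 2 ∣ Nat.card Gb := fun h => hsq (h.trans (Subgroup.card_range_dvd Φ))
  set xb : Gb := Φ.rangeRestrict x with hxb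
  have hxb1 : xb ≠ 1 := fun h => by
    have h' : Φ x = 1 := congrArg Subtype.val h
    refine hg 0 ?_
    rw [map_mul, map_mul, show ρ x = 1 from congrArg Units.val h', mul_one, ← map_mul,
      mul_inv_cancel, pow_zero]
  have hxbo : orderOf xb = p :=
    orderOf_eq_prime (by rw [hxb, ← map_pow, ← hx, pow_orderOf_eq_one, map_one]) hxb1
  set y := g * x * g⁻¹ with hy
  set yb : Gb := Φ.rangeRestrict y with hyb
  have hyb1 : yb ^ p = 1 := by
    rw [hyb, ← map_pow, hy, conj_pow, ← hx, pow_orderOf_eq_one, mul_one, mul_inv_cancel, map_one]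
  have hnot : yb ∉ Subgroup.zpowers xb := by
    intro h
    rw [← mem_powers_iff_mem_zpowers] at h
    obtain ⟨i, hi⟩ := h
    refine hg i ?_
    have h' : Φ (x ^ i) = Φ y := by
      rw [map_pow]; exact congrArg Subtype.val hi
    exact (congrArg Units.val h').symm
  obtain ⟨i, hi⟩ := h1 g
  obtain ⟨j, hj⟩ := h2 g
  set c := x * y * x⁻¹ * y⁻¹ with hc
  have hcomm : ∀ {M : Type w} [AddCommGroup M] [Module k M] (σ : G →* Module.End k M) (l : ℕ),
      σ (g * x * g⁻¹) = σ (x ^ l) → σ c = 1 := by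
    intro M _ _ σ l hl
    have hl' : σ.toHomUnits y = σ.toHomUnits (x ^ l) := Units.ext hl
    have : σ.toHomUnits c = 1 := by
      rw [hc, map_mul, map_mul, map_mul, map_inv, map_inv, hl', ← map_inv, ← map_inv, ← map_mul,
        ← map_mul, ← map_mul, show x * x ^ l * x⁻¹ * (x ^ l)⁻¹ = 1 by group, map_one]
    exact congrArg Units.val this
  have hcR : c ∈ R := ⟨Units.ext (hcomm ρW i hi), Units.ext (hcomm ρQ j hj)⟩
  set Rb := R.map Φ.rangeRestrict with hRb
  haveI : Rb.Normal := by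
    haveI : R.Normal := Subgroup.normal_inf_normal _ _
    exact Subgroup.Normal.map ‹_› _ Φ.rangeRestrict_surjective
  have hRp : ∀ r ∈ Rb, r ^ p = 1 := by
    rintro _ ⟨r, hr, rfl⟩
    refine Subtype.ext ?_
    rw [SubmonoidClass.coe_pow]
    exact hRu r hr
  by_cases hc1 : Φ.rangeRestrict c = 1
  · refine hnot (mem_zpowers_of_normalize hsqb hxbo ?_ (n := 1) (by rw [pow_one, hyb1]))
    have hxy : Commute xb yb := by
      rw [hc, map_mul, map_mul, map_mul, map_inv, map_inv, mul_inv_eq_one, mul_inv_eq_iff_eq_mul] at hc1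
      exact hc1
    refine Subgroup.centralizer_le_normalizer _ (Subgroup.mem_centralizer_iff.mpr fun z hz => ?_)
    obtain ⟨l, rfl⟩ := Subgroup.mem_zpowers_iff.mp hz
    exact (hxy.zpow_left l).eq
  · set cb := Φ.rangeRestrict c
    have hcb : cb ∈ Rb := ⟨c, hcR, rfl⟩
    have hcbo : orderOf cb = p := orderOf_eq_prime (hRp _ hcb) hc1
    obtain ⟨h, -, b, hb⟩ := exists_conj_pow hsqb ⊤ (x := cb) hcbo hxbo trivial trivial
    have hxR : xb ∈ Rb := by
      have h1 : h * xb * h⁻¹ ∈ Rb := hb ▸ pow_mem hcb b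
      simpa [mul_assoc] using ‹Rb.Normal›.conj_mem _ h1 h⁻¹
    have hyR : yb ∈ Rb := by
      rw [hyb, hy, map_mul, map_mul, map_inv]
      exact ‹Rb.Normal›.conj_mem _ hxR _
    have hpg : IsPGroup p Rb := fun r => ⟨1, Subtype.ext (by simpa using hRp _ r.2)⟩
    obtain ⟨m, hm⟩ := IsPGroup.iff_card.mp hpg
    have hm1 : m ≤ 1 := by
      by_contra hm'
      exact hsqb ((pow_dvd_pow p (Nat.succ_le_of_lt (not_le.mp hm'))).trans
        (hm ▸ Subgroup.card_subgroup_dvd_card Rb))
    have heq : Subgroup.zpowers xb = Rb :=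
      Subgroup.eq_of_le_of_card_ge (Subgroup.zpowers_le.mpr hxR) (by
        rw [hm, Nat.card_zpowers, hxbo]
        exact (Nat.pow_le_pow_right hp.out.pos hm1).trans_eq (pow_one p))
    exact hnot (heq ▸ hyR)

/-- The structure theorem. -/
theorem exists_orthogonal [IsAlgClosed k] {G : Type v} [Group G] [Finite G] {V : Type w}
    [AddCommGroup V] [Module k V] [FiniteDimensional k V] (hp5 : 5 ≤ p) (ρ : G →* Module.End k V)
    {x : G} (hx : orderOf x = p) (hsq : ¬ p ^ 2 ∣ Nat.card G)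
    (hdim : 2 * Module.finrank k V + 1 ≤ p) (hnn : NN ρ x) :
    ∃ φ : G →* Matrix (Fin 3) (Fin 3) k,
      (∀ g, (φ g)ᵀ * gramJ k * φ g = gramJ k) ∧ (∀ g, (φ g).det = 1) ∧
      φ x = adjMat (upperU 1) ∧ NN φ x := by
  classical
  obtain ⟨U, _, _, _, σ, hirr, hdimU, hσ⟩ := exists_irreducible hx hsq _ V ρ rfl hnn
  obtain ⟨φ, hiso, hdet, hφx, -⟩ := exists_adjoint σ hirr hx hsq hσ.map_ne_one (by omega) hp5
  refine ⟨φ, hiso, hdet, hφx, ?_⟩
  by_contra hcon
  unfold NN at hcon
  push_neg at hcon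
  set Φ := φ.toHomUnits with hΦ
  set H := (Subgroup.zpowers (Φ x)).comap Φ with hH
  have hconjH : ∀ g : G, g * x * g⁻¹ ∈ H := fun g => by
    obtain ⟨i, hi⟩ := hcon g
    rw [hH, Subgroup.mem_comap, show Φ (g * x * g⁻¹) = Φ (x ^ i) from Units.ext hi, map_pow]
    exact pow_mem (Subgroup.mem_zpowers _) _
  have hxH : x ∈ H := by rw [hH, Subgroup.mem_comap]; exact Subgroup.mem_zpowers _
  set x' : H := ⟨x, hxH⟩
  have hx'o : orderOf x' = p := by rw [Subgroup.orderOf_mk, hx]
  have hsqH : ¬ p ^ 2 ∣ Nat.card H := fun h => hsq (h.trans (Subgroup.card_subgroup_dvd_card H))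
  obtain ⟨g, hg⟩ := hσ
  have hyo : orderOf (g * x * g⁻¹) = p := by
    rw [show g * x * g⁻¹ = (MulAut.conj g).toMonoidHom x by simp,
      orderOf_injective (MulAut.conj g).toMonoidHom (MulAut.conj g).injective, hx]
  obtain ⟨h, hh, b, hb⟩ := exists_conj_pow hsq H (x := g * x * g⁻¹) hyo hx (hconjH g) hxH
  have hσH : NN (σ.comp H.subtype) x' := by
    refine ⟨⟨h, hh⟩, fun i hi => ?_⟩
    have h1 : σ (g * x * g⁻¹) ^ b = σ x ^ i := by
      rw [← map_pow σ (g * x * g⁻¹), ← hb, ← map_pow σ x]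
      simpa using hi
    have hbne : ¬ p ∣ b := fun hd => by
      obtain ⟨c, rfl⟩ := hd
      rw [pow_mul, show (g * x * g⁻¹) ^ p = 1 by rw [← hyo, pow_orderOf_eq_one], one_pow] at hb
      have : x = 1 := conj_eq_one_iff.mp hb
      exact hp.out.one_lt.ne' (by rw [← hx, this, orderOf_one])
    obtain ⟨c, hc⟩ := exists_pow_eq_self_of_coprime (x := g * x * g⁻¹) (n := b)
      (by rw [hyo]; exact (hp.out.coprime_iff_not_dvd.mpr hbne).symm)
    refine hg (i * c) ?_
    rw [← hc, map_pow, map_pow, h1, ← pow_mul, map_pow]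
  obtain ⟨U', _, _, _, τ, hirr', hdimU', hτ⟩ := exists_irreducible hx'o hsqH _ U (σ.comp H.subtype) rfl hσH
  set K := (Φ.comp H.subtype).ker with hK
  have hord : orderOf (Φ x) = p := by
    refine orderOf_eq_prime (by rw [← map_pow, ← hx, pow_orderOf_eq_one, map_one]) fun h => ?_
    have h' : φ x = 1 := congrArg Units.val h
    rw [hφx, adjMat_upperU] at h'
    have := congrFun (congrFun h' 1) 2
    simp at this
  have hKp : ¬ p ∣ Nat.card K := by
    intro hd
    obtain ⟨z, hz⟩ := exists_prime_orderOf_dvd_card' p hd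
    have hzo : orderOf (z : H) = p := by rw [Subgroup.orderOf_coe, hz]
    obtain ⟨a, -, c, hc⟩ := exists_conj_pow hsqH ⊤ (x := x') hx'o hzo trivial trivial
    have h1 : Φ.comp H.subtype (a * z * a⁻¹) = 1 :=
      MonoidHom.mem_ker.mp ((inferInstance : K.Normal).conj_mem _ z.2 a)
    rw [hc, map_pow] at h1
    have hdc : p ∣ c := hord ▸ orderOf_dvd_iff_pow_eq_one.mpr h1
    obtain ⟨c', rfl⟩ := hdc
    rw [pow_mul, ← hx'o, pow_orderOf_eq_one, one_pow] at hc
    rw [conj_eq_one_iff.mp hc, orderOf_one] at hzo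
    exact hp.out.one_lt.ne hzo
  refine false_of_pNilpotent hp5 τ hirr' hx'o hsqH hτ.map_ne_one (by omega) K hKp fun a => ?_
  have haH : Φ (a : G) ∈ Subgroup.zpowers (Φ x) := a.2
  rw [← (orderOf_pos_iff.mp (hord.symm ▸ hp.out.pos : 0 < orderOf (Φ x))).mem_powers_iff_mem_zpowers] at haH
  obtain ⟨i, hi⟩ := haH
  refine ⟨a * (x' ^ i)⁻¹, i, ?_, by group⟩
  rw [hK, MonoidHom.mem_ker, map_mul, map_inv, map_pow]
  show Φ (a : G) * (Φ x ^ i)⁻¹ = 1
  rw [show Φ x ^ i = Φ (a : G) from hi, mul_inv_cancel]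

end CfsgLib.SmallDegree
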