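import Cfsg.Agent.Lib.SmallDegree.Exp
import Cfsg.Agent.Lib.SmallDegree.Lift
import Mathlib.GroupTheory.SchurZassenhaus
import Mathlib.LinearAlgebra.FiniteDimensional.Lemmas
import Mathlib.LinearAlgebra.Trace
import Mathlib.LinearAlgebra.StdBasis

/-!
# An equivariant nilpotent triple for an element of order `p`
-/

set_option autoImplicit false
set_option linter.unusedSectionVars false

namespace CfsgLib.SmallDegree

variable {k : Type*} [Field k] {p : ℕ} [CharP k p] [hp : Fact p.Prime]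
variable {G : Type*} [Group G] [Finite G]
variable {V : Type*} [AddCommGroup V] [Module k V] [FiniteDimensional k V]

/-- A nilpotent endomorphism dies at the dimension. -/
theorem pow_finrank_eq_zero {f : Module.End k V} (hf : IsNilpotent f) :
    f ^ Module.finrank k V = 0 := by
  obtain ⟨n, hn⟩ := hf
  refine LinearMap.ker_eq_top.mp (top_le_iff.mp ?_)
  calc (⊤ : Submodule k V) = LinearMap.ker (f ^ n) := by rw [hn, LinearMap.ker_zero]
    _ ≤ _ := Module.End.ker_pow_le_ker_pow_finrank f n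

/-- A subgroup of order prime to `p` complementing the normal subgroup of order `p`. -/
theorem exists_complement_normalizer {x : G} (hx : orderOf x = p) (hsq : ¬ p ^ 2 ∣ Nat.card G) :
    ∃ Q : Subgroup G, Q ≤ Subgroup.normalizer (Subgroup.zpowers x : Set G) ∧ ¬ p ∣ Nat.card Q ∧
      ∀ n ∈ Subgroup.normalizer (Subgroup.zpowers x : Set G),
        ∃ (i : ℕ) (q : G), q ∈ Q ∧ n = x ^ i * q := by
  set N := Subgroup.normalizer (Subgroup.zpowers x : Set G)
  set P := (Subgroup.zpowers x).subgroupOf N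
  haveI : P.Normal := Subgroup.normal_in_normalizer
  have hPc : Nat.card P = p := by
    rw [Nat.card_congr (Subgroup.subgroupOfEquivOfLe Subgroup.le_normalizer).toEquiv,
      Nat.card_zpowers, hx]
  have hidx : ¬ p ∣ P.index := fun h => hsq (by
    refine dvd_trans ?_ (Subgroup.card_subgroup_dvd_card N)
    rw [← P.card_mul_index, hPc, pow_two]
    exact mul_dvd_mul_left _ h)
  obtain ⟨Q, hQ⟩ := Subgroup.exists_right_complement'_of_coprime (N := P)
    (hPc ▸ hp.out.coprime_iff_not_dvd.mpr hidx)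
  refine ⟨Q.map N.subtype, fun _ ⟨y, _, e⟩ => e ▸ y.2, ?_, fun n hn => ?_⟩
  · rw [Subgroup.card_map_of_injective (Subgroup.subtype_injective _), ← hQ.symm.index_eq_card]
    exact hidx
  · obtain ⟨⟨y, q⟩, hyq⟩ := hQ.2 (⟨n, hn⟩ : N)
    obtain ⟨i, hi⟩ := Submonoid.mem_powers_iff _ _ |>.mp
      (mem_powers_iff_mem_zpowers.mpr (Subgroup.mem_subgroupOf.mp y.2))
    refine ⟨i, ((q : N) : G), ⟨q, q.2, rfl⟩, ?_⟩
    rw [hi]
    exact (congrArg Subtype.val hyq).symm

variable (ρ : G →* Module.End k V)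

/-- The data produced from an element of order `p`. -/
theorem exists_triple (hirr : ∀ U : Submodule k V, (∀ g, ∀ v ∈ U, ρ g v ∈ U) → U = ⊥ ∨ U = ⊤)
    {x : G} (hx : orderOf x = p) (hsq : ¬ p ^ 2 ∣ Nat.card G) (hρ : ρ x ≠ 1)
    (hdim : 2 * Module.finrank k V + 1 ≤ p) :
    ∃ (Q : Subgroup G) (X Y : Module.End k V) (m : ℕ),
      Q ≤ Subgroup.normalizer (Subgroup.zpowers x : Set G) ∧
      (∀ n ∈ Subgroup.normalizer (Subgroup.zpowers x : Set G),
        ∃ (i : ℕ) (q : G), q ∈ Q ∧ n = x ^ i * q) ∧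
      (∀ q ∈ Q, ∃ c : k, c ≠ 0 ∧ ρ q * X = c • (X * ρ q) ∧ ρ q * Y = c⁻¹ • (Y * ρ q)) ∧
      texp p k X = ρ x ∧ X ^ m = 0 ∧ 2 * m ≤ p ∧
      (X * Y - Y * X) * X - X * (X * Y - Y * X) = (2 : k) • X ∧
      LinearMap.trace k V (X * Y) ≠ 0 := by
  classical
  set d := Module.finrank k V with hd
  have hdp : d ≤ p - 1 := by omega
  have hN0 : (ρ x - 1) ^ p = 0 := by
    have h : (Polynomial.X - 1 : Polynomial k) ^ p = Polynomial.X ^ p - 1 := by
      rw [sub_pow_char, one_pow]
    have h' := congrArg (Polynomial.aeval (ρ x)) h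
    simp only [map_pow, map_sub, map_one, Polynomial.aeval_X] at h'
    rw [h', ← map_pow, show x ^ p = 1 by rw [← hx, pow_orderOf_eq_one], map_one, sub_self]
  obtain ⟨P0, hP0⟩ := exists_log (k := k) hN0
  set N0 := ρ x - 1 with hN0def
  set X := N0 * Polynomial.aeval N0 P0 with hX
  have hcomm : Commute N0 (Polynomial.aeval N0 P0) := by
    have h0 := Commute.map (Commute.all Polynomial.X P0) (Polynomial.aeval N0)
    rwa [Polynomial.aeval_X] at h0
  have hXn : IsNilpotent X := ⟨p, by rw [hX, hcomm.mul_pow, hN0, zero_mul]⟩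
  have hXe : texp p k X = ρ x := by rw [hX, hP0, hN0def]; abel
  have hXd : X ^ d = 0 := pow_finrank_eq_zero hXn
  have hX0 : X ≠ 0 := fun h => hρ (by rw [← hXe, h, texp_zero])
  clear_value X
  obtain ⟨Q, hQN, hQp, hQdec⟩ := exists_complement_normalizer hx hsq
  -- the scalar
  have hinv : ∀ g : G, ρ g⁻¹ * ρ g = 1 := fun g => by rw [← map_mul, inv_mul_cancel, map_one]
  have hinv' : ∀ g : G, ρ g * ρ g⁻¹ = 1 := fun g => by rw [← map_mul, mul_inv_cancel, map_one]
  have hscal : ∀ q ∈ Q, ∃ c : k, c ≠ 0 ∧ ρ q * X = c • (X * ρ q) := by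
    intro q hq
    have hqx := (Subgroup.mem_normalizer_iff.mp (hQN hq) x).mp (Subgroup.mem_zpowers x)
    rw [← mem_powers_iff_mem_zpowers] at hqx
    obtain ⟨a, ha⟩ := hqx
    have ha' : x ^ a = q * x * q⁻¹ := ha
    let u : (Module.End k V)ˣ := ⟨ρ q, ρ q⁻¹, hinv' q, hinv q⟩
    have hc1 : Commute (ρ x) X := hXe ▸ commute_texp (Commute.refl X)
    have h1 : texp p k ((u : Module.End k V) * X * (↑u⁻¹ : Module.End k V)) = ρ (x ^ a) := by
      rw [texp_conj, hXe, show (u : Module.End k V) = ρ q from rfl,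
        show (↑u⁻¹ : Module.End k V) = ρ q⁻¹ from rfl, ← map_mul, ← map_mul, ha']
    have hXp : X ^ p = 0 := pow_eq_zero_of_le (by omega) hXd
    have h2 : texp p k (a • X) = ρ (x ^ a) := by rw [texp_nsmul hXp, hXe, map_pow]
    set X' := (u : Module.End k V) * X * (↑u⁻¹ : Module.End k V) with hX'
    have hcomm' : Commute X' (a • X) := by
      refine Commute.smul_right ?_ a
      have hxc : Commute X' (ρ (x ^ a)) := h1 ▸ (commute_texp (Commute.refl X')).symm
      have hz : ρ x ∈ Submonoid.powers (ρ (x ^ a)) := by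
        have hane : ¬ p ∣ a := fun hpa => by
          obtain ⟨b, rfl⟩ := hpa
          rw [pow_mul, ← hx, pow_orderOf_eq_one, one_pow] at ha'
          have : x = 1 := conj_eq_one_iff.mp ha'.symm
          exact hp.out.one_lt.ne' (by rw [← hx, this, orderOf_one])
        obtain ⟨j, hj⟩ := exists_pow_eq_self_of_coprime (x := x) (n := a)
          (by rw [hx]; exact (hp.out.coprime_iff_not_dvd.mpr hane).symm)
        exact ⟨j, by show ρ (x ^ a) ^ j = ρ x; rw [← map_pow, hj]⟩
      obtain ⟨j, hj⟩ := hz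
      have hx' : Commute X' N0 := by
        rw [hN0def, ← hj]
        exact (hxc.pow_right j).sub_right (Commute.one_right _)
      rw [hX]
      exact hx'.mul_right (Commute.symm (Algebra.commute_of_mem_adjoin_singleton_of_commute
        (Polynomial.aeval_mem_adjoin_singleton k N0) hx').symm)
    have hX'd : X' ^ d = 0 := by rw [hX', Units.conj_pow, hXd, mul_zero, zero_mul]
    have heq : X' = a • X := texp_injective (k := k) hcomm' (fun i j hij => by
      rcases (show d ≤ i ∨ d ≤ j by omega) with h | h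
      · rw [pow_eq_zero_of_le h hX'd, zero_mul]
      · rw [smul_pow, pow_eq_zero_of_le h hXd, smul_zero, mul_zero]) (h1.trans h2.symm)
    have hmul : ρ q * X = (a : k) • (X * ρ q) := by
      rw [Nat.cast_smul_eq_nsmul, ← smul_mul_assoc, ← heq, hX']
      show ρ q * X = ρ q * X * ρ q⁻¹ * ρ q
      rw [mul_assoc _ _ (ρ q), hinv, mul_one]
    refine ⟨a, fun h0 => hX0 ?_, hmul⟩
    rw [h0, zero_smul] at hmul
    calc X = ρ q⁻¹ * (ρ q * X) := by rw [← mul_assoc, hinv, one_mul]
      _ = 0 := by rw [hmul, mul_zero]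
  choose! χ hχ0 hχ using hscal
  have hpowX : ∀ q ∈ Q, ∀ (j : ℕ) (v : V), ρ q ((X ^ j) v) = χ q ^ j • (X ^ j) (ρ q v) := by
    intro q hq j v
    induction j generalizing v with
    | zero => simp
    | succ j ih =>
      rw [pow_succ, Module.End.mul_apply, ih, pow_succ, mul_smul, Module.End.mul_apply]
      rw [show ρ q (X v) = χ q • X (ρ q v) from LinearMap.congr_fun (hχ q hq) v, map_smul]
  -- nilpotency index
  obtain ⟨m, hmX, hm1, hmd⟩ : ∃ m, X ^ m = 0 ∧ X ^ (m - 1) ≠ 0 ∧ m ≤ d := by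
    have hex : ∃ m, X ^ m = 0 := ⟨d, hXd⟩
    refine ⟨Nat.find hex, Nat.find_spec hex, fun h => ?_, Nat.find_min' hex hXd⟩
    rcases Nat.eq_zero_or_pos (Nat.find hex) with h0 | h0
    · have := Nat.find_spec hex
      rw [h0, pow_zero] at this
      exact hX0 (by rw [← one_mul X, this, zero_mul])
    · exact absurd h (Nat.find_min hex (by omega))
  have hm2 : 2 ≤ m := by
    by_contra h
    interval_cases m
    · exact hm1 hmX
    · exact hX0 (by simpa using hmX)
  -- an invariant complement to the kernel of the top power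
  haveI : Fintype Q := Fintype.ofFinite _
  have hQk : (Fintype.card Q : k) ≠ 0 := by
    rw [Ne, CharP.cast_eq_zero_iff k p, ← Nat.card_eq_fintype_card]; exact hQp
  let avg : Module.End k V → Module.End k V := fun f =>
    (Fintype.card Q : k)⁻¹ • ∑ q : Q, ρ q * f * ρ (q : G)⁻¹
  have havg : ∀ f, ∀ q₀ ∈ Q, Commute (ρ q₀) (avg f) := by
    intro f q₀ hq₀
    show ρ q₀ * avg f = avg f * ρ q₀
    simp only [avg, mul_smul_comm, smul_mul_assoc, Finset.mul_sum, Finset.sum_mul]
    congr 1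
    refine Fintype.sum_equiv (Equiv.mulLeft ⟨q₀, hq₀⟩) _ _ fun q => ?_
    simp only [Equiv.coe_mulLeft, Subgroup.coe_mul, mul_inv_rev, map_mul, mul_assoc, hinv, mul_one]
  have havg_fix : ∀ (f : Module.End k V) (S : Submodule k V), (∀ q ∈ Q, ∀ v ∈ S, ρ q v ∈ S) →
      (∀ v, f v ∈ S) → (∀ v ∈ S, f v = v) → (∀ v, avg f v ∈ S) ∧ ∀ v ∈ S, avg f v = v := by
    intro f S hS h1 h2
    refine ⟨fun v => ?_, fun v hv => ?_⟩
    · simp only [avg, LinearMap.smul_apply, LinearMap.sum_apply, Module.End.mul_apply]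
      exact S.smul_mem _ (S.sum_mem fun q _ => hS _ q.2 _ (h1 _))
    · simp only [avg, LinearMap.smul_apply, LinearMap.sum_apply, Module.End.mul_apply]
      rw [Finset.sum_congr rfl fun (q : Q) _ => show ρ q (f (ρ (q : G)⁻¹ v)) = v by
        rw [h2 _ (hS _ (inv_mem q.2) v hv)]; exact LinearMap.congr_fun (hinv' _) v]
      rw [Finset.sum_const, Finset.card_univ, ← Nat.cast_smul_eq_nsmul k, smul_smul,
        inv_mul_cancel₀ hQk, one_smul]
  set K := LinearMap.ker (X ^ (m - 1)) with hK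
  have hKQ : ∀ q ∈ Q, ∀ v ∈ K, ρ q v ∈ K := by
    intro q hq v hv
    rw [hK, LinearMap.mem_ker] at hv ⊢
    have h := hpowX q hq (m - 1) v
    rw [hv, map_zero] at h
    exact (smul_eq_zero.mp h.symm).resolve_left (pow_ne_zero _ (hχ0 q hq))
  obtain ⟨π₀, hπ₀⟩ := LinearMap.exists_leftInverse_of_injective K.subtype K.ker_subtype
  obtain ⟨hπ1, hπ2⟩ := havg_fix (K.subtype ∘ₗ π₀) K hKQ (fun v => (π₀ v).2) fun v hv =>
    congrArg Subtype.val (LinearMap.congr_fun hπ₀ ⟨v, hv⟩)
  set π := avg (K.subtype ∘ₗ π₀) with hπ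
  set L := LinearMap.ker π with hL
  have hLQ : ∀ q ∈ Q, ∀ v ∈ L, ρ q v ∈ L := by
    intro q hq v hv
    rw [hL, LinearMap.mem_ker] at hv ⊢
    rw [show π (ρ q v) = ρ q (π v) from (LinearMap.congr_fun (havg _ q hq) v).symm, hv, map_zero]
  have hLK : ∀ l : L, (X ^ (m - 1)) l = 0 → l = 0 := fun l h => Subtype.ext <| by
    have := hπ2 (l : V) (LinearMap.mem_ker.mpr h)
    rw [← this, show π (l : V) = 0 from l.2]; rfl
  have hL0 : ∃ l : L, l ≠ 0 := by
    by_contra h
    push_neg at h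
    refine hm1 (LinearMap.ext fun v => ?_)
    have hmem : v - π v ∈ L := by
      rw [hL, LinearMap.mem_ker, map_sub, hπ2 _ (hπ1 v), sub_self]
    have hv : v = π v := sub_eq_zero.mp (congrArg Subtype.val (h ⟨_, hmem⟩))
    rw [hv]
    exact LinearMap.mem_ker.mp (hπ1 v)
  -- the free submodule generated by the complement
  set Φ : (Fin m → L) →ₗ[k] V :=
    ∑ j : Fin m, (X ^ (j : ℕ)) ∘ₗ L.subtype ∘ₗ LinearMap.proj j with hΦ
  have hΦs : ∀ (i : Fin m) (l : L), Φ (Pi.single i l) = (X ^ (i : ℕ)) l := by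
    intro i l
    rw [hΦ, LinearMap.sum_apply, Finset.sum_eq_single i]
    · simp
    · intro j _ hji; simp [Pi.single_eq_of_ne hji]
    · exact fun h => absurd (Finset.mem_univ i) h
  have hΦinj : LinearMap.ker Φ = ⊥ := by
    rw [LinearMap.ker_eq_bot']
    intro f hf
    by_contra hne
    obtain ⟨j₀, hj₀, hmin⟩ : ∃ j₀, f j₀ ≠ 0 ∧ ∀ j, j < j₀ → f j = 0 := by
      obtain ⟨j, hj⟩ := Function.ne_iff.mp hne
      obtain ⟨j₀, hj₀, hle⟩ := Finset.exists_min_image (Finset.univ.filter fun j => f j ≠ 0) id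
        ⟨j, by simpa using hj⟩
      refine ⟨j₀, by simpa using hj₀, fun i hi => ?_⟩
      by_contra h
      exact (not_lt.mpr (hle i (by simpa using h))) hi
    refine hj₀ (hLK _ ?_)
    have h := congrArg (fun v => (X ^ (m - 1 - (j₀ : ℕ))) v) hf
    simp only [hΦ, LinearMap.sum_apply, map_sum, LinearMap.comp_apply, LinearMap.proj_apply,
      Submodule.subtype_apply, map_zero, ← Module.End.mul_apply, ← pow_add] at h
    rw [Finset.sum_eq_single j₀] at h
    · rwa [show m - 1 - (j₀ : ℕ) + (j₀ : ℕ) = m - 1 by omega] at h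
    · intro j _ hj
      rcases lt_or_gt_of_ne hj with h' | h'
      · rw [hmin j h']; simp
      · rw [pow_eq_zero_of_le (by omega) hmX]; rfl
    · exact fun h => absurd (Finset.mem_univ j₀) h
  obtain ⟨Ψ, hΨ⟩ := LinearMap.exists_leftInverse_of_injective Φ hΦinj
  have hm0 : 0 < m := by omega
  set lam : Module.End k V := L.subtype ∘ₗ LinearMap.proj (⟨m - 1, by omega⟩ : Fin m) ∘ₗ Ψ with hlam
  set r₀ : Module.End k V := ∑ j ∈ Finset.range m, X ^ (m - 1 - j) * lam * X ^ j with hr₀
  have hr₀c : Commute r₀ X := by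
    show r₀ * X = X * r₀
    obtain ⟨m', hm'⟩ : ∃ m', m = m' + 1 := ⟨m - 1, by omega⟩
    rw [hr₀, hm', Finset.sum_mul, Finset.mul_sum, Finset.sum_range_succ, Finset.sum_range_succ']
    have hz : X ^ (m' + 1) = 0 := hm' ▸ hmX
    rw [Nat.add_sub_cancel, Nat.sub_self, pow_zero, one_mul, mul_assoc, ← pow_succ, hz, mul_zero,
      add_zero, Nat.sub_zero, mul_one, ← mul_assoc, ← pow_succ', hz, zero_mul, add_zero]
    refine Finset.sum_congr rfl fun j hj => ?_
    rw [mul_assoc, ← pow_succ, ← mul_assoc, ← mul_assoc, ← pow_succ',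
      show m' - (j + 1) + 1 = m' - j by have := Finset.mem_range.mp hj; omega]
  have hgen : ∀ (i : ℕ) (_ : i < m) (l : L), r₀ ((X ^ i) l) = (X ^ i) l := by
    intro i hi l
    rw [hr₀, LinearMap.sum_apply, Finset.sum_eq_single (m - 1 - i)]
    · simp only [Module.End.mul_apply]
      rw [← Module.End.mul_apply (X ^ (m - 1 - i)), ← pow_add, show m - 1 - i + i = ((⟨m - 1, by omega⟩ : Fin m) : ℕ) by
          simp; omega, ← hΦs]
      simp only [hlam, LinearMap.comp_apply, LinearMap.proj_apply, Submodule.subtype_apply]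
      rw [show Ψ (Φ _) = _ from LinearMap.congr_fun hΨ _]
      simp only [LinearMap.id_apply, Pi.single_eq_same]
      rw [show m - 1 - (m - 1 - i) = i by omega]
    · intro j hj hne
      simp only [Module.End.mul_apply]
      rw [← Module.End.mul_apply (X ^ j), ← pow_add]
      by_cases hlt : j + i < m
      · rw [show j + i = ((⟨j + i, hlt⟩ : Fin m) : ℕ) from rfl, ← hΦs]
        simp only [hlam, LinearMap.comp_apply, LinearMap.proj_apply, Submodule.subtype_apply]
        rw [show Ψ (Φ _) = _ from LinearMap.congr_fun hΨ _]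
        simp only [LinearMap.id_apply]
        rw [Pi.single_eq_of_ne (fun h => hne (by have := congrArg Fin.val h; simp at this; omega))]
        simp
      · rw [pow_eq_zero_of_le (not_lt.mp hlt) hmX]; simp
    · intro h; exact absurd (Finset.mem_range.mpr (by omega)) h
  set U := LinearMap.range Φ with hU
  have hUX : ∀ (i : ℕ) (l : L), (X ^ i) l ∈ U := fun i l => by
    by_cases h : i < m
    · exact ⟨Pi.single ⟨i, h⟩ l, hΦs _ _⟩
    · rw [pow_eq_zero_of_le (not_lt.mp h) hmX]; exact U.zero_mem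
  have hUgen : ∀ {S : Submodule k V}, (∀ (i : ℕ) (_ : i < m) (l : L), (X ^ i) l ∈ S) → U ≤ S := by
    rintro S hS _ ⟨f, rfl⟩
    rw [hΦ, LinearMap.sum_apply]
    exact S.sum_mem fun j _ => hS _ j.2 _
  have hUQ : ∀ q ∈ Q, ∀ v ∈ U, ρ q v ∈ U := by
    intro q hq v hv
    have : U ≤ U.comap (ρ q) := hUgen fun i _ l => by
      rw [Submodule.mem_comap, hpowX q hq]
      exact U.smul_mem _ (hUX i ⟨_, hLQ q hq _ l.2⟩)
    exact this hv
  have hr₀U : ∀ v, r₀ v ∈ U := fun v => by
    rw [hr₀, LinearMap.sum_apply]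
    refine U.sum_mem fun j _ => ?_
    simp only [Module.End.mul_apply, hlam, LinearMap.comp_apply, Submodule.subtype_apply]
    exact hUX _ _
  have hr₀id : ∀ v ∈ U, r₀ v = v := fun v hv => by
    have : U ≤ LinearMap.eqLocus r₀ (LinearMap.id : V →ₗ[k] V) := hUgen fun i hi l => hgen i hi l
    exact this hv
  obtain ⟨hr1, hr2⟩ := havg_fix r₀ U hUQ hr₀U hr₀id
  set r := avg r₀ with hr
  have hrX : Commute r X := by
    show r * X = X * r
    simp only [hr, avg, smul_mul_assoc, mul_smul_comm, Finset.sum_mul, Finset.mul_sum]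
    congr 1
    refine Finset.sum_congr rfl fun q _ => ?_
    have h1 := hχ _ q.2
    have h2 : ρ (q : G)⁻¹ * X = (χ q)⁻¹ • (X * ρ (q : G)⁻¹) := by
      have e : X * ρ (q : G)⁻¹ = χ q • (ρ (q : G)⁻¹ * X) := by
        calc X * ρ (q : G)⁻¹ = ρ (q : G)⁻¹ * (ρ q * X) * ρ (q : G)⁻¹ := by
              rw [← mul_assoc (ρ (q : G)⁻¹), hinv, one_mul]
          _ = χ q • (ρ (q : G)⁻¹ * X) := by
              rw [h1, mul_smul_comm, smul_mul_assoc, mul_assoc, mul_assoc, hinv', mul_one]
      rw [e, smul_smul, inv_mul_cancel₀ (hχ0 _ q.2), one_smul]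
    calc ρ q * r₀ * ρ (q : G)⁻¹ * X = (χ q)⁻¹ • (ρ q * r₀ * X * ρ (q : G)⁻¹) := by
          rw [mul_assoc, h2, mul_smul_comm, ← mul_assoc]
      _ = (χ q)⁻¹ • (ρ q * X * r₀ * ρ (q : G)⁻¹) := by
          rw [mul_assoc (ρ q) r₀ X, hr₀c.eq, ← mul_assoc]
      _ = X * (ρ q * r₀ * ρ (q : G)⁻¹) := by
          rw [h1, smul_mul_assoc, smul_mul_assoc, smul_smul, inv_mul_cancel₀ (hχ0 _ q.2), one_smul]
          simp only [mul_assoc]
  have hrxρ : Commute r (ρ x) := hXe ▸ (commute_texp hrX.symm).symm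
  have hrN : ∀ n ∈ Subgroup.normalizer (Subgroup.zpowers x : Set G), Commute (ρ n) r := by
    intro n hn
    obtain ⟨i, q, hq, rfl⟩ := hQdec n hn
    rw [map_mul, map_pow]
    exact (hrxρ.symm.pow_left i).mul_left (havg _ q hq)
  have hri : IsIdempotentElem r := LinearMap.ext fun v => hr2 _ (hr1 v)
  have hidx : (ρ x - 1) ^ (p - 1) = 0 := pow_eq_zero_of_le hdp (pow_finrank_eq_zero ⟨p, hN0⟩)
  obtain ⟨E, u, hEi, hEc, -, hEu, -⟩ := exists_lift ρ hx hsq hidx hri hrN
  have hE1 : E = 1 := by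
    rcases hirr (LinearMap.range E) (fun g v ⟨w, hw⟩ => ⟨ρ g w, by
      rw [← hw]; exact (LinearMap.congr_fun (hEc g) w).symm⟩) with h | h
    · exfalso
      have hE0 : E = 0 := LinearMap.range_eq_bot.mp h
      rw [hE0, zero_mul] at hEu
      have : r = 0 := by
        calc r = (↑u⁻¹ : Module.End k V) * ((u : Module.End k V) * r) := by
              rw [← mul_assoc, Units.inv_mul, one_mul]
          _ = 0 := by rw [← hEu, mul_zero]
      obtain ⟨l, hl⟩ := hL0
      refine hl (Subtype.ext ?_)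
      have h1 := hr2 _ (hUX 0 l)
      rw [this] at h1
      simpa using h1.symm
    · refine LinearMap.ext fun v => ?_
      obtain ⟨w, rfl⟩ := LinearMap.range_eq_top.mp h v
      exact LinearMap.congr_fun hEi w
  have hr1' : r = 1 := by
    rw [hE1, one_mul] at hEu
    calc r = (↑u⁻¹ : Module.End k V) * ((u : Module.End k V) * r) := by
          rw [← mul_assoc, Units.inv_mul, one_mul]
      _ = 1 := by rw [← hEu, Units.inv_mul]
  have hUtop : ∀ v, v ∈ U := fun v => by
    have := hr1 v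
    rwa [hr1'] at this
  let Φe : (Fin m → L) ≃ₗ[k] V := LinearEquiv.ofBijective Φ
    ⟨LinearMap.ker_eq_bot.mp hΦinj, hUtop⟩
  let c : ℕ → k := fun j => ((j * (m - j) : ℕ) : k)
  set Y : Module.End k V := (∑ j : Fin m, c j • ((X ^ ((j : ℕ) - 1)) ∘ₗ L.subtype ∘ₗ
    LinearMap.proj j)) ∘ₗ Φe.symm.toLinearMap with hY
  have hYg : ∀ (j : ℕ), j ≤ m → ∀ l : L, Y ((X ^ j) l) = c j • (X ^ (j - 1)) l := by
    intro j hj l
    rcases hj.lt_or_eq with hlt | heq
    · rw [show (X ^ j) (l : V) = Φe (Pi.single ⟨j, hlt⟩ l) from (hΦs ⟨j, hlt⟩ l).symm, hY,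
        LinearMap.comp_apply, LinearEquiv.coe_coe, LinearEquiv.symm_apply_apply,
        LinearMap.sum_apply, Finset.sum_eq_single (⟨j, hlt⟩ : Fin m)]
      · simp
      · intro i _ hi; simp [Pi.single_eq_of_ne hi]
      · exact fun h => absurd (Finset.mem_univ _) h
    · rw [heq, hmX]; simp [c]
  have hext : ∀ f g : Module.End k V,
      (∀ (j : ℕ) (_ : j < m) (l : L), f ((X ^ j) l) = g ((X ^ j) l)) → f = g := fun f g h =>
    LinearMap.ext fun v => by
      have : U ≤ LinearMap.eqLocus f g := hUgen fun i hi l => h i hi l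
      exact this (hUtop v)
  have hXs : ∀ (j : ℕ) (l : L), X ((X ^ j) l) = (X ^ (j + 1)) l := fun j l => by
    rw [pow_succ', Module.End.mul_apply]
  have hXY : ∀ (j : ℕ) (_ : j ≤ m) (l : L), X (Y ((X ^ j) l)) = c j • (X ^ j) l := by
    intro j hj l
    rw [hYg j hj, map_smul]
    rcases Nat.eq_zero_or_pos j with rfl | h0
    · simp [c]
    · rw [hXs, Nat.sub_add_cancel h0]
  have hH : ∀ (j : ℕ) (_ : j < m) (l : L),
      (X * Y - Y * X) ((X ^ j) l) = (c j - c (j + 1)) • (X ^ j) l := by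
    intro j hj l
    rw [LinearMap.sub_apply, Module.End.mul_apply, Module.End.mul_apply, hXY j hj.le, hXs,
      hYg (j + 1) hj, Nat.add_sub_cancel, sub_smul]
  refine ⟨Q, X, Y, m, hQN, hQdec, fun q hq => ⟨χ q, hχ0 q hq, hχ q hq, ?_⟩, hXe, hmX,
    by omega, ?_, ?_⟩
  · refine hext _ _ fun j hj l => ?_
    rw [Module.End.mul_apply, LinearMap.smul_apply, Module.End.mul_apply, hYg j hj.le, map_smul,
      hpowX q hq, hpowX q hq, map_smul,
      show Y ((X ^ j) (ρ q (l : V))) = c j • (X ^ (j - 1)) (ρ q (l : V)) from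
        hYg j hj.le ⟨_, hLQ q hq _ l.2⟩, smul_smul, smul_smul, smul_smul]
    congr 1
    rcases Nat.eq_zero_or_pos j with rfl | h0
    · simp [c]
    · rw [show χ q ^ j = χ q ^ (j - 1) * χ q by rw [← pow_succ, Nat.sub_add_cancel h0]]
      field_simp [hχ0 q hq]
  · refine hext _ _ fun j hj l => ?_
    rw [LinearMap.sub_apply, Module.End.mul_apply, Module.End.mul_apply, LinearMap.smul_apply,
      hXs, hH j hj, map_smul, hXs]
    by_cases hj1 : j + 1 < m
    · rw [hH _ hj1, ← sub_smul]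
      congr 1
      simp only [c, Nat.cast_mul, Nat.cast_sub hj.le, Nat.cast_sub hj1.le,
        Nat.cast_sub (show j + 1 + 1 ≤ m by omega)]
      push_cast
      ring
    · rw [pow_eq_zero_of_le (not_lt.mp hj1) hmX]; simp
  · let b : Module.Basis (Σ _ : Fin m, Fin (Module.finrank k L)) k V :=
      (Pi.basis fun _ : Fin m => Module.finBasis k L).map Φe
    rw [LinearMap.trace_eq_matrix_trace k b, Matrix.trace]
    have hdiag : ∀ a, Matrix.diag (LinearMap.toMatrix b b (X * Y)) a = c (a.1 : ℕ) := by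
      rintro ⟨j, i⟩
      have hb : b ⟨j, i⟩ = (X ^ (j : ℕ)) (Module.finBasis k L i : V) := by
        simp only [b, Module.Basis.map_apply, Pi.basis_apply]
        exact hΦs _ _
      rw [Matrix.diag_apply, LinearMap.toMatrix_apply, hb, Module.End.mul_apply, hXY _ j.2.le,
        map_smul, ← hb, Finsupp.smul_apply, Module.Basis.repr_self, Finsupp.single_eq_same,
        smul_eq_mul, mul_one]
    rw [Finset.sum_congr rfl fun a _ => hdiag a, Fintype.sum_sigma]
    simp only [Finset.sum_const, Finset.card_univ, Fintype.card_fin, nsmul_eq_mul, ← Finset.mul_sum]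
    have hsum : ∀ n : ℕ, 6 * ∑ j ∈ Finset.range n, (j : ℤ) * ((m : ℤ) - j) =
        3 * m * (n * (n - 1)) - (n : ℤ) * (n - 1) * (2 * n - 1) := by
      intro n
      induction n with
      | zero => simp
      | succ n ih => rw [Finset.sum_range_succ, mul_add, ih]; push_cast; ring
    have hs : (6 : k) * ∑ j : Fin m, c j = ((m : k) - 1) * m * ((m : k) + 1) := by
      have h := congrArg (Int.cast : ℤ → k) (hsum m)
      rw [Int.cast_mul, Int.cast_sum] at h
      rw [Fin.sum_univ_eq_sum_range (fun j => c j)]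
      rw [Finset.sum_congr rfl fun j hj => show c j = (((j : ℤ) * ((m : ℤ) - j) : ℤ) : k) by
        simp only [c, Nat.cast_mul, Nat.cast_sub (Finset.mem_range.mp hj).le]; push_cast; rfl]
      simp only [Int.cast_ofNat] at h
      refine h.trans ?_
      push_cast
      ring
    have hne : ∀ n : ℕ, 0 < n → n < p → (n : k) ≠ 0 := fun n h0 hn => by
      rw [Ne, CharP.cast_eq_zero_iff k p]
      exact fun h => absurd (Nat.le_of_dvd h0 h) (not_le.mpr hn)
    obtain ⟨l, hl⟩ := hL0
    have hr0 : 0 < Module.finrank k L := Module.finrank_pos_iff_exists_ne_zero.mpr ⟨l, hl⟩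
    have hdim' : d = m * Module.finrank k L := by
      rw [hd, ← LinearEquiv.finrank_eq Φe, Module.finrank_pi_fintype]
      simp
    refine mul_ne_zero (hne _ hr0 (by
      calc Module.finrank k L ≤ m * Module.finrank k L := Nat.le_mul_of_pos_left _ hm0
        _ < p := by omega)) fun h0 => ?_
    rw [h0, mul_zero] at hs
    have h1 : (((m - 1 : ℕ) : k)) * (m : k) * ((m + 1 : ℕ) : k) = 0 := by
      rw [Nat.cast_sub (by omega : 1 ≤ m)]; push_cast; exact hs.symm
    rcases mul_eq_zero.mp h1 with h2 | h2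
    · rcases mul_eq_zero.mp h2 with h3 | h3
      · exact hne _ (by omega) (by omega) h3
      · exact hne _ (by omega) (by omega) h3
    · exact hne _ (by omega) (by omega) h2

end CfsgLib.SmallDegree
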