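import Cfsg.Agent.Lib.SmallDegree.Adjoint
import Mathlib.LinearAlgebra.Matrix.SpecialLinearGroup
import Mathlib.FieldTheory.Finite.Basic
import Mathlib.LinearAlgebra.Matrix.CharP

/-!
# Finite subgroups of `SL₂` whose Sylow subgroup has order `p`

The Frobenius twisted square of the natural module shows that they contain `SL₂(p)`, up to a
change of frame, unless the subgroup of order `p` is normal.
-/

set_option autoImplicit false
set_option linter.unusedSectionVars false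

namespace CfsgLib.SmallDegree

open Matrix

variable {k : Type*} [Field k] {p : ℕ} [CharP k p] [hp : Fact p.Prime]

local notation "SL2" => Matrix.SpecialLinearGroup (Fin 2)

/-- The upper unitriangular element. -/
def uSL {R : Type*} [CommRing R] (s : R) : SL2 R :=
  ⟨upperU s, by simp [upperU, Matrix.det_fin_two]⟩

/-- The lower unitriangular element. -/
def lSL {R : Type*} [CommRing R] (c : R) : SL2 R :=
  ⟨!![1, 0; c, 1], by simp [Matrix.det_fin_two]⟩

theorem coe_uSL {R : Type*} [CommRing R] (s : R) :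
    ((uSL s : SL2 R) : Matrix (Fin 2) (Fin 2) R) = !![1, s; 0, 1] := rfl

theorem coe_lSL {R : Type*} [CommRing R] (c : R) :
    ((lSL c : SL2 R) : Matrix (Fin 2) (Fin 2) R) = !![1, 0; c, 1] := rfl

theorem uSL_mul {R : Type*} [CommRing R] (s t : R) : uSL s * uSL t = uSL (s + t) := by
  refine Subtype.ext ?_
  ext i j
  fin_cases i <;> fin_cases j <;>
    simp [coe_uSL, Matrix.mul_apply, Fin.sum_univ_two, add_comm, -Matrix.cons_mul]

theorem uSL_zero {R : Type*} [CommRing R] : uSL (0 : R) = 1 := by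
  refine Subtype.ext ?_
  ext i j
  fin_cases i <;> fin_cases j <;> simp [coe_uSL]

theorem uSL_inv {R : Type*} [CommRing R] (s : R) : (uSL s)⁻¹ = uSL (-s) :=
  inv_eq_of_mul_eq_one_right (by rw [uSL_mul, add_neg_cancel, uSL_zero])

theorem uSL_pow {R : Type*} [CommRing R] (s : R) (n : ℕ) : uSL s ^ n = uSL (n * s) := by
  induction n with
  | zero => rw [pow_zero, Nat.cast_zero, zero_mul, uSL_zero]
  | succ n ih => rw [pow_succ, ih, uSL_mul, Nat.cast_succ, add_mul, one_mul]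

theorem lSL_pow {R : Type*} [CommRing R] (c : R) (n : ℕ) : lSL c ^ n = lSL (n * c) := by
  induction n with
  | zero =>
    refine Subtype.ext ?_
    ext i j
    fin_cases i <;> fin_cases j <;> simp [coe_lSL]
  | succ n ih =>
    rw [pow_succ, ih]
    refine Subtype.ext ?_
    ext i j
    fin_cases i <;> fin_cases j <;>
      simp [coe_lSL, Matrix.mul_apply, Fin.sum_univ_two, add_mul, -Matrix.cons_mul]

theorem orderOf_uSL {s : k} (hs : s ≠ 0) : orderOf (uSL s : SL2 k) = p := by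
  refine orderOf_eq_prime ?_ fun h => hs ?_
  · rw [uSL_pow, CharP.cast_eq_zero, zero_mul, uSL_zero]
  · simpa [coe_uSL] using congrArg (fun g : SL2 k => (g : Matrix (Fin 2) (Fin 2) k) 0 1) h

theorem pow_char_eq_self_iff {a : k} : a ^ p = a ↔ ∃ b : ZMod p, ZMod.castHom dvd_rfl k b = a := by
  rw [← Subfield.mem_bot_iff_pow_eq_self k p, ← ZMod.fieldRange_castHom_eq_bot p]
  rfl

/-- An element of order `p` has trace two. -/
theorem trace_of_pow_eq_one {y : SL2 k} (hy : y ^ p = 1) :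
    (y : Matrix (Fin 2) (Fin 2) k) 0 0 + (y : Matrix (Fin 2) (Fin 2) k) 1 1 = 2 := by
  haveI : CharP (Matrix (Fin 2) (Fin 2) k) p := Matrix.charP _
  have h : ((y : Matrix (Fin 2) (Fin 2) k) - 1) ^ p = 0 := by
    rw [sub_pow_char_of_commute p (Commute.one_right _), one_pow, ← Matrix.SpecialLinearGroup.coe_pow, hy]
    simp
  have hd : ((y : Matrix (Fin 2) (Fin 2) k) - 1).det = 0 := by
    have h' := congrArg Matrix.det h
    rw [Matrix.det_pow, Matrix.det_zero] at h'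
    exact eq_zero_of_pow_eq_zero h'
  have hdet := y.2
  rw [Matrix.det_fin_two] at hd hdet
  simp only [Matrix.sub_apply, Matrix.one_apply_eq, Matrix.one_apply_ne (show (0 : Fin 2) ≠ 1 by decide),
    Matrix.one_apply_ne (show (1 : Fin 2) ≠ 0 by decide)] at hd
  linear_combination hdet - hd

/-- An element of order `p` outside the upper triangular matrices. -/
theorem exists_param {y : SL2 k} (hy : y ^ p = 1) (hn : (y : Matrix (Fin 2) (Fin 2) k) 1 0 ≠ 0) :
    ∃ ν : k, y = uSL ν * lSL ((y : Matrix (Fin 2) (Fin 2) k) 1 0) * uSL (-ν) := by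
  set n := (y : Matrix (Fin 2) (Fin 2) k) 1 0 with hn'
  refine ⟨((y : Matrix (Fin 2) (Fin 2) k) 0 0 - 1) / n, Subtype.ext ?_⟩
  have htr := trace_of_pow_eq_one hy
  have hdet := y.2
  rw [Matrix.det_fin_two, ← hn'] at hdet
  ext i j
  fin_cases i <;> fin_cases j <;>
    simp [coe_uSL, coe_lSL, Matrix.mul_apply, Fin.sum_univ_two, ← hn', div_mul_cancel₀ _ hn, -Matrix.cons_mul]
  · field_simp
    linear_combination (y : Matrix (Fin 2) (Fin 2) k) 0 0 * htr - hdet
  · linear_combination htr + ((y : Matrix (Fin 2) (Fin 2) k) 0 0 - 1) * mul_inv_cancel₀ hn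

/-- An element of order `p` fixing the first axis is in the subgroup of order `p`. -/
theorem mem_zpowers_of_upper {Γ : Subgroup (SL2 k)} [Finite Γ] (hu : uSL (1 : k) ∈ Γ)
    (hsq : ¬ p ^ 2 ∣ Nat.card Γ) {y : SL2 k} (hy : y ∈ Γ) (hyp : y ^ p = 1)
    (hn : (y : Matrix (Fin 2) (Fin 2) k) 1 0 = 0) :
    ∃ i : ℕ, y = uSL (i : k) := by
  have htr := trace_of_pow_eq_one hyp
  have hdet := y.2
  rw [Matrix.det_fin_two, hn, mul_zero, sub_zero] at hdet
  have h00 : (y : Matrix (Fin 2) (Fin 2) k) 0 0 = 1 := by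
    have h : ((y : Matrix (Fin 2) (Fin 2) k) 0 0 - 1) ^ 2 = 0 := by
      linear_combination (y : Matrix (Fin 2) (Fin 2) k) 0 0 * htr - hdet
    exact sub_eq_zero.mp (eq_zero_of_pow_eq_zero h)
  have h11 : (y : Matrix (Fin 2) (Fin 2) k) 1 1 = 1 := by linear_combination htr - h00
  set s := (y : Matrix (Fin 2) (Fin 2) k) 0 1 with hs
  have hys : y = uSL s := by
    refine Subtype.ext ?_
    ext i j
    fin_cases i <;> fin_cases j <;> simp [coe_uSL, hn, h00, h11, ← hs]
  have hord : orderOf (⟨uSL 1, hu⟩ : Γ) = p := by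
    rw [← Subgroup.orderOf_coe]; exact orderOf_uSL one_ne_zero
  have hmem : (⟨y, hy⟩ : Γ) ∈ Subgroup.zpowers (⟨uSL 1, hu⟩ : Γ) := by
    refine mem_zpowers_of_normalize hsq hord ?_ (n := 1) (Subtype.ext (by simpa using hyp))
    have hc : (⟨uSL 1, hu⟩ : Γ) * ⟨y, hy⟩ = ⟨y, hy⟩ * ⟨uSL 1, hu⟩ :=
      Subtype.ext (show uSL 1 * y = y * uSL 1 by rw [hys, uSL_mul, uSL_mul, add_comm])
    refine Subgroup.centralizer_le_normalizer _ ?_
    refine Subgroup.mem_centralizer_iff.mpr fun z hz => ?_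
    obtain ⟨i, rfl⟩ := Subgroup.mem_zpowers_iff.mp hz
    exact (Commute.zpow_left hc i).eq
  rw [← mem_powers_iff_mem_zpowers] at hmem
  obtain ⟨i, hi⟩ := hmem
  refine ⟨i, ?_⟩
  have := congrArg Subtype.val hi
  simp only [SubmonoidClass.coe_pow, uSL_pow, mul_one] at this
  exact this.symm

/-- The twisted square. -/
noncomputable def twistRep (Γ : Subgroup (SL2 k)) :
    Γ →* Module.End k (Matrix (Fin 2) (Fin 2) k) where
  toFun g := LinearMap.mulLeft k ((g : SL2 k) : Matrix (Fin 2) (Fin 2) k) *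
    LinearMap.mulRight k (((g : SL2 k) : Matrix (Fin 2) (Fin 2) k).map (frobenius k p))ᵀ
  map_one' := by ext Z; simp
  map_mul' g h := by
    refine LinearMap.ext fun Z => ?_
    simp [Matrix.map_mul, Matrix.transpose_mul, mul_assoc]

theorem twistRep_apply (Γ : Subgroup (SL2 k)) (g : Γ) (Z : Matrix (Fin 2) (Fin 2) k) :
    twistRep (p := p) Γ g Z = ((g : SL2 k) : Matrix (Fin 2) (Fin 2) k) * Z *
      (((g : SL2 k) : Matrix (Fin 2) (Fin 2) k).map (frobenius k p))ᵀ := by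
  simp [twistRep, mul_assoc]

/-- The alternating square root of the theorem: elements of order `p` outside the axis. -/
theorem exists_invariant {Γ : Subgroup (SL2 k)} [Finite Γ] (hp5 : 5 ≤ p) (hu : uSL (1 : k) ∈ Γ)
    (hsq : ¬ p ^ 2 ∣ Nat.card Γ)
    (hdiag : ∀ g ∈ Γ, (g : Matrix (Fin 2) (Fin 2) k) 1 0 = 0 →
      g * uSL 1 * g⁻¹ ∈ Subgroup.zpowers (uSL (1 : k)) →
      ∃ (i : ℕ) (q : SL2 k), g = uSL (i : k) * q ∧ (q : Matrix (Fin 2) (Fin 2) k) 0 1 = 0 ∧
        ∃ ε : k, ((q : Matrix (Fin 2) (Fin 2) k).map (frobenius k p)) =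
          ε • (q : Matrix (Fin 2) (Fin 2) k)) :
    ∃ τ : k, ∀ y ∈ Γ, y ^ p = 1 → (y : Matrix (Fin 2) (Fin 2) k) 1 0 ≠ 0 →
      ((y : Matrix (Fin 2) (Fin 2) k) 1 0) ^ p = (y : Matrix (Fin 2) (Fin 2) k) 1 0 ∧
      ∀ ν : k, y = uSL ν * lSL ((y : Matrix (Fin 2) (Fin 2) k) 1 0) * uSL (-ν) →
        ν ^ p = ν + τ := by
  classical
  have h2 : (2 : k) ≠ 0 := ne_zero_two (k := k) (p := p) (by omega)
  set σ := twistRep (p := p) Γ with hσ
  set u₁ : Γ := ⟨uSL 1, hu⟩ with hu₁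
  have hord : orderOf u₁ = p := by rw [← Subgroup.orderOf_coe]; exact orderOf_uSL one_ne_zero
  have hσu : ∀ Z, σ u₁ Z = !![1, 1; 0, 1] * Z * !![1, 0; 1, 1] := fun Z => by
    rw [hσ, twistRep_apply]
    congr 1
    ext i j
    fin_cases i <;> fin_cases j <;> simp [hu₁, coe_uSL, frobenius_def, hp.out.ne_zero]
  have hidx : (σ u₁ - 1) ^ (p - 1) = 0 := by
    refine pow_eq_zero_of_le (show 3 ≤ p - 1 by omega) ?_
    refine LinearMap.ext fun Z => ?_
    simp only [pow_succ, pow_zero, one_mul, Module.End.mul_apply, LinearMap.sub_apply,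
      Module.End.one_apply, hσu, LinearMap.zero_apply]
    ext i j
    fin_cases i <;> fin_cases j <;>
      simp [Matrix.mul_apply, Fin.sum_univ_two, -Matrix.cons_mul] <;> ring
  set e : Module.End k (Matrix (Fin 2) (Fin 2) k) :=
    (2 : k)⁻¹ • (LinearMap.id - (Matrix.transposeLinearEquiv (Fin 2) (Fin 2) k k).toLinearMap) with he
  have heapp : ∀ Z, e Z = (2 : k)⁻¹ • (Z - Zᵀ) := fun Z => by simp [he]
  have hei : IsIdempotentElem e := LinearMap.ext fun Z => by
    rw [Module.End.mul_apply, heapp, heapp, Matrix.transpose_smul, Matrix.transpose_sub,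
      Matrix.transpose_transpose]
    ext i j
    simp only [Matrix.smul_apply, Matrix.sub_apply, smul_eq_mul]
    field_simp
    ring
  have hN : ∀ n ∈ Subgroup.normalizer (Subgroup.zpowers u₁ : Set Γ), Commute (σ n) e := by
    intro n hn
    have h1 := (Subgroup.mem_normalizer_iff.mp hn u₁).mp (Subgroup.mem_zpowers u₁)
    rw [← mem_powers_iff_mem_zpowers] at h1
    obtain ⟨a, ha⟩ := h1
    have ha' : uSL ((a : k) * 1) * (n : SL2 k) = (n : SL2 k) * uSL 1 := by
      have := congrArg Subtype.val ha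
      simp only [hu₁, SubmonoidClass.coe_pow, uSL_pow, Subgroup.coe_mul, InvMemClass.coe_inv] at this
      rw [this]; group
    have h10 : ((n : SL2 k) : Matrix (Fin 2) (Fin 2) k) 1 0 = 0 := by
      have := congrArg (fun g : SL2 k => (g : Matrix (Fin 2) (Fin 2) k) 1 1) ha'
      simp [coe_uSL, Matrix.mul_apply, Fin.sum_univ_two, -Matrix.cons_mul] at this
      exact this
    have hmem : (n : SL2 k) * uSL 1 * (n : SL2 k)⁻¹ ∈ Subgroup.zpowers (uSL (1 : k)) := by
      rw [← ha', mul_inv_cancel_right, ← uSL_pow]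
      exact pow_mem (Subgroup.mem_zpowers _) _
    obtain ⟨i, q, hq, -, ε, hε⟩ := hdiag _ n.2 h10 hmem
    have hε' : ((n : SL2 k) : Matrix (Fin 2) (Fin 2) k).map (frobenius k p) =
        ε • ((n : SL2 k) : Matrix (Fin 2) (Fin 2) k) := by
      rw [hq, Matrix.SpecialLinearGroup.coe_mul, Matrix.map_mul, hε, Matrix.mul_smul]
      congr 2
      ext a b
      fin_cases a <;> fin_cases b <;> simp [coe_uSL, hp.out.ne_zero]
    refine LinearMap.ext fun Z => ?_
    rw [Module.End.mul_apply, Module.End.mul_apply, hσ, twistRep_apply, twistRep_apply, heapp,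
      heapp, hε', Matrix.transpose_smul]
    simp only [Matrix.mul_smul, Matrix.smul_mul, Matrix.mul_sub, Matrix.sub_mul,
      Matrix.transpose_smul, Matrix.transpose_mul, Matrix.transpose_transpose, mul_assoc, smul_sub,
      smul_smul]
    rw [mul_comm ε]
  obtain ⟨E, U, -, hEc, hUu, hEU, -⟩ := exists_lift σ hord hsq hidx hei hN
  set J₀ : Matrix (Fin 2) (Fin 2) k := !![0, 1; -1, 0] with hJ₀
  set Z := (U : Module.End k (Matrix (Fin 2) (Fin 2) k)) J₀ with hZ
  have heJ : ∀ W, ∃ c : k, e W = c • J₀ := fun W => by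
    refine ⟨(2 : k)⁻¹ * (W 0 1 - W 1 0), ?_⟩
    rw [heapp]
    ext i j
    fin_cases i <;> fin_cases j <;> simp [hJ₀] <;> ring
  have hEZ : ∀ W, ∃ c : k, E W = c • Z := fun W => by
    obtain ⟨c, hc⟩ := heJ ((↑U⁻¹ : Module.End k (Matrix (Fin 2) (Fin 2) k)) W)
    refine ⟨c, ?_⟩
    have h := LinearMap.congr_fun hEU ((↑U⁻¹ : Module.End k (Matrix (Fin 2) (Fin 2) k)) W)
    rw [Module.End.mul_apply, Module.End.mul_apply, hc, map_smul,
      show (U : Module.End k (Matrix (Fin 2) (Fin 2) k))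
        ((↑U⁻¹ : Module.End k (Matrix (Fin 2) (Fin 2) k)) W) = W from
        LinearMap.congr_fun U.mul_inv W] at h
    exact h
  have hEZ' : E Z = Z := by
    have h := LinearMap.congr_fun hEU J₀
    rw [Module.End.mul_apply, Module.End.mul_apply, show e J₀ = J₀ by
      rw [heapp]
      ext i j
      fin_cases i <;> fin_cases j <;> simp [hJ₀] <;> field_simp <;> ring] at h
    exact h
  have hZ0 : Z ≠ 0 := fun h => by
    have h1 : (↑U⁻¹ : Module.End k (Matrix (Fin 2) (Fin 2) k)) Z = J₀ :=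
      LinearMap.congr_fun U.inv_mul J₀
    rw [h, map_zero] at h1
    simpa [hJ₀] using congrFun (congrFun h1 0) 1
  have hfix : ∀ g : Γ, g ^ p = 1 → σ g Z = Z := fun g hg => by
    obtain ⟨c, hc⟩ := hEZ (σ g Z)
    rw [← Module.End.mul_apply, ← (hEc g).eq, Module.End.mul_apply, hEZ'] at hc
    have hn : ∀ n : ℕ, (σ g ^ n) Z = c ^ n • Z := fun n => by
      induction n with
      | zero => simp
      | succ n ih =>
        rw [pow_succ, Module.End.mul_apply, hc, map_smul, ih, smul_smul, ← pow_succ']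
    have h := hn p
    rw [← map_pow, hg, map_one, Module.End.one_apply] at h
    have hc1 : c ^ p = 1 := smul_left_injective k hZ0 (h.symm.trans (one_smul k Z).symm)
    have : c = 1 := frobenius_inj k p (by rw [frobenius_def, frobenius_def, hc1, one_pow])
    rw [hc, this, one_smul]
  -- the shape of the invariant
  have hZu := hfix u₁ (by rw [← hord, pow_orderOf_eq_one])
  rw [hσu] at hZu
  have hZ00 := congrFun (congrFun hZu 0) 0
  have hZ01 := congrFun (congrFun hZu 0) 1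
  simp [Matrix.mul_apply, Fin.sum_univ_two, -Matrix.cons_mul] at hZ00 hZ01
  have hd : Z 1 1 = 0 := by linear_combination hZ01
  have hcb : Z 1 0 = -Z 0 1 := by linear_combination hZ00 - hd
  refine ⟨Z 0 0 / Z 0 1, fun y hy hyp hn => ?_⟩
  obtain ⟨ν₀, hν₀⟩ := exists_param hyp hn
  set n := (y : Matrix (Fin 2) (Fin 2) k) 1 0 with hndef
  have hnp0 : n ^ p ≠ 0 := pow_ne_zero _ hn
  have key : ∀ ν : k, y = uSL ν * lSL n * uSL (-ν) →
      Z 0 1 * (n - n ^ p) = 0 ∧ Z 0 0 + Z 0 1 * (ν - ν ^ p) = 0 := by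
    intro ν hν
    have h := hfix ⟨y, hy⟩ (Subtype.ext (by simpa using hyp))
    rw [hσ, twistRep_apply] at h
    have hF : ∀ a : k, frobenius k p a = a ^ p := fun a => frobenius_def p a
    have e11 := congrFun (congrFun h 1) 1
    have e01 := congrFun (congrFun h 0) 1
    simp [hν, coe_uSL, coe_lSL, Matrix.mul_apply, Fin.sum_univ_two, hd, hcb, map_add, map_mul,
      map_sub, map_neg, -Matrix.cons_mul] at e11 e01
    simp only [hF] at e11 e01
    set A := Z 0 0 + Z 0 1 * (ν - ν ^ p) with hA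
    have hA0 : n ^ p * A = 0 := by
      rw [hA]
      linear_combination e01 - ν * e11
    have hA' : A = 0 := (mul_eq_zero.mp hA0).resolve_left hnp0
    refine ⟨?_, hA'⟩
    linear_combination e11 - n * hA0 + n * n ^ p * (hA ▸ hA' : Z 0 0 + Z 0 1 * (ν - ν ^ p) = 0) -
      n * n ^ p * (hA ▸ hA' : Z 0 0 + Z 0 1 * (ν - ν ^ p) = 0)
  obtain ⟨hb1, hb2⟩ := key ν₀ hν₀
  have hb : Z 0 1 ≠ 0 := fun h0 => hZ0 (by
    rw [h0, zero_mul, add_zero] at hb2
    ext i j
    fin_cases i <;> fin_cases j <;> simp [hb2, h0, hd, hcb])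
  refine ⟨(sub_eq_zero.mp ((mul_eq_zero.mp hb1).resolve_left hb)).symm, fun ν hν => ?_⟩
  have h := (key ν hν).2
  field_simp
  linear_combination -h

/-- Conjugating a subgroup by an upper unitriangular element. -/
def shiftΓ (Γ : Subgroup (SL2 k)) (μ : k) : Subgroup (SL2 k) :=
  Γ.comap (MulAut.conj (uSL μ)).toMonoidHom

theorem mem_shiftΓ {Γ : Subgroup (SL2 k)} {μ : k} {g : SL2 k} :
    g ∈ shiftΓ Γ μ ↔ uSL μ * g * uSL (-μ) ∈ Γ := by
  rw [shiftΓ, Subgroup.mem_comap, MulEquiv.toMonoidHom_eq_coe, MonoidHom.coe_coe,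
    MulAut.conj_apply, uSL_inv]

/-- The elements of order `p` lie in a conjugate of `SL₂(p)` contained in the group. -/
theorem exists_frame {Γ : Subgroup (SL2 k)} [Finite Γ] (hp5 : 5 ≤ p) (hu : uSL (1 : k) ∈ Γ)
    (hsq : ¬ p ^ 2 ∣ Nat.card Γ)
    (hy : ∃ y ∈ Γ, y ^ p = 1 ∧ (y : Matrix (Fin 2) (Fin 2) k) 1 0 ≠ 0) :
    ∃ μ : k,
      (∀ t : SL2 (ZMod p),
        uSL μ * Matrix.SpecialLinearGroup.map (ZMod.castHom dvd_rfl k) t * uSL (-μ) ∈ Γ) ∧
      ∀ g ∈ Γ, g ^ p = 1 → ∃ t : SL2 (ZMod p),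
        uSL μ * Matrix.SpecialLinearGroup.map (ZMod.castHom dvd_rfl k) t * uSL (-μ) = g := by
  classical
  set f := ZMod.castHom (dvd_refl p) k with hf
  have hord : orderOf (⟨uSL 1, hu⟩ : Γ) = p := by
    rw [← Subgroup.orderOf_coe]; exact orderOf_uSL one_ne_zero
  obtain ⟨Q, hQN, hQp, hQdec⟩ := exists_complement_normalizer hord hsq
  -- entries of the complement
  have hQ : ∀ q : Γ, q ∈ Q → (((q : SL2 k) : Matrix (Fin 2) (Fin 2) k) 1 0 = 0 ∧
      ∃ a : ℕ, ((q : SL2 k) : Matrix (Fin 2) (Fin 2) k) 0 0 ^ 2 = (a : k)) := by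
    intro q hq
    have h1 := (Subgroup.mem_normalizer_iff.mp (hQN hq) _).mp (Subgroup.mem_zpowers _)
    rw [← mem_powers_iff_mem_zpowers] at h1
    obtain ⟨a, ha⟩ := h1
    have ha' : uSL ((a : k) * 1) * (q : SL2 k) = (q : SL2 k) * uSL 1 := by
      have := congrArg Subtype.val ha
      simp only [SubmonoidClass.coe_pow, uSL_pow, Subgroup.coe_mul, InvMemClass.coe_inv] at this
      rw [this]; group
    have h11 := congrArg (fun g : SL2 k => (g : Matrix (Fin 2) (Fin 2) k) 1 1) ha'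
    have h01 := congrArg (fun g : SL2 k => (g : Matrix (Fin 2) (Fin 2) k) 0 1) ha'
    simp [coe_uSL, Matrix.mul_apply, Fin.sum_univ_two, -Matrix.cons_mul] at h11 h01
    have hdet := (q : SL2 k).2
    rw [Matrix.det_fin_two, h11, mul_zero, sub_zero] at hdet
    refine ⟨h11, a, ?_⟩
    linear_combination -((q : SL2 k) : Matrix (Fin 2) (Fin 2) k) 0 0 * h01 + (a : k) * hdet
  -- the frame making the complement diagonal
  haveI : Fintype Q := Fintype.ofFinite _
  have hQeq : ∀ q : Γ, q ∈ Q → ((q : SL2 k) : Matrix (Fin 2) (Fin 2) k) 0 0 =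
      ((q : SL2 k) : Matrix (Fin 2) (Fin 2) k) 1 1 → ((q : SL2 k) : Matrix (Fin 2) (Fin 2) k) 0 1 = 0 := by
    intro q hq he
    set l := ((q : SL2 k) : Matrix (Fin 2) (Fin 2) k) 0 0 with hl
    set β := ((q : SL2 k) : Matrix (Fin 2) (Fin 2) k) 0 1 with hβ
    have h10 := (hQ q hq).1
    have hform : ∀ n : ℕ, (((q : SL2 k) : Matrix (Fin 2) (Fin 2) k) ^ (n + 1)) 0 1 =
        ((n + 1 : ℕ) : k) * l ^ n * β ∧
        (((q : SL2 k) : Matrix (Fin 2) (Fin 2) k) ^ (n + 1)) 0 0 = l ^ (n + 1) := by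
      intro n
      induction n with
      | zero => simp [← hl, ← hβ]
      | succ n ih =>
        obtain ⟨i1, i2⟩ := ih
        rw [pow_succ _ (n + 1), Matrix.mul_apply, Matrix.mul_apply, Fin.sum_univ_two,
          Fin.sum_univ_two, i1, i2, ← hl, ← hβ, ← he, h10]
        refine ⟨?_, by ring⟩
        push_cast
        ring
    obtain ⟨r, hr⟩ : ∃ r, Nat.card Q = r + 1 := ⟨Nat.card Q - 1, by
      have : 0 < Nat.card Q := Nat.card_pos
      omega⟩
    have hpow : ((q : SL2 k) : Matrix (Fin 2) (Fin 2) k) ^ (r + 1) = 1 := by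
      rw [← hr, ← Matrix.SpecialLinearGroup.coe_pow, ← SubmonoidClass.coe_pow]
      have h := pow_card_eq_one' (x := (⟨q, hq⟩ : Q))
      have h' : q ^ Nat.card Q = 1 := congrArg Subtype.val h
      rw [h']
      simp
    have h1 := (hform r).1
    have h2 := (hform r).2
    rw [hpow, Matrix.one_apply_ne (by decide)] at h1
    rw [hpow, Matrix.one_apply_eq] at h2
    have hl0 : l ≠ 0 := fun h => by simp [h] at h2
    have hr0 : ((r + 1 : ℕ) : k) ≠ 0 := by rw [Ne, CharP.cast_eq_zero_iff k p, ← hr]; exact hQp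
    exact (mul_eq_zero.mp h1.symm).resolve_left (mul_ne_zero hr0 (pow_ne_zero _ hl0))
  obtain ⟨μ₀, hμ₀⟩ : ∃ μ : k, ∀ q : Γ, q ∈ Q →
      ((q : SL2 k) : Matrix (Fin 2) (Fin 2) k) 0 1 + μ * ((q : SL2 k) : Matrix (Fin 2) (Fin 2) k) 0 0 -
        μ * ((q : SL2 k) : Matrix (Fin 2) (Fin 2) k) 1 1 = 0 := by
    by_cases hex : ∃ q₀ : Γ, q₀ ∈ Q ∧ ((q₀ : SL2 k) : Matrix (Fin 2) (Fin 2) k) 0 0 ≠
        ((q₀ : SL2 k) : Matrix (Fin 2) (Fin 2) k) 1 1
    · obtain ⟨q₀, hq₀, hne⟩ := hex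
      refine ⟨((q₀ : SL2 k) : Matrix (Fin 2) (Fin 2) k) 0 1 /
        (((q₀ : SL2 k) : Matrix (Fin 2) (Fin 2) k) 1 1 - ((q₀ : SL2 k) : Matrix (Fin 2) (Fin 2) k) 0 0),
        fun q hq => ?_⟩
      have hcomm : q * q₀ = q₀ * q := by
        have hc : q * q₀ * (q₀ * q)⁻¹ ∈ Q :=
          mul_mem (mul_mem hq hq₀) (inv_mem (mul_mem hq₀ hq))
        have hkey : (q : SL2 k) * q₀ =
            (q * q₀ * (q₀ * q)⁻¹ : Γ) * ((q₀ : SL2 k) * q) := by push_cast; group
        obtain ⟨hc10, -⟩ := hQ _ hc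
        set c := ((q * q₀ * (q₀ * q)⁻¹ : Γ) : SL2 k) with hcdef
        have hq10 := (hQ q hq).1
        have hq₀10 := (hQ q₀ hq₀).1
        have hd1 := (q : SL2 k).2
        have hd0 := (q₀ : SL2 k).2
        rw [Matrix.det_fin_two, hq10, mul_zero, sub_zero] at hd1
        rw [Matrix.det_fin_two, hq₀10, mul_zero, sub_zero] at hd0
        have e00 := congrArg (fun g : SL2 k => (g : Matrix (Fin 2) (Fin 2) k) 0 0) hkey
        have e11 := congrArg (fun g : SL2 k => (g : Matrix (Fin 2) (Fin 2) k) 1 1) hkey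
        simp [Matrix.mul_apply, Fin.sum_univ_two, hq10, hq₀10, hc10, -Matrix.cons_mul] at e00 e11
        have c00 : (c : Matrix (Fin 2) (Fin 2) k) 0 0 = 1 := by
          linear_combination (-((q : SL2 k) : Matrix (Fin 2) (Fin 2) k) 1 1 *
            ((q₀ : SL2 k) : Matrix (Fin 2) (Fin 2) k) 1 1) * e00 +
            (1 - (c : Matrix (Fin 2) (Fin 2) k) 0 0) *
              (((q₀ : SL2 k) : Matrix (Fin 2) (Fin 2) k) 0 0 *
                ((q₀ : SL2 k) : Matrix (Fin 2) (Fin 2) k) 1 1 * hd1 + hd0)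
        have c11 : (c : Matrix (Fin 2) (Fin 2) k) 1 1 = 1 := by
          linear_combination (-((q : SL2 k) : Matrix (Fin 2) (Fin 2) k) 0 0 *
            ((q₀ : SL2 k) : Matrix (Fin 2) (Fin 2) k) 0 0) * e11 +
            (1 - (c : Matrix (Fin 2) (Fin 2) k) 1 1) *
              (((q₀ : SL2 k) : Matrix (Fin 2) (Fin 2) k) 0 0 *
                ((q₀ : SL2 k) : Matrix (Fin 2) (Fin 2) k) 1 1 * hd1 + hd0)
        have c01 := hQeq _ hc (c00.trans c11.symm)
        have hc1 : c = 1 := by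
          refine Subtype.ext ?_
          ext i j
          fin_cases i <;> fin_cases j <;> simp [c00, c11, hc10] <;> exact c01
        exact mul_inv_eq_one.mp (Subtype.ext hc1)
      have e := congrArg (fun g : Γ => ((g : SL2 k) : Matrix (Fin 2) (Fin 2) k) 0 1) hcomm
      simp [Matrix.mul_apply, Fin.sum_univ_two, -Matrix.cons_mul] at e
      have hne' : ((q₀ : SL2 k) : Matrix (Fin 2) (Fin 2) k) 1 1 -
          ((q₀ : SL2 k) : Matrix (Fin 2) (Fin 2) k) 0 0 ≠ 0 := sub_ne_zero.mpr hne.symm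
      field_simp
      linear_combination e
    · push_neg at hex
      exact ⟨0, fun q hq => by rw [hQeq q hq (hex q hq)]; ring⟩
  -- apply the twisted square
  set Γ' := shiftΓ Γ μ₀ with hΓ'
  let ι : Γ' →* Γ :=
    { toFun := fun g => ⟨uSL μ₀ * g * uSL (-μ₀), mem_shiftΓ.mp g.2⟩
      map_one' := Subtype.ext (by simp [uSL_mul, uSL_zero])
      map_mul' := fun a b => Subtype.ext (by
        simp only [Subgroup.coe_mul, ← uSL_inv]; group) }
  have hι : Function.Injective ι := fun a b h => Subtype.ext (by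
    have e : uSL μ₀ * (a : SL2 k) * uSL (-μ₀) = uSL μ₀ * (b : SL2 k) * uSL (-μ₀) :=
      congrArg Subtype.val h
    exact mul_left_cancel (mul_right_cancel e))
  haveI : Finite Γ' := Finite.of_injective ι hι
  have hsq' : ¬ p ^ 2 ∣ Nat.card Γ' := fun h => hsq (h.trans (Subgroup.card_dvd_of_injective ι hι))
  have hu' : uSL (1 : k) ∈ Γ' := by
    rw [hΓ', mem_shiftΓ, uSL_mul, uSL_mul, show μ₀ + 1 + -μ₀ = 1 by ring]; exact hu
  have hdiag : ∀ g ∈ Γ', (g : Matrix (Fin 2) (Fin 2) k) 1 0 = 0 →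
      g * uSL 1 * g⁻¹ ∈ Subgroup.zpowers (uSL (1 : k)) →
      ∃ (i : ℕ) (q : SL2 k), g = uSL (i : k) * q ∧ (q : Matrix (Fin 2) (Fin 2) k) 0 1 = 0 ∧
        ∃ ε : k, ((q : Matrix (Fin 2) (Fin 2) k).map (frobenius k p)) =
          ε • (q : Matrix (Fin 2) (Fin 2) k) := by
    intro g hg _ hconj
    have hfin : IsOfFinOrder (uSL (1 : k) : SL2 k) :=
      orderOf_pos_iff.mp (by rw [orderOf_uSL (one_ne_zero (α := k))]; exact hp.out.pos)
    rw [← hfin.mem_powers_iff_mem_zpowers] at hconj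
    obtain ⟨i, hi⟩ := hconj
    have hi' : uSL (i : k) = g * uSL 1 * g⁻¹ := by
      rw [← hi]; simp [uSL_pow]
    set n := ι ⟨g, hg⟩ with hn
    have hnN : n⁻¹ ∈ Subgroup.normalizer (Subgroup.zpowers (⟨uSL 1, hu⟩ : Γ) : Set Γ) := by
      refine mem_normalizer_of_conj (G := Γ) hsq hord (Subgroup.le_normalizer ?_)
      rw [inv_inv]
      refine ⟨i, Subtype.ext ?_⟩
      simp only [zpow_natCast, SubmonoidClass.coe_pow, uSL_pow, mul_one, Subgroup.coe_mul,
        InvMemClass.coe_inv]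
      show uSL (i : k) = uSL μ₀ * g * uSL (-μ₀) * uSL 1 * (uSL μ₀ * g * uSL (-μ₀))⁻¹
      calc uSL (i : k) = uSL μ₀ * (g * uSL 1 * g⁻¹) * uSL (-μ₀) := by
            rw [← hi', uSL_mul, uSL_mul]; congr 1; ring
        _ = uSL μ₀ * g * (uSL (-μ₀) * uSL 1 * uSL μ₀) * g⁻¹ * uSL (-μ₀) := by
            rw [uSL_mul, uSL_mul, show -μ₀ + 1 + μ₀ = (1 : k) by ring]; group
        _ = _ := by rw [_root_.mul_inv_rev, _root_.mul_inv_rev, uSL_inv, uSL_inv, neg_neg]; group
    obtain ⟨j, q, hq, hnq⟩ := hQdec n (by simpa using inv_mem hnN)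
    obtain ⟨hq10, a, ha⟩ := hQ q hq
    refine ⟨j, uSL (-μ₀) * q * uSL μ₀, ?_, ?_, ?_⟩
    · have h : uSL μ₀ * g * uSL (-μ₀) = uSL (j : k) * (q : SL2 k) := by
        have := congrArg Subtype.val hnq
        simp only [Subgroup.coe_mul, SubmonoidClass.coe_pow, uSL_pow, mul_one] at this
        exact this
      calc g = uSL (-μ₀) * (uSL μ₀ * g * uSL (-μ₀)) * uSL μ₀ := by rw [← uSL_inv]; group
        _ = uSL (-μ₀) * uSL (j : k) * (q : SL2 k) * uSL μ₀ := by rw [h]; group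
        _ = uSL (j : k) * uSL (-μ₀) * (q : SL2 k) * uSL μ₀ := by rw [uSL_mul, uSL_mul, add_comm]
        _ = _ := by group
    · simp [coe_uSL, Matrix.mul_apply, Fin.sum_univ_two, hq10, -Matrix.cons_mul]
      linear_combination hμ₀ q hq
    · set l := ((q : SL2 k) : Matrix (Fin 2) (Fin 2) k) 0 0 with hl
      set t := ((q : SL2 k) : Matrix (Fin 2) (Fin 2) k) 1 1 with ht
      have hlt : l * t = 1 := by
        have := (q : SL2 k).2
        rw [Matrix.det_fin_two, hq10, mul_zero, sub_zero] at this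
        exact this
      have hlp : l ^ p * l ^ p = l * l := by
        rw [← mul_pow, ← pow_two, ha, ← frobenius_def, map_natCast]
      have htp : t ^ p * l ^ p = 1 := by rw [← mul_pow, mul_comm t, hlt, one_pow]
      refine ⟨l ^ p * t, ?_⟩
      ext r c
      fin_cases r <;> fin_cases c <;>
        simp [coe_uSL, Matrix.mul_apply, Fin.sum_univ_two, hq10, frobenius_def, hp.out.ne_zero,
          ← hl, ← ht, -Matrix.cons_mul]
      · linear_combination -(l ^ p) * hlt
      · have h0 : l * μ₀ + ((q : SL2 k) : Matrix (Fin 2) (Fin 2) k) 0 1 + -(μ₀ * t) = 0 := by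
          linear_combination hμ₀ q hq
        rw [← add_assoc, h0, zero_pow hp.out.ne_zero, mul_zero]
      · linear_combination -(t ^ p) * (l * t + 1) * hlt + (-(t ^ p) * t ^ 2) * hlp +
          (l ^ p * t ^ 2) * htp
  obtain ⟨τ, hτ⟩ := exists_invariant hp5 hu' hsq' hdiag
  have hfix : ∀ g ∈ Γ, g ^ p = 1 →
      uSL (-μ₀) * g * uSL μ₀ ∈ Γ' ∧ (uSL (-μ₀) * g * uSL μ₀) ^ p = 1 := by
    intro g hg hgp
    refine ⟨?_, ?_⟩
    · rw [hΓ', mem_shiftΓ]
      convert hg using 1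
      rw [← uSL_inv]; group
    · rw [show uSL (-μ₀) * g * uSL μ₀ = (uSL μ₀)⁻¹ * g * ((uSL μ₀)⁻¹)⁻¹ by rw [inv_inv, uSL_inv],
        conj_pow, hgp]
      group
  obtain ⟨y, hyΓ, hyp, hy10⟩ := hy
  obtain ⟨hy', hyp'⟩ := hfix y hyΓ hyp
  set y' := uSL (-μ₀) * y * uSL μ₀ with hy'def
  have hy'10 : (y' : Matrix (Fin 2) (Fin 2) k) 1 0 = (y : Matrix (Fin 2) (Fin 2) k) 1 0 := by
    simp [hy'def, coe_uSL, Matrix.mul_apply, Fin.sum_univ_two, -Matrix.cons_mul]
  obtain ⟨ν₁, hν₁⟩ := exists_param hyp' (hy'10 ▸ hy10)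
  obtain ⟨hn₁, hτ₁⟩ := hτ y' hy' hyp' (hy'10 ▸ hy10)
  refine ⟨μ₀ + ν₁, ?_, ?_⟩
  · obtain ⟨b₁, hb₁⟩ := pow_char_eq_self_iff.mp hn₁
    have hb₁0 : b₁ ≠ 0 := fun h => (hy'10 ▸ hy10 : (y' : Matrix (Fin 2) (Fin 2) k) 1 0 ≠ 0) (by
      rw [← hb₁, h, map_zero])
    set μ := μ₀ + ν₁ with hμ
    let ψ : SL2 (ZMod p) →* SL2 k :=
      (MulAut.conj (uSL μ)).toMonoidHom.comp (Matrix.SpecialLinearGroup.map f)
    have hψ : ∀ t, ψ t = uSL μ * Matrix.SpecialLinearGroup.map f t * uSL (-μ) := fun t => by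
      simp [ψ, uSL_inv]
    have hmapu : ∀ a : ZMod p, Matrix.SpecialLinearGroup.map f (uSL a) = uSL (f a) := fun a =>
      Subtype.ext (by ext i j; fin_cases i <;> fin_cases j <;> simp [coe_uSL])
    have hmapl : ∀ a : ZMod p, Matrix.SpecialLinearGroup.map f (lSL a) = lSL (f a) := fun a =>
      Subtype.ext (by ext i j; fin_cases i <;> fin_cases j <;> simp [coe_lSL])
    set H := Γ.comap ψ with hH
    have hHu : ∀ a : ZMod p, uSL a ∈ H := fun a => by
      rw [hH, Subgroup.mem_comap, hψ, hmapu, uSL_mul, uSL_mul,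
        show μ + f a + -μ = ((a.val : ℕ) : k) * 1 by
          rw [mul_one, ← map_natCast f, ZMod.natCast_zmod_val]; ring, ← uSL_pow]
      exact pow_mem hu _
    have hHl : ∀ a : ZMod p, lSL a ∈ H := fun a => by
      obtain ⟨m, hm⟩ : ∃ m : ℕ, lSL a = lSL b₁ ^ m := ⟨(a / b₁).val, by
        rw [lSL_pow, ZMod.natCast_zmod_val, div_mul_cancel₀ _ hb₁0]⟩
      rw [hm]
      refine pow_mem ?_ _
      rw [hH, Subgroup.mem_comap, hψ, hmapl, hb₁]
      have e : uSL μ * lSL ((y' : Matrix (Fin 2) (Fin 2) k) 1 0) * uSL (-μ) = y := by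
        rw [hμ, neg_add_rev, ← uSL_mul μ₀, ← uSL_mul (-ν₁)]
        calc uSL μ₀ * uSL ν₁ * lSL ((y' : Matrix (Fin 2) (Fin 2) k) 1 0) * (uSL (-ν₁) * uSL (-μ₀))
            = uSL μ₀ * y' * uSL (-μ₀) := by conv_rhs => rw [hν₁]
                                            group
          _ = y := by rw [hy'def, ← uSL_inv]; group
      rw [e]
      exact hyΓ
    intro t
    rw [← hψ]
    show t ∈ H
    have hgen : ∀ t : SL2 (ZMod p), (t : Matrix (Fin 2) (Fin 2) (ZMod p)) 1 0 ≠ 0 → t ∈ H := by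
      intro t hne
      set n := (t : Matrix (Fin 2) (Fin 2) (ZMod p)) 1 0 with hn
      have hdet := t.2
      rw [Matrix.det_fin_two, ← hn] at hdet
      have e : t = uSL (((t : Matrix (Fin 2) (Fin 2) (ZMod p)) 0 0 - 1) / n) * lSL n *
          uSL (((t : Matrix (Fin 2) (Fin 2) (ZMod p)) 1 1 - 1) / n) := by
        refine Subtype.ext ?_
        ext i j
        fin_cases i <;> fin_cases j <;>
          simp [coe_uSL, coe_lSL, Matrix.mul_apply, Fin.sum_univ_two, ← hn, div_mul_cancel₀ _ hne,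
            mul_div_cancel₀ _ hne, -Matrix.cons_mul]
        field_simp
        linear_combination -hdet
      rw [e]
      exact mul_mem (mul_mem (hHu _) (hHl _)) (hHu _)
    by_cases h10 : (t : Matrix (Fin 2) (Fin 2) (ZMod p)) 1 0 = 0
    · have h11 : (t : Matrix (Fin 2) (Fin 2) (ZMod p)) 1 1 ≠ 0 := fun h => by
        have hdet := t.2
        rw [Matrix.det_fin_two, h10, h] at hdet
        simp at hdet
      have := hgen (t * lSL 1) (by
        simpa [coe_lSL, Matrix.mul_apply, Fin.sum_univ_two, h10] using h11)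
      exact (mul_mem_cancel_right (hHl 1)).mp this
    · exact hgen t h10
  · intro g hg hgp
    obtain ⟨hg', hgp'⟩ := hfix g hg hgp
    set g' := uSL (-μ₀) * g * uSL μ₀ with hg'def
    have hback : uSL μ₀ * g' * uSL (-μ₀) = g := by rw [hg'def, ← uSL_inv]; group
    by_cases h10 : (g' : Matrix (Fin 2) (Fin 2) k) 1 0 = 0
    · obtain ⟨i, hi⟩ := mem_zpowers_of_upper hu' hsq' hg' hgp' h10
      refine ⟨uSL (i : ZMod p), ?_⟩
      rw [← hback, hi, show Matrix.SpecialLinearGroup.map f (uSL (i : ZMod p)) = uSL (i : k) from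
        Subtype.ext (by ext r c; fin_cases r <;> fin_cases c <;> simp [coe_uSL]),
        uSL_mul, uSL_mul, uSL_mul, uSL_mul]
      congr 1
      ring
    · obtain ⟨ν, hν⟩ := exists_param hgp' h10
      obtain ⟨hn, hτ'⟩ := hτ g' hg' hgp' h10
      have hd : (ν - ν₁) ^ p = ν - ν₁ := by
        rw [sub_pow_char, hτ' ν hν, hτ₁ ν₁ hν₁]; ring
      obtain ⟨c, hc⟩ := pow_char_eq_self_iff.mp hd
      obtain ⟨b, hb⟩ := pow_char_eq_self_iff.mp hn
      refine ⟨uSL c * lSL b * uSL (-c), ?_⟩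
      rw [map_mul, map_mul,
        show Matrix.SpecialLinearGroup.map f (uSL c) = uSL (f c) from
          Subtype.ext (by ext r c; fin_cases r <;> fin_cases c <;> simp [coe_uSL]),
        show Matrix.SpecialLinearGroup.map f (uSL (-c)) = uSL (-f c) from
          Subtype.ext (by ext r c; fin_cases r <;> fin_cases c <;> simp [coe_uSL]),
        show Matrix.SpecialLinearGroup.map f (lSL b) = lSL (f b) from
          Subtype.ext (by ext r c; fin_cases r <;> fin_cases c <;> simp [coe_lSL]),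
        hc, hb]
      calc _ = uSL (μ₀ + ν₁) * uSL (ν - ν₁) * lSL ((g' : Matrix (Fin 2) (Fin 2) k) 1 0) *
            (uSL (-(ν - ν₁)) * uSL (-(μ₀ + ν₁))) := by group
        _ = uSL μ₀ * (uSL ν * lSL ((g' : Matrix (Fin 2) (Fin 2) k) 1 0) * uSL (-ν)) * uSL (-μ₀) := by
            rw [uSL_mul, uSL_mul, show μ₀ + ν₁ + (ν - ν₁) = μ₀ + ν by ring,
              show -(ν - ν₁) + -(μ₀ + ν₁) = -ν + -μ₀ by ring, ← uSL_mul, ← uSL_mul]
            group
        _ = g := by rw [← hν, hback]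

end CfsgLib.SmallDegree
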